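import Cfsg.Agent.Lib.J4.Defs
import Cfsg.Agent.Lib.J4.TCM
/-! The relators `RM` define a group of order at most `|M24|`. -/
set_option autoImplicit false
set_option maxRecDepth 100000
namespace H66.J4
open H54
def RA1 : List (List ℕ) := [[0, 0, 0]]
def RA3 : List (List ℕ) := [[0, 0, 0],
  [2, 2, 2],
  [4, 4, 4],
  [0, 3, 4, 2, 1, 3],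
  [0, 4, 1, 2, 0, 4, 1, 2],
  [0, 3, 0, 3, 0, 3, 0, 3, 0, 3]]
def RAH : List (List ℕ) := [[0, 0, 0],
  [2, 2, 2, 2, 2, 2],
  [0, 2, 0, 2, 0, 2, 0, 2, 0, 2],
  [0, 2, 1, 3, 3, 0, 2, 1, 3, 3],
  [0, 3, 0, 3, 0, 3, 0, 3, 0, 3],
  [0, 2, 2, 0, 2, 2, 0, 2, 2, 0, 2, 2, 0, 2, 2],
  [0, 2, 0, 3, 0, 2, 0, 3, 0, 2, 0, 3, 0, 2, 0, 3],
  [0, 2, 1, 3, 0, 2, 1, 3, 0, 2, 1, 3, 0, 2, 1, 3, 0, 2, 1, 3, 0, 2, 1, 3]]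
def RA4 : List (List ℕ) := [[0, 0, 0],
  [2, 2, 2],
  [4, 4, 4],
  [6, 6, 6],
  [0, 3, 4, 2, 1, 3],
  [0, 6, 5, 7, 4, 7],
  [0, 4, 1, 2, 0, 4, 1, 2],
  [0, 5, 6, 4, 0, 5, 6, 4],
  [0, 6, 4, 2, 0, 6, 4, 2],
  [0, 3, 0, 3, 0, 3, 0, 3, 0, 3],
  [4, 7, 4, 7, 4, 7, 4, 7, 4, 7]]
def RAX : List (List ℕ) := [[0, 0, 0],
  [2, 2, 2],
  [4, 4, 4],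
  [6, 6, 6],
  [0, 3, 4, 2, 1, 3],
  [0, 6, 5, 7, 4, 7],
  [0, 4, 1, 2, 0, 4, 1, 2],
  [0, 5, 6, 4, 0, 5, 6, 4],
  [0, 6, 4, 2, 0, 6, 4, 2],
  [0, 3, 0, 3, 0, 3, 0, 3, 0, 3],
  [4, 7, 4, 7, 4, 7, 4, 7, 4, 7],
  [2, 2, 2],
  [1, 2, 5, 1, 2, 5, 1, 2, 5, 1, 2, 5, 1, 2, 5, 1, 2, 5],
  [2, 1, 2, 5, 2, 1, 2, 5, 2, 1, 2, 5, 2, 1, 2, 5, 2, 1, 2, 5],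
  [2, 1, 2, 5, 3, 4, 3, 0, 4, 3, 0, 2, 1, 2, 5, 3, 4, 3, 0, 4, 3, 0],
  [2, 4, 3, 0, 2, 4, 3, 0, 2, 4, 3, 0, 2, 4, 3, 0, 2, 4, 3, 0],
  [2, 1, 2, 5, 1, 2, 5, 2, 1, 2, 5, 1, 2, 5, 2, 1, 2, 5, 1, 2, 5, 2, 1, 2, 5, 1, 2, 5, 2, 1, 2, 5, 1, 2, 5],
  [2, 1, 2, 5, 2, 4, 3, 0, 2, 1, 2, 5, 2, 4, 3, 0, 2, 1, 2, 5, 2, 4, 3, 0, 2, 1, 2, 5, 2, 4, 3, 0],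
  [2, 1, 2, 5, 3, 4, 3, 0, 2, 1, 2, 5, 3, 4, 3, 0, 2, 1, 2, 5, 3, 4, 3, 0, 2, 1, 2, 5, 3, 4, 3, 0, 2, 1, 2, 5, 3, 4, 3, 0, 2, 1, 2, 5, 3, 4, 3, 0]]
theorem bndA1 : Bnd RA1 1 3 :=
  Bnd.tc (bnd_zero []) (n := 3) (fun g ω => T54.J4a.enum g ω) (by decide) [0, 1] rfl (icol_ge _ rfl)
    []
    [([0, 1], []),
  ([1, 0], [])]
    (by decide +kernel)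
theorem bndA3 : Bnd RA3 3 17280 :=
  Bnd.tc bndA1 (n := 5760) (fun g ω => T54.J4b.enum g ω) (by decide) [0, 1, 2, 3, 4, 5] rfl (icol_ge _ rfl)
    [[0]]
    [([0, 1], []),
  ([1, 0], []),
  ([2, 3], []),
  ([3, 2], []),
  ([4, 5], []),
  ([5, 4], [])]
    (by decide +kernel)
theorem bndAH : Bnd RAH 2 960 :=
  Bnd.tc (bnd_zero []) (n := 960) (fun g ω => T54.J4c.enum g ω) (by decide) [0, 1, 2, 3] rfl (icol_ge _ rfl)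
    []
    [([0, 1], []),
  ([1, 0], []),
  ([2, 3], []),
  ([3, 2], [])]
    (by decide +kernel)
noncomputable def cA : H54.Cfg := ⟨34, 40, 6, 63, 0x9e69648e28607de75c6da6585d65544d24503ce34c2ca2481c61440c2040,
  0x41041041041041041041041041041041041041041041041041041041041,
  0x7df7df7df7df7df7df7df7df7df7df7df7df7df7df7df7df7df7df7df7df,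
  0x820820820820820820820820820820820820820820820820820820820820,
  (.cons 64 0x41041041041041041041041041041 120
    (.cons 65 0x41041041041041000000000000000041041041041041 60
    (.cons 66 0x1041041000000001041041000000001041041000000001041041 30
    (.cons 67 0x40040001001000040040001001000040040001001000040040001001 6
    (.cons 68 0x1001000040040001001000040040001001000040040001001000040040 6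
    (.cons 69 0x40040001001000040040001001000040040001001000040040001001 6
    (.cons 304 0x1001000040040001001000040040001001000040040001001000040040 6
    (.cons 305 0x40040001001000040040001001000040040001001000040040001001 6
    (.cons 306 0x1041041000000001041041000000001041041000000001041041 30
    (.cons 307 0x41041041041041000000000000000041041041041041 60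
    (.cons 308 0x41041041041041041041041041041 120
    .nil)))))))))))⟩
theorem cA_check : cA.check = true := by decide +kernel

noncomputable def pAa0 : ℕ := 0x9e69648e276179b8167d465c69849755335120940b1071460cf38c281002
noncomputable def pAn0 : ℕ := 0x41400000080000080081084100000000000440090890883000000100000004284200922100020a65a0041810800528428012892a061004200000000000000000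
noncomputable def pAa1 : ℕ := 0x9e69648e281d6df85879765651c4da49540d18544430338f28824b1c0081
noncomputable def pAn1 : ℕ := 0x410000020800000004841108100400410400920908c1000000108100000085080900820045a8488041a1080410c508012a12a021804080000000000000000
noncomputable def pAa2 : ℕ := 0x9e69648e28607dd69455e4dc6d95d85922113ce28b2443100c504d087180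
noncomputable def pAn2 : ℕ := 0x4040142200009084104042400001000000142208000008004000000000004420500090802200428428050a100004244280820002020081000000000000000000
noncomputable def pAa3 : ℕ := 0x9e69648e28607da7985dd5945536dc6524083ce10930d2d108118a1c3140
noncomputable def pAn3 : ℕ := 0x4040140201008000042040401000000044040208000008104100000000004420508080812a0412c428050a100000285280822002021000000000000000000000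
noncomputable def pAa4 : ℕ := 0x9e69648e26e085959e7da71d5d85534943cc28d2c7391202406143009044
noncomputable def pAn4 : ℕ := 0x410014200820000410000c4100010001001042080080000080420002100045205080000800005284280518108044201000820120004264080000000000000000
noncomputable def pAa5 : ℕ := 0x9e69648e27e06dc61985a7965dd55251328744b39034f089306140108043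
noncomputable def pAn5 : ℕ := 0x400400420820020c14800841000000004404420800800004c000010a10a0002440008008008612a42805120000002442008201200002a4280000000000000000
noncomputable def pAa6 : ℕ := 0x9e69648e255979651285f81d4d761b69c2473ce11008d04530b0ca206440
noncomputable def pAn6 : ℕ := 0x404400400820820424204841000000004410000020900c044200000010a04020520000082080420428041010000028428000a10a065204000000000000000000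
noncomputable def pAa7 : ℕ := 0x9e69648e24955d679d5188196a14dc7db3862420c500b34a0503113c41c8
noncomputable def pAn7 : ℕ := 0x108100414004420800820c24404841000000410404620820800020c208010a10a040204280822020865a04a0051a10a04424428082090a0242e0880000000000000000
noncomputable def pAa8 : ℕ := 0x9e69648e285959775e51c8156926d87d314e3072c00512843c908318d210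
noncomputable def pAn8 : ℕ := 0x14204220800100c14c14c41000000404214420820900410820c000000000520420080a108061224a00512102044204280928908061004280000000000000000
noncomputable def pAa9 : ℕ := 0x9e69648e285d5db8124d565a71859e51f2063444052472d104f38c08300a
noncomputable def pAn9 : ℕ := 0x410000020100000424010841000108414004020800820800c00c0000000044284000928100004a4428051a1000442c400082010a000884200000000000000000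
noncomputable def pAa10 : ℕ := 0x9e69648e28554dd72065669f61479b4970c130724644838f14d1022c0290
noncomputable def pAn10 : ℕ := 0x41000420080000001402404100000000000002080000000003460000000045200000900102044244a0041810a0450c5200820922004a84a00000000000000000
noncomputable def pAa11 : ℕ := 0x9e69648e285251b59d61955f71381e5da20c0d104724528440f38608d00b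
noncomputable def pAn11 : ℕ := 0x410000000000820024c20841000108404004020120820420800c0000002044205000122020804a44a0051a0000442840808081000402e4200000000000000000
noncomputable def pAa12 : ℕ := 0x9e69648e286071d59b61379f5194956970831d01512063c02cd10124e28c
noncomputable def pAn12 : ℕ := 0x108014400420920120800820041100100014000020020800034e34e010a0020052c40009089008212a408041810a00520520080a902004284200000000000000000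
noncomputable def pAa13 : ℕ := 0x9e69648e285b69279559d72065351761f40238044830318124428b1c534f
noncomputable def pAn13 : ℕ := 0x414614020020800010000041100100410400400100820814a146000000004528428080a92a0442a420051a10804100500010a100825a04280000000000000000
noncomputable def pAa14 : ℕ := 0x9e69648e285261565a7135df51681d6de1d124204b40534a0c03c6304388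
noncomputable def pAn14 : ℕ := 0x100100410414200128100800800841100100410014000820020c20434e01081000452c508092a90a02122408051a1000412c428012a020044a44000000000000000000
noncomputable def pAa15 : ℕ := 0x9e69648e285675e7db7126195e04d455a14d00f3040502022912c71890ce
noncomputable def pAn15 : ℕ := 0x4040040209281084048240411000004004004000209284100204000200004420400012a90a04420400051810204008408010a108065a00000000000000000000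
noncomputable def pAa16 : ℕ := 0x9e69648e285c75e6945df55859b4e06523433ce3111100892c1187288140
noncomputable def pAn16 : ℕ := 0x100100000410020120900030830040000000400004020820000820c1000108100000080000108922001a252805021000052850808208020208a0000000000000000000
noncomputable def pAa17 : ℕ := 0x9e69648e285b7de4945dd4d981c55661a1c53ce2814040891912cd3080c0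
noncomputable def pAn17 : ℕ := 0x10000040002012090843000004100000040000422080002080080000108100000080000908922001a042805100020052850808209008200a4000000000000000000
noncomputable def pAa18 : ℕ := 0x9e69648e286055e6545d37526d67dc69841120934b30a38f0c61441c0042
noncomputable def pAn18 : ℕ := 0x1001000100000001009088100200410001004000000208000000100000010810000500000010a12202128428041a10a000004000822000001004280000000000000000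
noncomputable def pAa19 : ℕ := 0x9e69648e28607de75c6da6585d65544d20c700f29044420230118d2c914e
noncomputable def pAn19 : ℕ := 0x100108400000420800928410810c000000000000000000000000000000010a102045245080928120041865800000000000000000
noncomputable def pAa20 : ℕ := 0x9e69648e286055e6545d37526d67dc69830b2421031cd00e44504a40f188
noncomputable def pAn20 : ℕ := 0x100100010000000100908810020041000000014000400800928c244108010810000500000010a12202128428041a10800024408012a802800ac4a80000000000000000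
noncomputable def pAa21 : ℕ := 0x9e69648e286061e4d751969f71649b75545020914c2c638f1ca3410c0102
noncomputable def pAn21 : ℕ := 0x1400402080000083040404100000041001002000082000400400000000004204000020002021a4420041a10a00100108080a12a804204200000000000000000
noncomputable def pAT : Tr := (.node 10 (.node 4 (.node 1 (.node 0 (.leaf pAa0) (.leaf pAa1)) (.node 2 (.leaf pAa2) (.node 3 (.leaf pAa3) (.leaf pAa4)))) (.node 7 (.node 5 (.leaf pAa5) (.node 6 (.leaf pAa6) (.leaf pAa7))) (.node 8 (.leaf pAa8) (.node 9 (.leaf pAa9) (.leaf pAa10))))) (.node 15 (.node 12 (.node 11 (.leaf pAa11) (.leaf pAa12)) (.node 13 (.leaf pAa13) (.node 14 (.leaf pAa14) (.leaf pAa15)))) (.node 18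 (.node 16 (.leaf pAa16) (.node 17 (.leaf pAa17) (.leaf pAa18))) (.node 19 (.leaf pAa19) (.node 20 (.leaf pAa20) (.leaf pAa21))))))
noncomputable def pAN : Tr := (.node 10 (.node 4 (.node 1 (.node 0 (.leaf pAn0) (.leaf pAn1)) (.node 2 (.leaf pAn2) (.node 3 (.leaf pAn3) (.leaf pAn4)))) (.node 7 (.node 5 (.leaf pAn5) (.node 6 (.leaf pAn6) (.leaf pAn7))) (.node 8 (.leaf pAn8) (.node 9 (.leaf pAn9) (.leaf pAn10))))) (.node 15 (.node 12 (.node 11 (.leaf pAn11) (.leaf pAn12)) (.node 13 (.leaf pAn13) (.node 14 (.leaf pAn14) (.leaf pAn15)))) (.node 18 (.node 16 (.leaf pAn16) (.node 17 (.leaf pAn17) (.leaf pAn18))) (.node 19 (.leaf pAn19) (.node 20 (.leaf pAn20) (.leaf pAn21))))))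
theorem pA_slp22 : AllEx (slpAt cA pAT.get pAN.get 3) 22 :=
  AllEx.step (AllEx.zero _) 22 (l := [([], []), ([], []), ([], []), ([], []), ([], []), ([], []), ([4, 1, 5, 3, 5, 2, 2, 2, 0, 2], []), ([0, 5, 6, 3, 6, 0, 3, 3, 2, 0], []), ([7, 0, 3, 4, 6, 2], [1, 4]), ([1, 7, 4, 0, 0, 4], [1, 2]), ([1, 4, 3, 3, 0, 1], [5, 6]), ([7, 0, 4, 1, 1, 5], [1, 7]), ([2, 2, 6, 0, 6, 5], []), ([1, 2, 0, 7, 0, 7], []), ([3, 1, 5, 5, 4, 7], [1, 2]), ([3, 7, 1, 5, 4, 1], [12, 1, 7]), ([7, 0, 2, 4, 1, 0], [8, 9, 7]), ([2, 1, 2, 7, 2, 0], [13, 4]), ([7, 4, 5, 5, 6, 3], [15, 8, 8, 5, 2]), ([3, 6, 5, 5, 3, 5], [15, 12, 5]), ([3, 3, 0, 2, 0, 0], [16, 16, 14]), ([4, 3, 6, 3, 4, 1], [18, 19,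 16, 16, 8, 7])]) (by decide +kernel)
theorem pA_slp : AllEx (slpAt cA pAT.get pAN.get 3) (21 + 1) := pA_slp22
noncomputable def pAch : BC := (.cons 33 16 64 [1537, 257] [0x4a67df]
  (.cons 30 15 64 [2817, 2561] [0x436cef]
  (.cons 32 6 64 [4353, 3841] [279]
  (.cons 17 6 64 [5121] [31]
  (.cons 31 2 64 [5377] [1]
  .nil)))))
theorem pA_blow : blow cA.n (wp cA pAT.get) (fun _ => true) pAch [] = true := by decide +kernel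
theorem pA_gens : gensOk cA pAT.get pAN.get 3 = true := by decide +kernel
theorem pA_rels : relsNet cA pAN.get 3 RA3 = true := by decide +kernel
theorem pA_model : ∃ p lt, Model RA3 3 17280 cA pAT.get 5 0x1f4607a1 (PoolGrp cA 34 pAT.get 3) (Fin 34) (finPt 34) p lt :=
  ⟨_, exists_model (n := 34) bndA3 cA_check rfl pA_slp pA_gens pA_rels pA_blow (by decide +kernel)⟩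
theorem impA3 : Imp RA3 [[2, 2, 2], [1, 2, 5, 1, 2, 5, 1, 2, 5, 1, 2, 5, 1, 2, 5, 1, 2, 5], [2, 1, 2, 5, 2, 1, 2, 5, 2, 1, 2, 5, 2, 1, 2, 5, 2, 1, 2, 5], [2, 1, 2, 5, 3, 4, 3, 0, 4, 3, 0, 2, 1, 2, 5, 3, 4, 3, 0, 4, 3, 0], [2, 4, 3, 0, 2, 4, 3, 0, 2, 4, 3, 0, 2, 4, 3, 0, 2, 4, 3, 0], [2, 1, 2, 5, 1, 2, 5, 2, 1, 2, 5, 1, 2, 5, 2, 1, 2, 5, 1, 2, 5, 2, 1, 2, 5, 1, 2, 5, 2, 1, 2, 5, 1, 2, 5], [2, 1, 2, 5, 2, 4, 3, 0, 2, 1, 2, 5, 2, 4, 3, 0, 2, 1, 2, 5, 2, 4, 3, 0, 2, 1, 2, 5, 2, 4, 3, 0], [2, 1, 2, 5, 3, 4, 3, 0, 2, 1, 2, 5, 3, 4, 3, 0, 2, 1, 2, 5, 3, 4, 3, 0, 2, 1, 2, 5, 3, 4, 3, 0, 2, 1, 2, 5, 3, 4, 3, 0, 2, 1, 2, 5, 3, 4, 3, 0]] := Imp.model pA_model (by decide +kernel)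
theorem impAX : Imp RA4 RAX :=
  Imp.add impA3 [[0],
  [2],
  [4]]
    []
    []
    (by decide +kernel)
theorem bndAX : Bnd RAX 4 443520 :=
  Bnd.tc bndAH (n := 462) (fun g ω => T54.J4d.enum g ω) (by decide) [0, 1, 2, 3, 4, 5, 6, 7] rfl (icol_ge _ rfl)
    [[2],
  [1, 2, 5]]
    [([0, 1], []),
  ([1, 0], []),
  ([2, 3], []),
  ([3, 2], []),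
  ([4, 5], []),
  ([5, 4], []),
  ([6, 7], []),
  ([7, 6], [])]
    (by decide +kernel)
theorem bndA4 : Bnd RA4 4 443520 := bndAX.imp impAX
theorem bndM : Bnd RM 2 244823040 :=
  Bnd.tc bndA4 (n := 552) (fun g ω => T54.J4e.enum g ω) (by decide) [0, 2, 3] rfl (icol_ge _ rfl)
    [[3, 0, 3, 0, 2, 0, 2, 0, 2, 0, 3, 0, 3, 0, 2, 0, 2],
  [3, 0, 3, 0, 2, 0, 3, 0, 2, 0, 2, 0, 3, 0, 2, 0, 2],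
  [3, 0, 3, 0, 3, 0, 3, 0, 2, 0, 2, 0, 3, 0, 2, 0, 2, 0, 2, 0, 2],
  [3, 0, 3, 0, 3, 0, 3, 0, 3, 0, 2, 0, 2, 0, 2, 0, 2, 0, 2, 0, 2]]
    [([2, 3], []),
  ([3, 2], []),
  ([0, 3, 0, 2, 0, 3, 0, 2, 0, 3, 0, 2, 0, 3, 0, 2, 0, 3, 0, 2, 0, 3, 0, 2, 0, 3, 0, 2, 0, 3, 0, 2, 0, 3, 0, 2, 0, 3, 0, 2, 0, 3, 0, 2, 0, 3, 0, 2], [([], 7), ([1, 3, 0, 2, 1, 3, 0, 2, 1, 3, 0, 2, 1, 3, 0, 2, 1, 3, 0, 2, 1, 3, 0, 2, 1, 3, 0, 2, 1, 3, 0, 2, 1, 3, 0, 2, 1, 3, 0, 2, 1, 3, 0, 2], 1), ([1, 3, 0, 2, 1, 3, 0, 2, 1, 3, 0, 2, 1, 3, 0, 2, 1, 3, 0, 2, 1, 3, 0, 2, 1, 3, 0, 2, 1, 3, 0, 2, 1, 3, 0, 2, 1, 3, 0, 2], 1), ([1, 3, 0, 2, 1, 3, 0, 2, 1, 3, 0, 2, 1, 3, 0, 2, 1, 3, 0, 2, 1, 3, 0, 2, 1, 3,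 0, 2, 1, 3, 0, 2, 1, 3, 0, 2], 1), ([1, 3, 0, 2, 1, 3, 0, 2, 1, 3, 0, 2, 1, 3, 0, 2, 1, 3, 0, 2, 1, 3, 0, 2, 1, 3, 0, 2, 1, 3, 0, 2], 1), ([1, 3, 0, 2, 1, 3, 0, 2, 1, 3, 0, 2, 1, 3, 0, 2, 1, 3, 0, 2, 1, 3, 0, 2, 1, 3, 0, 2], 1), ([1, 3, 0, 2, 1, 3, 0, 2, 1, 3, 0, 2, 1, 3, 0, 2, 1, 3, 0, 2, 1, 3, 0, 2], 1), ([1, 3, 0, 2, 1, 3, 0, 2, 1, 3, 0, 2, 1, 3, 0, 2, 1, 3, 0, 2], 1), ([1, 3, 0, 2, 1, 3, 0, 2, 1, 3, 0, 2, 1, 3, 0, 2], 1), ([1, 3, 0, 2, 1, 3, 0, 2, 1, 3, 0, 2], 1), ([1, 3, 0, 2, 1, 3, 0, 2], 1), ([1, 3, 0, 2], 1), ([], 1)]),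
  ([0, 3, 0, 3, 0, 2, 0, 2, 0, 3, 0, 3, 0, 2, 0, 2, 0, 3, 0, 3, 0, 2, 0, 2, 0, 3, 0, 3, 0, 2, 0, 2, 0, 3, 0, 3, 0, 2, 0, 2], [([], 9), ([1, 3, 1, 3, 0, 2, 0, 2, 1, 3, 1, 3, 0, 2, 0, 2, 1, 3, 1, 3, 0, 2, 0, 2, 1, 3, 1, 3, 0, 2, 0, 2, 1, 3], 1), ([1, 3, 1, 3, 0, 2, 0, 2, 1, 3, 1, 3, 0, 2, 0, 2, 1, 3, 1, 3, 0, 2, 0, 2, 1, 3, 1, 3, 0, 2, 0, 2], 1), ([1, 3, 1, 3, 0, 2, 0, 2, 1, 3, 1, 3, 0, 2, 0, 2, 1, 3, 1, 3, 0, 2, 0, 2, 1, 3], 1), ([1, 3, 1, 3, 0, 2, 0, 2, 1, 3, 1, 3, 0, 2, 0, 2, 1, 3, 1, 3, 0, 2, 0, 2], 1), ([1, 3, 1, 3, 0, 2, 0, 2, 1, 3, 1, 3, 0, 2, 0, 2, 1, 3], 1), ([1, 3, 1, 3, 0, 2, 0, 2, 1, 3, 1, 3, 0, 2, 0, 2], 1), ([1, 3, 1, 3, 0, 2, 0, 2, 1, 3], 1), ([1, 3,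 1, 3, 0, 2, 0, 2], 1), ([1, 3], 1), ([], 1)]),
  ([3, 0, 3, 0, 2, 0, 2, 0, 2, 0, 3, 0, 3, 0, 2, 0, 2, 3, 0, 3, 0, 2, 0, 2, 0, 2, 0, 3, 0, 3, 0, 2, 0, 2, 3, 0, 3, 0, 2, 0, 2, 0, 2, 0, 3, 0, 3, 0, 2, 0, 2], [([3, 1, 3, 1, 2, 1, 2, 1, 3, 1, 3, 1, 3, 1, 2, 1, 1, 3, 1, 2, 1, 2, 1, 3, 1, 3, 1, 3, 1, 2], 1), ([3, 1, 3, 1, 2, 1, 2, 1, 3, 1, 3, 1, 3, 1, 2, 1, 1, 3, 1, 2, 1, 2, 1, 3, 1, 3, 1, 3], 1), ([3, 1, 3, 1, 2, 1, 2, 1, 3, 1, 3, 1, 3, 1, 2, 1, 1, 3, 1, 2, 1, 2, 1, 3, 1, 3], 1), ([3, 1, 3, 1, 2, 1, 2, 1, 3, 1, 3, 1, 3, 1, 2, 1, 1, 3, 1, 2, 1, 2, 1, 3], 1), ([3, 1, 3, 1, 2, 1, 2, 1, 3, 1, 3, 1, 3, 1, 2], 1), ([3, 1, 3, 1, 2, 1, 2, 1, 3, 1, 3, 1, 3], 1), ([3, 1, 3, 1, 2,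 1, 2, 1, 3, 1, 3], 1), ([3, 1, 3, 1, 2, 1, 2, 1, 3], 1), ([3, 1, 3, 1, 2, 1, 2, 1], 3), ([3, 1, 3, 1, 2, 1, 2], 1), ([3, 1, 3, 1, 2], 1), ([3, 1, 3], 1), ([3], 1)]),
  ([3, 0, 3, 0, 2, 0, 3, 0, 2, 0, 2, 0, 3, 0, 2, 0, 2, 3, 0, 3, 0, 2, 0, 3, 0, 2, 0, 2, 0, 3, 0, 2, 0, 2, 3, 0, 3, 0, 2, 0, 3, 0, 2, 0, 2, 0, 3, 0, 2, 0, 2], [([3, 1, 3, 1, 2, 1, 3, 1, 3, 1, 2, 1, 3, 1, 2, 1, 1, 3, 1, 2, 1, 3, 1, 3, 1, 2, 1, 3, 1, 2], 1), ([3, 1, 3, 1, 2, 1, 3, 1, 3, 1, 2, 1, 3, 1, 2, 1, 1, 3, 1, 2, 1, 3, 1, 3, 1, 2, 1, 3], 1), ([3, 1, 3, 1, 2, 1, 3, 1, 3, 1, 2, 1, 3, 1, 2, 1, 1, 3, 1, 2, 1, 3, 1, 3, 1, 2], 1), ([3, 1, 3, 1, 2, 1, 3, 1, 3, 1, 2, 1, 3, 1, 2, 1, 1, 3, 1, 2, 1, 3, 1, 3],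 1), ([3, 1, 3, 1, 2, 1, 3, 1, 3, 1, 2, 1, 3, 1, 2], 1), ([3, 1, 3, 1, 2, 1, 3, 1, 3, 1, 2, 1, 3], 1), ([3, 1, 3, 1, 2, 1, 3, 1, 3, 1, 2], 1), ([3, 1, 3, 1, 2, 1, 3, 1, 3], 1), ([3, 1, 3, 1, 2, 1, 3, 1], 3), ([3, 1, 3, 1, 2, 1, 3], 1), ([3, 1, 3, 1, 2], 1), ([3, 1, 3], 1), ([3], 1)]),
  ([3, 0, 3, 0, 3, 0, 3, 0, 2, 0, 2, 0, 3, 0, 2, 0, 2, 0, 2, 0, 2, 3, 0, 3, 0, 3, 0, 3, 0, 2, 0, 2, 0, 3, 0, 2, 0, 2, 0, 2, 0, 2, 3, 0, 3, 0, 3, 0, 3, 0, 2, 0, 2, 0, 3, 0, 2, 0, 2, 0, 2, 0, 2], [([3, 1, 3, 1, 3, 1, 3, 1, 2, 1, 3, 1, 3, 1, 2, 1, 2, 1, 2, 1, 1, 3, 1, 3, 1, 3, 1, 2, 1, 3, 1, 3, 1, 2, 1, 2, 1, 2], 1), ([3, 1, 3, 1, 3, 1, 3, 1, 2, 1, 3, 1, 3, 1, 2, 1, 2, 1, 2, 1, 1, 3, 1,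 3, 1, 3, 1, 2, 1, 3, 1, 3, 1, 2, 1, 2], 1), ([3, 1, 3, 1, 3, 1, 3, 1, 2, 1, 3, 1, 3, 1, 2, 1, 2, 1, 2, 1, 1, 3, 1, 3, 1, 3, 1, 2, 1, 3, 1, 3, 1, 2], 1), ([3, 1, 3, 1, 3, 1, 3, 1, 2, 1, 3, 1, 3, 1, 2, 1, 2, 1, 2, 1, 1, 3, 1, 3, 1, 3, 1, 2, 1, 3, 1, 3], 1), ([3, 1, 3, 1, 3, 1, 3, 1, 2, 1, 3, 1, 3, 1, 2, 1, 2, 1, 2, 1, 1, 3, 1, 3, 1, 3, 1, 2, 1, 3], 1), ([3, 1, 3, 1, 3, 1, 3, 1, 2, 1, 3, 1, 3, 1, 2, 1, 2, 1, 2], 1), ([3, 1, 3, 1, 3, 1, 3, 1, 2, 1, 3, 1, 3, 1, 2, 1, 2], 1), ([3, 1, 3, 1, 3, 1, 3, 1, 2, 1, 3, 1, 3, 1, 2], 1), ([3, 1, 3, 1, 3, 1, 3, 1, 2, 1, 3, 1, 3], 1), ([3, 1, 3, 1, 3, 1, 3, 1, 2, 1, 3], 1), ([3, 1, 3, 1, 3, 1, 3, 1, 2, 1], 3), ([3, 1, 3, 1, 3, 1, 3,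 1, 2], 1), ([3, 1, 3, 1, 3, 1, 3], 1), ([3, 1, 3, 1, 3], 1), ([3, 1, 3], 1), ([3], 1)]),
  ([3, 0, 3, 0, 3, 0, 3, 0, 3, 0, 2, 0, 2, 0, 2, 0, 2, 0, 2, 0, 2, 3, 0, 3, 0, 3, 0, 3, 0, 3, 0, 2, 0, 2, 0, 2, 0, 2, 0, 2, 0, 2, 3, 0, 3, 0, 3, 0, 3, 0, 3, 0, 2, 0, 2, 0, 2, 0, 2, 0, 2, 0, 2], [([3, 1, 3, 1, 3, 1, 3, 1, 3, 1, 3, 1, 2, 1, 2, 1, 2, 1, 2, 1, 1, 3, 1, 3, 1, 3, 1, 3, 1, 3, 1, 2, 1, 2, 1, 2, 1, 2], 1), ([3, 1, 3, 1, 3, 1, 3, 1, 3, 1, 3, 1, 2, 1, 2, 1, 2, 1, 2, 1, 1, 3, 1, 3, 1, 3, 1, 3, 1, 3, 1, 2, 1, 2, 1, 2], 1), ([3, 1, 3, 1, 3, 1, 3, 1, 3, 1, 3, 1, 2, 1, 2, 1, 2, 1, 2, 1, 1, 3, 1, 3, 1, 3, 1, 3, 1, 3, 1, 2, 1, 2], 1), ([3, 1, 3, 1, 3, 1, 3, 1, 3, 1, 3, 1, 2, 1,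 2, 1, 2, 1, 2, 1, 1, 3, 1, 3, 1, 3, 1, 3, 1, 3, 1, 2], 1), ([3, 1, 3, 1, 3, 1, 3, 1, 3, 1, 3, 1, 2, 1, 2, 1, 2, 1, 2, 1, 1, 3, 1, 3, 1, 3, 1, 3, 1, 3], 1), ([3, 1, 3, 1, 3, 1, 3, 1, 3, 1, 3, 1, 2, 1, 2, 1, 2, 1, 2], 1), ([3, 1, 3, 1, 3, 1, 3, 1, 3, 1, 3, 1, 2, 1, 2, 1, 2], 1), ([3, 1, 3, 1, 3, 1, 3, 1, 3, 1, 3, 1, 2, 1, 2], 1), ([3, 1, 3, 1, 3, 1, 3, 1, 3, 1, 3, 1, 2], 1), ([3, 1, 3, 1, 3, 1, 3, 1, 3, 1, 3], 1), ([3, 1, 3, 1, 3, 1, 3, 1, 3, 1], 3), ([3, 1, 3, 1, 3, 1, 3, 1, 3], 1), ([3, 1, 3, 1, 3, 1, 3], 1), ([3, 1, 3, 1, 3], 1), ([3, 1, 3], 1), ([3], 1)]),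
  ([3, 0, 3, 0, 2, 0, 2, 0, 2, 0, 3, 0, 3, 0, 2, 0, 2, 3, 1, 3, 1, 2, 1, 3, 1, 3, 1, 2, 1, 3, 1, 2, 1, 2, 3, 0, 3, 0, 3, 0, 3, 0, 2, 0, 2, 0, 3, 0, 2, 0, 2, 0, 2, 0, 2, 3, 0, 3, 0, 2, 0, 3, 0, 2, 0, 2, 0, 3, 0, 2, 0, 2, 3, 1, 3, 1, 2, 1, 2, 1, 3, 1, 3, 1, 3, 1, 2, 1, 2, 3, 1, 3, 1, 2, 1, 3, 1, 3, 1, 2, 1, 3, 1, 2, 1, 2], [([3, 0, 3, 0, 2, 0, 3, 0, 2, 0, 2, 0, 3, 0, 2, 0, 0, 3, 0, 2, 0, 2, 0, 2, 0, 3, 3, 1, 3, 1, 2, 1, 3, 1, 2, 1, 1, 3, 1, 3, 1, 3, 1, 2, 1, 3, 1, 3, 1, 2, 1, 2, 2, 0, 3, 0, 2], 0), ([3, 0, 3, 0, 2, 0, 3, 0, 2, 0, 2, 0, 3, 0, 2, 0, 0, 3, 0, 2, 0, 2, 0, 2, 0, 3, 3, 1, 3, 1, 2, 1, 3, 1, 2, 1, 1, 3, 1, 3, 1, 3, 1, 2, 1, 3, 1, 3, 1, 2, 1, 2, 2, 0, 3], 0),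 ([3, 0, 3, 0, 2, 0, 3, 0, 2, 0, 2, 0, 3, 0, 2, 0, 0, 3, 0, 2, 0, 2, 0, 2, 0, 3, 3, 1, 3, 1, 2, 1, 3, 1, 2, 1, 1, 3, 1, 3, 1, 3, 1, 2, 1, 3, 1, 3, 1, 2, 1, 2, 2], 0), ([3, 0, 3, 0, 2, 0, 3, 0, 2, 0, 2, 0, 3, 0, 2, 0, 0, 3, 0, 2, 0, 2, 0, 2, 0, 3, 3, 1, 3, 1, 2, 1, 3, 1, 2], 1), ([3, 0, 3, 0, 2, 0, 3, 0, 2, 0, 2, 0, 3, 0, 2, 0, 0, 3, 0, 2, 0, 2, 0, 2, 0, 3, 3, 1, 3, 1, 2, 1, 3], 1), ([3, 0, 3, 0, 2, 0, 3, 0, 2, 0, 2, 0, 3, 0, 2, 0, 0, 3, 0, 2, 0, 2, 0, 2], 0), ([3, 0, 3, 0, 2, 0, 3, 0, 2, 0, 2, 0, 3, 0, 2, 0, 0, 3, 0, 2, 0, 2], 0), ([3, 0, 3, 0, 2, 0, 3, 0, 2, 0, 2, 0, 3, 0, 2, 0, 0, 3, 0, 2], 0), ([3, 0, 3, 0, 2, 0, 3, 0, 2, 0, 2, 0, 3, 0, 2, 0, 0, 3], 0), ([3, 0,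 3, 0, 2, 0, 3, 0, 2, 0, 2, 0, 3, 0, 2, 0], 0), ([3, 0, 3, 0, 2, 0, 3, 0, 2], 0), ([3, 0, 3, 0, 2, 0, 3], 0), ([3, 0, 3, 0, 2], 0), ([3, 0, 3], 0), ([3], 0), ([3, 1, 3, 1, 2, 1, 3, 1, 2, 1, 2, 2, 1, 2, 1, 3, 3, 1, 3, 1, 2, 1, 3, 3, 1, 3, 1, 2, 1, 3, 1, 3, 1, 2, 1, 2, 2, 1, 3, 1, 2, 1, 3], 2), ([3, 1, 3, 1, 2, 1, 3, 1, 2, 1, 2, 2, 1, 2, 1, 3, 3, 1, 3, 1, 2, 1, 3, 3, 1, 3, 1, 2, 1, 3, 1, 3, 1, 2, 1, 3], 2), ([3, 1, 3, 1, 2, 1, 3, 1, 2, 1, 2, 2, 1, 2, 1, 3, 3, 1, 3, 1, 2, 1, 3, 3, 3, 0, 3, 0, 2, 0, 3, 0, 3, 0, 2, 0, 3, 0, 3], 13), ([3, 1, 3, 1, 2, 1, 3, 1, 2, 1, 2, 2, 1, 2, 1, 3, 3, 1, 3, 1, 2, 1, 3, 3, 3, 0, 3, 0, 2, 0, 3, 0, 3, 0, 2, 0, 3], 0), ([3, 1, 3, 1, 2, 1, 3,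 1, 2, 1, 2, 2, 1, 2, 1, 3, 3, 1, 3, 1, 2, 1, 3, 3, 3, 0, 3, 0, 2, 0, 3, 0, 3, 0, 2], 0), ([3, 1, 3, 1, 2, 1, 3, 1, 2, 1, 2, 2, 1, 2, 1, 3, 3, 1, 3, 1, 2, 1, 3, 3, 3, 0, 3, 0, 2, 0, 3, 0, 3], 0), ([3, 1, 3, 1, 2, 1, 3, 1, 2, 1, 2, 2, 1, 2, 1, 3, 3, 1, 3, 1, 2, 1, 3, 3, 3, 0, 3, 0, 2, 0, 3], 0), ([3, 1, 3, 1, 2, 1, 3, 1, 2, 1, 2, 2, 1, 2, 1, 3, 3, 1, 3, 1, 2, 1, 3, 3, 3, 0, 3, 0, 2], 0), ([3, 1, 3, 1, 2, 1, 3, 1, 2, 1, 2, 2, 1, 2, 1, 3, 3, 1, 3, 1, 2, 1, 3, 3, 3, 0, 3], 0), ([3, 1, 3, 1, 2, 1, 3, 1, 2, 1, 2, 2, 1, 2, 1, 3, 3, 1, 3, 1, 2, 1, 3, 3, 3], 0), ([3, 1, 3, 1, 2, 1, 3, 1, 2, 1, 2, 2, 1, 2, 1, 3, 3, 1, 3, 1, 2, 1], 3), ([3, 1, 3, 1, 2, 1, 3, 1, 2, 1, 2, 2, 1,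 2, 1, 3, 3, 1, 3, 1, 2], 1), ([3, 1, 3, 1, 2, 1, 3, 1, 2, 1, 2, 2, 1, 2, 1, 3, 3, 1, 3], 1), ([3, 1, 3, 1, 2, 1, 3, 1, 2, 1, 2, 2, 1, 2, 1, 3, 3], 1), ([3, 1, 3, 1, 2, 1, 3, 1, 2, 1, 2, 2, 1, 2, 1, 2], 3), ([3, 1, 3, 1, 2, 1, 3, 1, 2, 1, 2, 2, 1, 2], 1), ([3, 1, 3, 1, 2, 1, 3, 1, 2, 1, 2, 2], 1), ([3, 1, 3, 1, 2, 1, 3, 1, 2, 1, 3], 2), ([3, 1, 3, 1, 2, 1, 3, 1, 2], 1), ([3, 1, 3, 1, 2, 1, 3], 1), ([3, 1, 3, 1, 2, 1], 3), ([3, 1, 3, 1, 2], 1), ([3, 1, 3], 1), ([3], 1)]),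
  ([3, 0, 3, 0, 2, 0, 2, 0, 2, 0, 3, 0, 3, 0, 2, 0, 2, 3, 0, 3, 0, 3, 0, 3, 0, 3, 0, 2, 0, 2, 0, 2, 0, 2, 0, 2, 0, 2, 3, 1, 3, 1, 3, 1, 3, 1, 2, 1, 3, 1, 3, 1, 2, 1, 2, 1, 2, 1, 2, 3, 1, 3, 1, 3, 1, 3, 1, 3, 1, 3, 1, 2, 1, 2, 1, 2, 1, 2, 1, 2, 3, 0, 3, 0, 3, 0, 3, 0, 2, 0, 2, 0, 3, 0, 2, 0, 2, 0, 2, 0, 2, 3, 1, 3, 1, 3, 1, 3, 1, 3, 1, 3, 1, 2, 1, 2, 1, 2, 1, 2, 1, 2], [([3, 0, 3, 0, 3, 0, 3, 0, 3, 0, 2, 0, 2, 2, 1, 3, 1, 3, 3, 0, 2, 0, 2, 0, 2, 0, 2, 0, 2, 0, 0, 3, 0, 3, 0, 3, 0, 2, 0, 2, 0, 3, 3, 1, 3, 1, 2, 1, 2, 1, 2, 1, 2], 1), ([3, 0, 3, 0, 3, 0, 3, 0, 3, 0, 2, 0, 2, 2, 1, 3, 1, 3, 3, 0, 2, 0, 2, 0, 2, 0, 2, 0, 2, 0, 0, 3, 0, 3, 0, 3, 0, 2, 0, 2, 0, 3, 3, 1,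 3, 1, 2, 1, 2, 1, 2], 1), ([3, 0, 3, 0, 3, 0, 3, 0, 3, 0, 2, 0, 2, 2, 1, 3, 1, 3, 3, 0, 2, 0, 2, 0, 2, 0, 2, 0, 2, 0, 0, 3, 0, 3, 0, 3, 0, 2, 0, 2], 0), ([3, 0, 3, 0, 3, 0, 3, 0, 3, 0, 2, 0, 2, 2, 1, 3, 1, 3, 3, 0, 2, 0, 2, 0, 2, 0, 2, 0, 2, 0, 0, 3, 0, 3, 0, 3, 0, 2], 0), ([3, 0, 3, 0, 3, 0, 3, 0, 3, 0, 2, 0, 2, 2, 1, 3, 1, 3, 3, 0, 2, 0, 2, 0, 2, 0, 2, 0, 2, 0, 0, 3, 0, 3, 0, 3], 0), ([3, 0, 3, 0, 3, 0, 3, 0, 3, 0, 2, 0, 2, 2, 1, 3, 1, 3, 3, 0, 2, 0, 2, 0, 2, 0, 2, 0, 2, 0, 0, 3, 0, 3], 0), ([3, 0, 3, 0, 3, 0, 3, 0, 3, 0, 2, 0, 2, 2, 1, 3, 1, 3, 3, 0, 2, 0, 2, 0, 2, 0, 2, 0, 2, 0, 0, 3], 0), ([3, 0, 3, 0, 3, 0, 3, 0, 3, 0, 2, 0, 2, 2, 1, 3, 1, 3, 3, 0, 2, 0, 2,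 0, 2, 0, 2, 0, 2, 0], 0), ([3, 0, 3, 0, 3, 0, 3, 0, 3, 0, 2, 0, 2, 2, 1, 3, 1, 3, 3, 0, 2], 0), ([3, 0, 3, 0, 3, 0, 3, 0, 3, 0, 2, 0, 2, 2, 1, 3, 1, 3, 3], 0), ([3, 0, 3, 0, 3, 0, 3, 0, 3, 0, 2], 0), ([3, 0, 3, 0, 3, 0, 3, 0, 3], 0), ([3, 0, 3, 0, 3, 0, 3], 0), ([3, 0, 3, 0, 3], 0), ([3, 0, 3], 0), ([3], 0), ([3, 1, 3, 1, 3, 1, 3, 1, 3, 1, 2, 1, 2, 2, 1, 3, 1, 3, 1, 3, 1, 2, 1, 2], 31), ([3, 1, 3, 1, 3, 1, 3, 1, 3, 1, 2, 1, 1, 3, 1, 2, 1, 3, 3, 0, 3, 0, 2, 0, 2, 0, 3, 0, 2, 0, 2, 0, 2, 0, 0, 3, 0, 2, 0, 3, 0, 2, 0, 2, 2, 1, 3, 1, 3, 1, 3, 1, 2, 1, 1, 3, 1, 2, 1, 3, 1, 3], 1), ([3, 1, 3, 1, 3, 1, 3, 1, 3, 1, 2, 1, 1, 3, 1, 2, 1, 3, 3, 0, 3, 0, 2, 0, 2, 0, 3, 0, 2,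 0, 2, 0, 2, 0, 0, 3, 0, 2, 0, 3, 0, 2, 0, 2, 2, 1, 3, 1, 3, 1, 3, 1, 2, 1, 1, 3, 1, 2, 1, 3], 1), ([3, 1, 3, 1, 3, 1, 3, 1, 3, 1, 2, 1, 1, 3, 1, 2, 1, 3, 3, 0, 3, 0, 2, 0, 2, 0, 3, 0, 2, 0, 2, 0, 2, 0, 0, 3, 0, 2, 0, 3, 0, 2, 0, 2, 2, 1, 3, 1, 3, 1, 3, 1, 2], 1), ([3, 1, 3, 1, 3, 1, 3, 1, 3, 1, 2, 1, 1, 3, 1, 2, 1, 3, 3, 0, 3, 0, 2, 0, 2, 0, 3, 0, 2, 0, 2, 0, 2, 0, 0, 3, 0, 2, 0, 3, 0, 2, 0, 2, 2, 1, 3, 1, 3, 1, 3], 1), ([3, 1, 3, 1, 3, 1, 3, 1, 3, 1, 2, 1, 1, 3, 1, 2, 1, 3, 3, 0, 3, 0, 2, 0, 2, 0, 3, 0, 2, 0, 2, 0, 2, 0, 0, 3, 0, 2, 0, 3, 0, 2, 0, 2, 2, 1, 3, 1, 3], 1), ([3, 1, 3, 1, 3, 1, 3, 1, 3, 1, 2, 1, 1, 3, 1, 2, 1, 3, 3, 0, 3, 0, 2, 0, 2, 0, 3, 0, 2, 0, 2,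 0, 2, 0, 0, 3, 0, 2, 0, 3, 0, 2, 0, 2, 2, 1, 3], 1), ([3, 1, 3, 1, 3, 1, 3, 1, 3, 1, 2, 1, 1, 3, 1, 2, 1, 3, 3, 0, 3, 0, 2, 0, 2, 0, 3, 0, 2, 0, 2, 0, 2, 0, 0, 3, 0, 2, 0, 3, 0, 2, 0, 2, 2], 1), ([3, 1, 3, 1, 3, 1, 3, 1, 3, 1, 2, 1, 1, 3, 1, 2, 1, 3, 3, 0, 3, 0, 2, 0, 2, 0, 3, 0, 2, 0, 2, 0, 2, 0, 0, 3], 0), ([3, 1, 3, 1, 3, 1, 3, 1, 3, 1, 2, 1, 1, 3, 1, 2, 1, 3, 3, 0, 3, 0, 2, 0, 2, 0, 3, 0, 2, 0, 2, 0, 2, 0], 0), ([3, 1, 3, 1, 3, 1, 3, 1, 3, 1, 2, 1, 1, 3, 1, 2, 1, 3, 3, 0, 3, 0, 2, 0, 2, 0, 3, 0, 2], 0), ([3, 1, 3, 1, 3, 1, 3, 1, 3, 1, 2, 1, 1, 3, 1, 2, 1, 3, 3, 0, 3, 0, 2, 0, 2, 0, 3], 0), ([3, 1, 3, 1, 3, 1, 3, 1, 3, 1, 2, 1, 1, 3, 1, 2, 1, 3, 3, 0, 3, 0, 2,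 0, 2], 0), ([3, 1, 3, 1, 3, 1, 3, 1, 3, 1, 2, 1, 1, 3, 1, 2, 1, 3, 3, 0, 3, 0, 2], 0), ([3, 1, 3, 1, 3, 1, 3, 1, 3, 1, 2, 1, 1, 3, 1, 2, 1, 3, 3, 0, 3], 0), ([3, 1, 3, 1, 3, 1, 3, 1, 3, 1, 2, 1, 1, 3, 1, 2, 1, 3, 3], 0), ([3, 1, 3, 1, 3, 1, 3, 1, 3, 1, 2], 1), ([3, 1, 3, 1, 3, 1, 3, 1, 3], 1), ([3, 1, 3, 1, 3, 1, 3], 1), ([3, 1, 3, 1, 3, 1, 3, 3, 3, 1, 3, 1, 2, 1, 2, 1, 3, 1, 2, 1, 3], 2), ([3, 1, 3, 1, 3, 1, 3, 3, 3, 1, 3, 1, 2, 1, 2, 1, 3, 1, 2], 1), ([3, 1, 3, 1, 3, 1, 3, 3, 3, 1, 3, 1, 2, 1, 2, 1, 3, 1], 2), ([3, 1, 3, 1, 3, 1, 3, 3, 3, 1, 3, 1, 2, 1, 2, 1, 3], 1), ([3, 1, 3, 1, 3, 1, 3, 3, 3, 1, 3, 1, 2, 1, 2], 1), ([3, 1, 3, 1, 3, 1, 3, 3, 3, 1, 3, 1, 2], 1),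 ([3, 1, 3, 1, 3, 1, 3, 3, 3, 1, 3], 1), ([3, 1, 3, 1, 3, 1], 3), ([3, 1, 3, 1, 3], 1), ([3, 1, 3, 1], 3), ([3, 1, 3], 1), ([3], 1)]),
  ([3, 0, 3, 0, 2, 0, 2, 0, 2, 0, 3, 0, 3, 0, 2, 0, 2, 3, 0, 3, 0, 3, 0, 3, 0, 2, 0, 2, 0, 3, 0, 2, 0, 2, 0, 2, 0, 2, 3, 1, 3, 1, 2, 1, 2, 1, 3, 1, 3, 1, 3, 1, 2, 1, 2, 3, 0, 3, 0, 2, 0, 3, 0, 2, 0, 2, 0, 3, 0, 2, 0, 2, 3, 0, 3, 0, 2, 0, 2, 0, 2, 0, 3, 0, 3, 0, 2, 0, 2, 3, 0, 3, 0, 3, 0, 3, 0, 2, 0, 2, 0, 3, 0, 2, 0, 2, 0, 2, 0, 2, 3, 1, 3, 1, 2, 1, 2, 1, 3, 1, 3, 1, 3, 1, 2, 1, 2, 3, 0, 3, 0, 2, 0, 3, 0, 2, 0, 2, 0, 3, 0, 2, 0, 2], [([3, 1, 3, 1, 2, 1, 3, 1, 3, 1, 2, 2, 0, 2, 0, 3, 0, 3, 3, 1, 3, 1, 2, 1, 3, 1, 3, 1, 2, 1, 2, 1, 2,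 1, 1, 3, 1, 2, 1, 2, 1, 3, 1, 3, 1, 3, 1, 2, 1, 1, 3, 1, 2, 1, 3, 1, 3, 1, 2, 2, 0, 2, 0, 3, 0, 3, 3, 1, 3, 1, 2, 1, 3, 1, 3, 1, 2, 1, 2, 1, 2], 1), ([3, 1, 3, 1, 2, 1, 3, 1, 3, 1, 2, 2, 0, 2, 0, 3, 0, 3, 3, 1, 3, 1, 2, 1, 3, 1, 3, 1, 2, 1, 2, 1, 2, 1, 1, 3, 1, 2, 1, 2, 1, 3, 1, 3, 1, 3, 1, 2, 1, 1, 3, 1, 2, 1, 3, 1, 3, 1, 2, 2, 0, 2, 0, 3, 0, 3, 3, 1, 3, 1, 2, 1, 3, 1, 3, 1, 2, 1, 2], 1), ([3, 1, 3, 1, 2, 1, 3, 1, 3, 1, 2, 2, 0, 2, 0, 3, 0, 3, 3, 1, 3, 1, 2, 1, 3, 1, 3, 1, 2, 1, 2, 1, 2, 1, 1, 3, 1, 2, 1, 2, 1, 3, 1, 3, 1, 3, 1, 2, 1, 1, 3, 1, 2, 1, 3, 1, 3, 1, 2, 2, 0, 2, 0, 3], 0), ([3, 1, 3, 1, 2, 1, 3, 1, 3, 1, 2, 2, 0, 2, 0, 3, 0, 3, 3, 1, 3, 1, 2, 1, 3, 1,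 3, 1, 2, 1, 2, 1, 2, 1, 1, 3, 1, 2, 1, 2, 1, 3, 1, 3, 1, 3, 1, 2, 1, 1, 3, 1, 2, 1, 3, 1, 3, 1, 2, 2, 0, 2], 0), ([3, 1, 3, 1, 2, 1, 3, 1, 3, 1, 2, 2, 0, 2, 0, 3, 0, 3, 3, 1, 3, 1, 2, 1, 3, 1, 3, 1, 2, 1, 2, 1, 2, 1, 1, 3, 1, 2, 1, 2, 1, 3, 1, 3, 1, 3, 1, 2, 1, 1, 3, 1, 2, 1, 3, 1, 3, 1, 2, 2], 0), ([3, 1, 3, 1, 2, 1, 3, 1, 3, 1, 2, 2, 0, 2, 0, 3, 0, 3, 3, 1, 3, 1, 2, 1, 3, 1, 3, 1, 2, 1, 2, 1, 2, 1, 1, 3, 1, 2, 1, 2, 1, 3, 1, 3, 1, 3, 1, 2], 1), ([3, 1, 3, 1, 2, 1, 3, 1, 3, 1, 2, 2, 0, 2, 0, 3, 0, 3, 3, 1, 3, 1, 2, 1, 3, 1, 3, 1, 2, 1, 2, 1, 2, 1, 1, 3, 1, 2, 1, 2, 1, 3, 1, 3, 1, 3], 1), ([3, 1, 3, 1, 2, 1, 3, 1, 3, 1, 2, 2, 0, 2, 0, 3, 0, 3, 3, 1, 3, 1, 2, 1, 3,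 1, 3, 1, 2, 1, 2, 1, 2, 1, 1, 3, 1, 2, 1, 2, 1, 3, 1, 3], 1), ([3, 1, 3, 1, 2, 1, 3, 1, 3, 1, 2, 2, 0, 2, 0, 3, 0, 3, 3, 1, 3, 1, 2, 1, 3, 1, 3, 1, 2, 1, 2, 1, 2], 1), ([3, 1, 3, 1, 2, 1, 3, 1, 3, 1, 2, 2, 0, 2, 0, 3, 0, 3, 3, 1, 3, 1, 2, 1, 3, 1, 3, 1, 2, 1, 2], 1), ([3, 1, 3, 1, 2, 1, 3, 1, 3, 1, 2, 2, 0, 2, 0, 3], 0), ([3, 1, 3, 1, 2, 1, 3, 1, 3, 1, 2, 2, 0, 2], 0), ([3, 1, 3, 1, 2, 1, 3, 1, 3, 1, 2, 2], 0), ([3, 1, 3, 1, 2, 1, 3, 1, 3, 1, 2, 2, 1, 2, 1, 3, 1, 3, 3, 1, 3, 1, 2, 1, 3, 1, 3, 1, 2, 1, 2, 2, 1, 2, 1, 3, 1, 3, 3, 1, 3, 1, 2, 2, 1, 2, 1, 3, 1, 3, 3, 1, 3, 1, 2, 1, 3, 1, 3, 1, 2, 1, 3], 2), ([3, 1, 3, 1, 2, 1, 3, 1, 3, 1, 2, 2, 1, 2, 1, 3, 1, 3, 3, 1,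 3, 1, 2, 1, 3, 1, 3, 1, 2, 1, 2, 2, 1, 2, 1, 3, 1, 3, 3, 1, 3, 1, 2, 2, 1, 2, 1, 3, 1, 2], 3), ([3, 1, 3, 1, 2, 1, 3, 1, 3, 1, 2, 2, 1, 2, 1, 3, 1, 3, 3, 1, 3, 1, 2, 1, 3, 1, 3, 1, 2, 1, 2, 2, 1, 2, 1, 3, 1, 3, 3, 1, 3, 1, 3], 2), ([3, 1, 3, 1, 2, 1, 3, 1, 3, 1, 2, 2, 1, 2, 1, 3, 1, 3, 3, 1, 3, 1, 2, 1, 3, 1, 3, 1, 2, 1, 2, 2, 1, 2, 1, 3, 1, 2], 3), ([3, 1, 3, 1, 2, 1, 3, 1, 3, 1, 2, 2, 1, 2, 1, 3, 1, 3, 3, 1, 3, 1, 2, 1, 3, 1, 3, 1, 2, 1, 2, 2, 2, 0, 3, 0, 2, 0, 2, 0, 3, 0, 2, 0, 3, 0, 2, 0, 3], 11), ([3, 1, 3, 1, 2, 1, 3, 1, 3, 1, 2, 2, 1, 2, 1, 3, 1, 3, 3, 1, 3, 1, 2, 1, 3, 1, 3, 1, 2, 1, 2, 2, 2, 0, 3, 0, 2, 0, 2, 0, 3, 0, 2, 0, 3, 0, 2, 0, 3, 0, 2, 0, 2], 0),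 ([3, 1, 3, 1, 2, 1, 3, 1, 3, 1, 2, 2, 1, 2, 1, 3, 1, 3, 3, 1, 3, 1, 2, 1, 3, 1, 3, 1, 2, 1, 2, 2, 2, 0, 3, 0, 2, 0, 2, 0, 3, 0, 2, 0, 3, 0, 2, 0, 3, 0, 2], 0), ([3, 1, 3, 1, 2, 1, 3, 1, 3, 1, 2, 2, 1, 2, 1, 3, 1, 3, 3, 1, 3, 1, 2, 1, 3, 1, 3, 1, 2, 1, 2, 2, 2, 0, 3, 0, 2, 0, 2, 0, 3, 0, 2, 0, 3, 0, 2, 0, 3], 0), ([3, 1, 3, 1, 2, 1, 3, 1, 3, 1, 2, 2, 1, 2, 1, 3, 1, 3, 3, 1, 3, 1, 2, 1, 3, 1, 3, 1, 2, 1, 2, 2, 2, 0, 3, 0, 2, 0, 2, 0, 3, 0, 2, 0, 3, 0, 2], 0), ([3, 1, 3, 1, 2, 1, 3, 1, 3, 1, 2, 2, 1, 2, 1, 3, 1, 3, 3, 1, 3, 1, 2, 1, 3, 1, 3, 1, 2, 1, 2, 2, 2, 0, 3, 0, 2, 0, 2, 0, 3, 0, 2, 0, 3], 0), ([3, 1, 3, 1, 2, 1, 3, 1, 3, 1, 2, 2, 1, 2, 1, 3, 1, 3, 3, 1, 3, 1,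 2, 1, 3, 1, 3, 1, 2, 1, 2, 2, 2, 0, 3, 0, 2, 0, 2, 0, 3, 0, 2], 0), ([3, 1, 3, 1, 2, 1, 3, 1, 3, 1, 2, 2, 1, 2, 1, 3, 1, 3, 3, 1, 3, 1, 2, 1, 3, 1, 3, 1, 2, 1, 2, 2, 2, 0, 3, 0, 2, 0, 2, 0, 3], 0), ([3, 1, 3, 1, 2, 1, 3, 1, 3, 1, 2, 2, 1, 2, 1, 3, 1, 3, 3, 1, 3, 1, 2, 1, 3, 1, 3, 1, 2, 1, 2, 2, 2, 0, 3, 0, 2, 0, 2], 0), ([3, 1, 3, 1, 2, 1, 3, 1, 3, 1, 2, 2, 1, 2, 1, 3, 1, 3, 3, 1, 3, 1, 2, 1, 3, 1, 3, 1, 2, 1, 2, 2, 2, 0, 3, 0, 2], 0), ([3, 1, 3, 1, 2, 1, 3, 1, 3, 1, 2, 2, 1, 2, 1, 3, 1, 3, 3, 1, 3, 1, 2, 1, 3, 1, 3, 1, 2, 1, 2, 2, 2, 0, 3], 0), ([3, 1, 3, 1, 2, 1, 3, 1, 3, 1, 2, 2, 1, 2, 1, 3, 1, 3, 3, 1, 3, 1, 2, 1, 3, 1, 3, 1, 2, 1, 2, 2, 2], 0), ([3, 1, 3, 1,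 2, 1, 3, 1, 3, 1, 2, 2, 1, 2, 1, 3, 1, 3, 3, 1, 3, 1, 2, 1, 3, 1, 3, 1, 2, 1], 2), ([3, 1, 3, 1, 2, 1, 3, 1, 3, 1, 2, 2, 1, 2, 1, 3, 1, 3, 3, 1, 3, 1, 2, 1, 3, 1, 3, 1, 2], 1), ([3, 1, 3, 1, 2, 1, 3, 1, 3, 1, 2, 2, 1, 2, 1, 3, 1, 3, 3, 1, 3, 1, 2, 1, 3, 1, 3], 1), ([3, 1, 3, 1, 2, 1, 3, 1, 3, 1, 2, 2, 1, 2, 1, 3, 1, 3, 3, 1, 3, 1, 2, 1, 3], 1), ([3, 1, 3, 1, 2, 1, 3, 1, 3, 1, 2, 2, 1, 2, 1, 3, 1, 3, 3, 1, 3, 1, 2], 1), ([3, 1, 3, 1, 2, 1, 3, 1, 3, 1, 2, 2, 1, 2, 1, 3, 1, 3, 3, 1, 3], 1), ([3, 1, 3, 1, 2, 1, 3, 1, 3, 1, 2, 2, 1, 2, 1, 3, 1, 3, 3], 1), ([3, 1, 3, 1, 2, 1, 3, 1, 3, 1, 2, 2, 1, 2, 1, 3, 1, 2], 3), ([3, 1, 3, 1, 2, 1, 3, 1, 3, 1, 2, 2, 1, 2, 1, 3], 1),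 ([3, 1, 3, 1, 2, 1, 3, 1, 3, 1, 2, 2, 1, 2], 1), ([3, 1, 3, 1, 2, 1, 3, 1, 3, 1, 2, 2], 1), ([3, 1, 3, 1, 2, 1, 3, 1, 3, 1, 3], 2), ([3, 1, 3, 1, 2, 1, 3, 1, 3], 1), ([3, 1, 3, 1, 2, 1, 3], 1), ([3, 1, 3, 1, 2, 1], 3), ([3, 1, 3, 1, 2], 1), ([3, 1, 3], 1), ([3], 1)]),
  ([3, 0, 3, 0, 2, 0, 2, 0, 2, 0, 3, 0, 3, 0, 2, 0, 2, 3, 1, 3, 1, 3, 1, 3, 1, 2, 1, 3, 1, 3, 1, 2, 1, 2, 1, 2, 1, 2, 3, 0, 3, 0, 3, 0, 3, 0, 3, 0, 2, 0, 2, 0, 2, 0, 2, 0, 2, 0, 2, 3, 0, 3, 0, 3, 0, 3, 0, 2, 0, 2, 0, 3, 0, 2, 0, 2, 0, 2, 0, 2, 3, 0, 3, 0, 2, 0, 2, 0, 2, 0, 3, 0, 3, 0, 2, 0, 2, 3, 1, 3, 1, 3, 1, 3, 1, 2, 1, 3, 1, 3, 1, 2, 1, 2, 1, 2, 1, 2, 3, 0, 3, 0, 3, 0, 3, 0, 3, 0, 2, 0, 2, 0, 2,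 0, 2, 0, 2, 0, 2, 3, 0, 3, 0, 3, 0, 3, 0, 2, 0, 2, 0, 3, 0, 2, 0, 2, 0, 2, 0, 2], [([3, 1, 3, 1, 3, 1, 3, 1, 2, 1, 3, 1, 3, 1, 2, 1, 2, 1, 2, 1, 1, 3, 1, 3, 1, 3, 1, 3, 1, 3, 1, 2, 2, 0, 2, 0, 3, 0, 2, 0, 2, 2, 1, 2, 1, 3, 1, 3, 1, 3, 1, 2, 1, 1, 3, 1, 3, 1, 3, 1, 2, 1, 3, 1, 3, 1, 2, 1, 2, 1, 2, 1, 1, 3, 1, 3, 1, 3, 1, 3, 1, 3, 1, 2, 2, 0, 2, 0, 3, 0, 2], 0), ([3, 1, 3, 1, 3, 1, 3, 1, 2, 1, 3, 1, 3, 1, 2, 1, 2, 1, 2, 1, 1, 3, 1, 3, 1, 3, 1, 3, 1, 3, 1, 2, 2, 0, 2, 0, 3, 0, 2, 0, 2, 2, 1, 2, 1, 3, 1, 3, 1, 3, 1, 2, 1, 1, 3, 1, 3, 1, 3, 1, 2, 1, 3, 1, 3, 1, 2, 1, 2, 1, 2, 1, 1, 3, 1, 3, 1, 3, 1, 3, 1, 3, 1, 2, 2, 0, 2, 0, 3], 0), ([3, 1, 3, 1, 3, 1, 3, 1, 2, 1, 3,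 1, 3, 1, 2, 1, 2, 1, 2, 1, 1, 3, 1, 3, 1, 3, 1, 3, 1, 3, 1, 2, 2, 0, 2, 0, 3, 0, 2, 0, 2, 2, 1, 2, 1, 3, 1, 3, 1, 3, 1, 2, 1, 1, 3, 1, 3, 1, 3, 1, 2, 1, 3, 1, 3, 1, 2, 1, 2, 1, 2, 1, 1, 3, 1, 3, 1, 3, 1, 3, 1, 3, 1, 2, 2, 0, 2], 0), ([3, 1, 3, 1, 3, 1, 3, 1, 2, 1, 3, 1, 3, 1, 2, 1, 2, 1, 2, 1, 1, 3, 1, 3, 1, 3, 1, 3, 1, 3, 1, 2, 2, 0, 2, 0, 3, 0, 2, 0, 2, 2, 1, 2, 1, 3, 1, 3, 1, 3, 1, 2, 1, 1, 3, 1, 3, 1, 3, 1, 2, 1, 3, 1, 3, 1, 2, 1, 2, 1, 2, 1, 1, 3, 1, 3, 1, 3, 1, 3, 1, 3, 1, 2, 2], 0), ([3, 1, 3, 1, 3, 1, 3, 1, 2, 1, 3, 1, 3, 1, 2, 1, 2, 1, 2, 1, 1, 3, 1, 3, 1, 3, 1, 3, 1, 3, 1, 2, 2, 0, 2, 0, 3, 0, 2, 0, 2, 2, 1, 2, 1, 3, 1, 3, 1, 3, 1, 2, 1, 1, 3, 1, 3, 1, 3,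 1, 2, 1, 3, 1, 3, 1, 2, 1, 2, 1, 2], 1), ([3, 1, 3, 1, 3, 1, 3, 1, 2, 1, 3, 1, 3, 1, 2, 1, 2, 1, 2, 1, 1, 3, 1, 3, 1, 3, 1, 3, 1, 3, 1, 2, 2, 0, 2, 0, 3, 0, 2, 0, 2, 2, 1, 2, 1, 3, 1, 3, 1, 3, 1, 2, 1, 1, 3, 1, 3, 1, 3, 1, 2, 1, 3, 1, 3, 1, 2, 1, 2], 1), ([3, 1, 3, 1, 3, 1, 3, 1, 2, 1, 3, 1, 3, 1, 2, 1, 2, 1, 2, 1, 1, 3, 1, 3, 1, 3, 1, 3, 1, 3, 1, 2, 2, 0, 2, 0, 3, 0, 2, 0, 2, 2, 1, 2, 1, 3, 1, 3, 1, 3, 1, 2, 1, 1, 3, 1, 3, 1, 3, 1, 2, 1, 3, 1, 3, 1, 2], 1), ([3, 1, 3, 1, 3, 1, 3, 1, 2, 1, 3, 1, 3, 1, 2, 1, 2, 1, 2, 1, 1, 3, 1, 3, 1, 3, 1, 3, 1, 3, 1, 2, 2, 0, 2, 0, 3, 0, 2, 0, 2, 2, 1, 2, 1, 3, 1, 3, 1, 3, 1, 2, 1, 1, 3, 1, 3, 1, 3, 1, 2, 1, 3, 1, 3], 1), ([3, 1,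 3, 1, 3, 1, 3, 1, 2, 1, 3, 1, 3, 1, 2, 1, 2, 1, 2, 1, 1, 3, 1, 3, 1, 3, 1, 3, 1, 3, 1, 2, 2, 0, 2, 0, 3, 0, 2, 0, 2, 2, 1, 2, 1, 3, 1, 3, 1, 3, 1, 2], 1), ([3, 1, 3, 1, 3, 1, 3, 1, 2, 1, 3, 1, 3, 1, 2, 1, 2, 1, 2, 1, 1, 3, 1, 3, 1, 3, 1, 3, 1, 3, 1, 2, 2, 0, 2, 0, 3, 0, 2, 0, 2, 2, 1, 2, 1, 3, 1, 3, 1, 3], 1), ([3, 1, 3, 1, 3, 1, 3, 1, 2, 1, 3, 1, 3, 1, 2, 1, 2, 1, 2, 1, 1, 3, 1, 3, 1, 3, 1, 3, 1, 3, 1, 2, 2, 0, 2, 0, 3, 0, 2], 0), ([3, 1, 3, 1, 3, 1, 3, 1, 2, 1, 3, 1, 3, 1, 2, 1, 2, 1, 2, 1, 1, 3, 1, 3, 1, 3, 1, 3, 1, 3, 1, 2, 2, 0, 2, 0, 3], 0), ([3, 1, 3, 1, 3, 1, 3, 1, 2, 1, 3, 1, 3, 1, 2, 1, 2, 1, 2, 1, 1, 3, 1, 3, 1, 3, 1, 3, 1, 3, 1, 2, 2, 0, 2], 0), ([3, 1,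 3, 1, 3, 1, 3, 1, 2, 1, 3, 1, 3, 1, 2, 1, 2, 1, 2, 1, 1, 3, 1, 3, 1, 3, 1, 3, 1, 3, 1, 2, 2], 0), ([3, 1, 3, 1, 3, 1, 3, 1, 2, 1, 3, 1, 3, 1, 2, 1, 2, 1, 2], 1), ([3, 1, 3, 1, 3, 1, 3, 1, 2, 1, 3, 1, 3, 1, 2, 1, 2], 1), ([3, 1, 3, 1, 3, 1, 3, 1, 2, 1, 3, 1, 3, 1, 2], 1), ([3, 1, 3, 1, 3, 1, 3, 1, 2, 1, 3, 1, 3], 1), ([3, 1, 3, 1, 3, 1, 3, 1, 2, 1, 3, 1, 3, 3, 1, 3, 1, 2, 2, 1, 2, 1, 3, 1, 2, 1, 2, 2, 1, 2, 1, 3, 1, 3, 1, 3, 3, 1, 3, 1, 2, 1, 3, 1, 3, 3, 1, 3, 1, 2, 2, 1, 2, 1, 3, 1, 2, 1, 3], 2), ([3, 1, 3, 1, 3, 1, 3, 1, 2, 1, 3, 1, 3, 3, 1, 3, 1, 2, 2, 1, 2, 1, 3, 1, 2, 1, 2, 2, 1, 2, 1, 3, 1, 3, 1, 3, 3, 1, 3, 1, 2, 1, 3, 1, 3, 3, 1, 3, 1, 3], 2), ([3, 1, 3, 1,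 3, 1, 3, 1, 2, 1, 3, 1, 3, 3, 1, 3, 1, 2, 2, 1, 2, 1, 3, 1, 2, 1, 2, 2, 1, 2, 1, 3, 1, 3, 1, 3, 3, 1, 3, 1, 2, 1, 3, 1, 2], 3), ([3, 1, 3, 1, 3, 1, 3, 1, 2, 1, 3, 1, 3, 3, 1, 3, 1, 2, 2, 1, 2, 1, 3, 1, 2, 1, 2, 2, 1, 2, 1, 3, 1, 3, 1, 2], 3), ([3, 1, 3, 1, 3, 1, 3, 1, 2, 1, 3, 1, 3, 3, 1, 3, 1, 2, 2, 1, 2, 1, 3, 1, 2, 1, 2, 2, 2, 0, 3, 0, 2, 0, 3, 0, 2, 0, 2, 0, 3, 0, 2, 0, 3, 0, 2, 0, 3], 11), ([3, 1, 3, 1, 3, 1, 3, 1, 2, 1, 3, 1, 3, 3, 1, 3, 1, 2, 2, 1, 2, 1, 3, 1, 2, 1, 2, 2, 2, 0, 3, 0, 2, 0, 3, 0, 2, 0, 2, 0, 3, 0, 2, 0, 3, 0, 2], 0), ([3, 1, 3, 1, 3, 1, 3, 1, 2, 1, 3, 1, 3, 3, 1, 3, 1, 2, 2, 1, 2, 1, 3, 1, 2, 1, 2, 2, 2, 0, 3, 0, 2, 0, 3, 0, 2, 0, 2, 0, 3, 0,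 2, 0, 3], 0), ([3, 1, 3, 1, 3, 1, 3, 1, 2, 1, 3, 1, 3, 3, 1, 3, 1, 2, 2, 1, 2, 1, 3, 1, 2, 1, 2, 2, 2, 0, 3, 0, 2, 0, 3, 0, 2, 0, 2, 0, 3, 0, 2], 0), ([3, 1, 3, 1, 3, 1, 3, 1, 2, 1, 3, 1, 3, 3, 1, 3, 1, 2, 2, 1, 2, 1, 3, 1, 2, 1, 2, 2, 2, 0, 3, 0, 2, 0, 3, 0, 2, 0, 2, 0, 3], 0), ([3, 1, 3, 1, 3, 1, 3, 1, 2, 1, 3, 1, 3, 3, 1, 3, 1, 2, 2, 1, 2, 1, 3, 1, 2, 1, 2, 2, 2, 0, 3, 0, 2, 0, 3, 0, 2, 0, 2], 0), ([3, 1, 3, 1, 3, 1, 3, 1, 2, 1, 3, 1, 3, 3, 1, 3, 1, 2, 2, 1, 2, 1, 3, 1, 2, 1, 2, 2, 2, 0, 3, 0, 2, 0, 3, 0, 2], 0), ([3, 1, 3, 1, 3, 1, 3, 1, 2, 1, 3, 1, 3, 3, 1, 3, 1, 2, 2, 1, 2, 1, 3, 1, 2, 1, 2, 2, 2, 0, 3, 0, 2, 0, 3], 0), ([3, 1, 3, 1, 3, 1, 3, 1, 2, 1, 3, 1,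 3, 3, 1, 3, 1, 2, 2, 1, 2, 1, 3, 1, 2, 1, 2, 2, 2, 0, 3, 0, 2], 0), ([3, 1, 3, 1, 3, 1, 3, 1, 2, 1, 3, 1, 3, 3, 1, 3, 1, 2, 2, 1, 2, 1, 3, 1, 2, 1, 2, 2, 2, 0, 3], 0), ([3, 1, 3, 1, 3, 1, 3, 1, 2, 1, 3, 1, 3, 3, 1, 3, 1, 2, 2, 1, 2, 1, 3, 1, 2, 1, 2, 2, 2], 0), ([3, 1, 3, 1, 3, 1, 3, 1, 2, 1, 3, 1, 3, 3, 1, 3, 1, 2, 2, 1, 2, 1, 3, 1, 2, 1], 2), ([3, 1, 3, 1, 3, 1, 3, 1, 2, 1, 3, 1, 3, 3, 1, 3, 1, 2, 2, 1, 2, 1, 3, 1, 2], 1), ([3, 1, 3, 1, 3, 1, 3, 1, 2, 1, 3, 1, 3, 3, 1, 3, 1, 2, 2, 1, 2, 1, 3], 1), ([3, 1, 3, 1, 3, 1, 3, 1, 2, 1, 3, 1, 3, 3, 1, 3, 1, 2, 2, 1, 2], 1), ([3, 1, 3, 1, 3, 1, 3, 1, 2, 1, 3, 1, 3, 3, 1, 3, 1, 2, 2], 1), ([3, 1, 3, 1, 2, 2], 3), ([3, 1,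 3, 1, 2, 2, 1, 3, 1, 2, 1, 3, 1, 3, 3, 1, 3, 1], 2), ([3, 1, 3, 1, 2, 2, 1, 3, 1, 2, 1, 3, 1, 3, 3, 1, 3], 1), ([3, 1, 3, 1, 2, 2, 1, 3, 1, 2, 1, 3, 1, 3, 3], 1), ([3, 1, 3, 1, 2, 2, 1, 3, 1, 2, 1, 3, 1], 3), ([3, 1, 3, 1, 2, 2, 1, 3, 1, 2, 1, 3], 1), ([3, 1, 3, 1, 2, 2, 1, 3, 1, 2], 1), ([3, 1, 3, 1, 2, 2, 1, 3], 1), ([3, 1, 3, 1, 2, 2], 1), ([3, 1, 3], 1), ([3], 1)]),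
  ([3, 0, 3, 0, 2, 0, 2, 0, 2, 0, 3, 0, 3, 0, 2, 0, 2, 3, 0, 3, 0, 3, 0, 3, 0, 3, 0, 2, 0, 2, 0, 2, 0, 2, 0, 2, 0, 2, 3, 0, 3, 0, 3, 0, 3, 0, 2, 0, 2, 0, 3, 0, 2, 0, 2, 0, 2, 0, 2, 3, 0, 3, 0, 2, 0, 3, 0, 2, 0, 2, 0, 3, 0, 2, 0, 2, 3, 0, 3, 0, 2, 0, 2, 0, 2, 0, 3, 0, 3, 0, 2, 0, 2, 3, 0, 3, 0, 3, 0, 3, 0, 3, 0, 2, 0, 2, 0, 2, 0, 2, 0, 2, 0, 2, 3, 0, 3, 0, 3, 0, 3, 0, 2, 0, 2, 0, 3, 0, 2, 0, 2, 0, 2, 0, 2, 3, 0, 3, 0, 2, 0, 3, 0, 2, 0, 2, 0, 3, 0, 2, 0, 2], [([3, 1, 3, 1, 2, 1, 3, 1, 3, 1, 2, 1, 3, 1, 2, 1, 1, 3, 1, 3, 1, 3, 1, 2, 1, 3, 1, 3, 1, 2, 1, 2, 1, 2, 1, 1, 3, 1, 3, 1, 3, 1, 3, 1, 3, 1, 2, 1, 2, 1, 2, 1, 2, 1, 1, 3, 1, 2, 1, 2, 1, 3, 1, 3, 1, 3, 1, 2, 1, 1,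 3, 1, 2, 1, 3, 1, 3, 1, 2, 1, 3, 1, 2, 1, 1, 3, 1, 3, 1, 3, 1, 2, 1, 3, 1, 3, 1, 2, 1, 2, 1, 2, 1, 1, 3, 1, 3, 1, 3, 1, 3, 1, 3, 1, 2, 1, 2, 1, 2, 1, 2], 1), ([3, 1, 3, 1, 2, 1, 3, 1, 3, 1, 2, 1, 3, 1, 2, 1, 1, 3, 1, 3, 1, 3, 1, 2, 1, 3, 1, 3, 1, 2, 1, 2, 1, 2, 1, 1, 3, 1, 3, 1, 3, 1, 3, 1, 3, 1, 2, 1, 2, 1, 2, 1, 2, 1, 1, 3, 1, 2, 1, 2, 1, 3, 1, 3, 1, 3, 1, 2, 1, 1, 3, 1, 2, 1, 3, 1, 3, 1, 2, 1, 3, 1, 2, 1, 1, 3, 1, 3, 1, 3, 1, 2, 1, 3, 1, 3, 1, 2, 1, 2, 1, 2, 1, 1, 3, 1, 3, 1, 3, 1, 3, 1, 3, 1, 2, 1, 2, 1, 2], 1), ([3, 1, 3, 1, 2, 1, 3, 1, 3, 1, 2, 1, 3, 1, 2, 1, 1, 3, 1, 3, 1, 3, 1, 2, 1, 3, 1, 3, 1, 2, 1, 2, 1, 2, 1, 1, 3, 1, 3, 1, 3, 1, 3, 1, 3, 1, 2, 1, 2, 1,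 2, 1, 2, 1, 1, 3, 1, 2, 1, 2, 1, 3, 1, 3, 1, 3, 1, 2, 1, 1, 3, 1, 2, 1, 3, 1, 3, 1, 2, 1, 3, 1, 2, 1, 1, 3, 1, 3, 1, 3, 1, 2, 1, 3, 1, 3, 1, 2, 1, 2, 1, 2], 1), ([3, 1, 3, 1, 2, 1, 3, 1, 3, 1, 2, 1, 3, 1, 2, 1, 1, 3, 1, 3, 1, 3, 1, 2, 1, 3, 1, 3, 1, 2, 1, 2, 1, 2, 1, 1, 3, 1, 3, 1, 3, 1, 3, 1, 3, 1, 2, 1, 2, 1, 2, 1, 2, 1, 1, 3, 1, 2, 1, 2, 1, 3, 1, 3, 1, 3, 1, 2, 1, 1, 3, 1, 2, 1, 3, 1, 3, 1, 2, 1, 3, 1, 2, 1, 1, 3, 1, 3, 1, 3, 1, 2, 1, 3, 1, 3, 1, 2, 1, 2], 1), ([3, 1, 3, 1, 2, 1, 3, 1, 3, 1, 2, 1, 3, 1, 2, 1, 1, 3, 1, 3, 1, 3, 1, 2, 1, 3, 1, 3, 1, 2, 1, 2, 1, 2, 1, 1, 3, 1, 3, 1, 3, 1, 3, 1, 3, 1, 2, 1, 2, 1, 2, 1, 2, 1, 1, 3, 1, 2, 1, 2, 1, 3, 1, 3, 1, 3, 1, 2,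 1, 1, 3, 1, 2, 1, 3, 1, 3, 1, 2, 1, 3, 1, 2, 1, 1, 3, 1, 3, 1, 3, 1, 2, 1, 3, 1, 3, 1, 2], 1), ([3, 1, 3, 1, 2, 1, 3, 1, 3, 1, 2, 1, 3, 1, 2, 1, 1, 3, 1, 3, 1, 3, 1, 2, 1, 3, 1, 3, 1, 2, 1, 2, 1, 2, 1, 1, 3, 1, 3, 1, 3, 1, 3, 1, 3, 1, 2, 1, 2, 1, 2, 1, 2, 1, 1, 3, 1, 2, 1, 2, 1, 3, 1, 3, 1, 3, 1, 2, 1, 1, 3, 1, 2, 1, 3, 1, 3, 1, 2, 1, 3, 1, 2, 1, 1, 3, 1, 3, 1, 3, 1, 2, 1, 3, 1, 3], 1), ([3, 1, 3, 1, 2, 1, 3, 1, 3, 1, 2, 1, 3, 1, 2, 1, 1, 3, 1, 3, 1, 3, 1, 2, 1, 3, 1, 3, 1, 2, 1, 2, 1, 2, 1, 1, 3, 1, 3, 1, 3, 1, 3, 1, 3, 1, 2, 1, 2, 1, 2, 1, 2, 1, 1, 3, 1, 2, 1, 2, 1, 3, 1, 3, 1, 3, 1, 2, 1, 1, 3, 1, 2, 1, 3, 1, 3, 1, 2, 1, 3, 1, 2], 1), ([3, 1, 3, 1, 2, 1, 3, 1,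 3, 1, 2, 1, 3, 1, 2, 1, 1, 3, 1, 3, 1, 3, 1, 2, 1, 3, 1, 3, 1, 2, 1, 2, 1, 2, 1, 1, 3, 1, 3, 1, 3, 1, 3, 1, 3, 1, 2, 1, 2, 1, 2, 1, 2, 1, 1, 3, 1, 2, 1, 2, 1, 3, 1, 3, 1, 3, 1, 2, 1, 1, 3, 1, 2, 1, 3, 1, 3, 1, 2, 1, 3], 1), ([3, 1, 3, 1, 2, 1, 3, 1, 3, 1, 2, 1, 3, 1, 2, 1, 1, 3, 1, 3, 1, 3, 1, 2, 1, 3, 1, 3, 1, 2, 1, 2, 1, 2, 1, 1, 3, 1, 3, 1, 3, 1, 3, 1, 3, 1, 2, 1, 2, 1, 2, 1, 2, 1, 1, 3, 1, 2, 1, 2, 1, 3, 1, 3, 1, 3, 1, 2], 1), ([3, 1, 3, 1, 2, 1, 3, 1, 3, 1, 2, 1, 3, 1, 2, 1, 1, 3, 1, 3, 1, 3, 1, 2, 1, 3, 1, 3, 1, 2, 1, 2, 1, 2, 1, 1, 3, 1, 3, 1, 3, 1, 3, 1, 3, 1, 2, 1, 2, 1, 2, 1, 2, 1, 1, 3, 1, 2, 1, 2, 1, 3, 1, 3, 1, 3], 1), ([3, 1, 3, 1, 2, 1, 3, 1, 3, 1,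 2, 1, 3, 1, 2, 1, 1, 3, 1, 3, 1, 3, 1, 2, 1, 3, 1, 3, 1, 2, 1, 2, 1, 2, 1, 1, 3, 1, 3, 1, 3, 1, 3, 1, 3, 1, 2, 1, 2, 1, 2, 1, 2, 1, 1, 3, 1, 2, 1, 2, 1, 3, 1, 3], 1), ([3, 1, 3, 1, 2, 1, 3, 1, 3, 1, 2, 1, 3, 1, 2, 1, 1, 3, 1, 3, 1, 3, 1, 2, 1, 3, 1, 3, 1, 2, 1, 2, 1, 2, 1, 1, 3, 1, 3, 1, 3, 1, 3, 1, 3, 1, 2, 1, 2, 1, 2, 1, 2], 1), ([3, 1, 3, 1, 2, 1, 3, 1, 3, 1, 2, 1, 3, 1, 2, 1, 1, 3, 1, 3, 1, 3, 1, 2, 1, 3, 1, 3, 1, 2, 1, 2, 1, 2, 1, 1, 3, 1, 3, 1, 3, 1, 3, 1, 3, 1, 2, 1, 2, 1, 2], 1), ([3, 1, 3, 1, 2, 1, 3, 1, 3, 1, 2, 1, 3, 1, 2, 1, 1, 3, 1, 3, 1, 3, 1, 2, 1, 3, 1, 3, 1, 2, 1, 2, 1, 2], 1), ([3, 1, 3, 1, 2, 1, 3, 1, 3, 1, 2, 1, 3, 1, 2, 1, 1, 3, 1, 3, 1, 3, 1,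 2, 1, 3, 1, 3, 1, 2, 1, 2], 1), ([3, 1, 3, 1, 2, 1, 3, 1, 3, 1, 2, 1, 3, 1, 2, 1, 1, 3, 1, 3, 1, 3, 1, 2, 1, 3, 1, 3, 1, 2], 1), ([3, 1, 3, 1, 2, 1, 3, 1, 3, 1, 2, 1, 3, 1, 2, 1, 1, 3, 1, 3, 1, 3, 1, 2, 1, 3, 1, 3], 1), ([3, 1, 3, 1, 2, 1, 3, 1, 3, 1, 2, 1, 3, 1, 2], 1), ([3, 1, 3, 1, 2, 1, 3, 1, 3, 1, 2, 1, 3], 1), ([3, 1, 3, 1, 2, 1, 3, 1, 3, 1, 2, 1, 3, 3, 1, 3, 1, 2, 1, 3, 1, 3, 3, 1, 3, 1, 2, 1, 2, 1, 2, 2, 1, 2, 1, 3, 1, 3, 3, 1, 3, 1, 2, 1, 3, 3, 1, 3, 1, 2, 1, 3, 1, 3, 3, 1, 3, 1, 2, 1, 2, 1, 3], 2), ([3, 1, 3, 1, 2, 1, 3, 1, 3, 1, 2, 1, 3, 3, 1, 3, 1, 2, 1, 3, 1, 3, 3, 1, 3, 1, 2, 1, 2, 1, 2, 2, 1, 2, 1, 3, 1, 3, 3, 1, 3, 1, 2, 1, 3, 3, 1, 3, 1, 2, 1, 3,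 1, 2], 3), ([3, 1, 3, 1, 2, 1, 3, 1, 3, 1, 2, 1, 3, 3, 1, 3, 1, 2, 1, 3, 1, 3, 3, 1, 3, 1, 2, 1, 2, 1, 2, 2, 1, 2, 1, 3, 1, 3, 3, 1, 3, 1, 2, 1, 2], 3), ([3, 1, 3, 1, 2, 1, 3, 1, 3, 1, 2, 1, 3, 3, 1, 3, 1, 2, 1, 3, 1, 3, 3, 1, 3, 1, 2, 1, 2, 1, 2, 2, 1, 2, 1, 3, 1, 2], 3), ([3, 1, 3, 1, 2, 1, 3, 1, 3, 1, 2, 1, 3, 3, 1, 3, 1, 2, 1, 3, 1, 3, 3, 1, 3, 1, 2, 1, 2, 1, 2, 2, 2, 0, 3, 0, 3, 0, 2, 0, 3, 0, 2, 0, 3, 0, 2, 0, 3, 0, 3, 0], 10), ([3, 1, 3, 1, 2, 1, 3, 1, 3, 1, 2, 1, 3, 3, 1, 3, 1, 2, 1, 3, 1, 3, 3, 1, 3, 1, 2, 1, 2, 1, 2, 2, 2, 0, 3, 0, 3, 0, 2, 0, 3, 0, 2, 0, 3, 0, 2, 0, 3, 0, 3, 0, 2, 1, 3, 1, 2, 1, 3, 1, 2, 1, 3, 1, 3, 1, 2, 1, 3, 1, 2, 1, 3, 1, 2, 1, 3, 1,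 3, 1, 2, 1, 3, 1, 2, 1, 3, 1, 2, 1, 3, 1, 3, 1, 2, 1, 3, 1, 2, 1, 3, 1, 2, 1, 3, 1, 3], 1), ([3, 1, 3, 1, 2, 1, 3, 1, 3, 1, 2, 1, 3, 3, 1, 3, 1, 2, 1, 3, 1, 3, 3, 1, 3, 1, 2, 1, 2, 1, 2, 2, 2, 0, 3, 0, 3, 0, 2, 0, 3, 0, 2, 0, 3, 0, 2, 0, 3, 0, 3, 0, 2, 1, 3, 1, 2, 1, 3, 1, 2, 1, 3, 1, 3, 1, 2, 1, 3, 1, 2, 1, 3, 1, 2, 1, 3, 1, 3, 1, 2, 1, 3, 1, 2, 1, 3, 1, 2, 1, 3, 1, 3, 1, 2, 1, 3, 1, 2, 1, 3, 1, 2, 1, 3], 1), ([3, 1, 3, 1, 2, 1, 3, 1, 3, 1, 2, 1, 3, 3, 1, 3, 1, 2, 1, 3, 1, 3, 3, 1, 3, 1, 2, 1, 2, 1, 2, 2, 2, 0, 3, 0, 3, 0, 2, 0, 3, 0, 2, 0, 3, 0, 2, 0, 3, 0, 3, 0, 2, 1, 3, 1, 2, 1, 3, 1, 2, 1, 3, 1, 3, 1, 2, 1, 3, 1, 2, 1, 3, 1, 2, 1, 3, 1, 3, 1, 2, 1, 3, 1, 2, 1,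 3, 1, 2, 1, 3, 1, 3, 1, 2, 1, 3, 1, 2, 1, 3, 1, 2], 1), ([3, 1, 3, 1, 2, 1, 3, 1, 3, 1, 2, 1, 3, 3, 1, 3, 1, 2, 1, 3, 1, 3, 3, 1, 3, 1, 2, 1, 2, 1, 2, 2, 2, 0, 3, 0, 3, 0, 2, 0, 3, 0, 2, 0, 3, 0, 2, 0, 3, 0, 3, 0, 2, 1, 3, 1, 2, 1, 3, 1, 2, 1, 3, 1, 3, 1, 2, 1, 3, 1, 2, 1, 3, 1, 2, 1, 3, 1, 3, 1, 2, 1, 3, 1, 2, 1, 3, 1, 2, 1, 3, 1, 3, 1, 2, 1, 3, 1, 2, 1, 3], 1), ([3, 1, 3, 1, 2, 1, 3, 1, 3, 1, 2, 1, 3, 3, 1, 3, 1, 2, 1, 3, 1, 3, 3, 1, 3, 1, 2, 1, 2, 1, 2, 2, 2, 0, 3, 0, 3, 0, 2, 0, 3, 0, 2, 0, 3, 0, 2, 0, 3, 0, 3, 0, 2, 1, 3, 1, 2, 1, 3, 1, 2, 1, 3, 1, 3, 1, 2, 1, 3, 1, 2, 1, 3, 1, 2, 1, 3, 1, 3, 1, 2, 1, 3, 1, 2, 1, 3, 1, 2, 1, 3, 1, 3, 1, 2, 1, 3, 1, 2], 1), ([3,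 1, 3, 1, 2, 1, 3, 1, 3, 1, 2, 1, 3, 3, 1, 3, 1, 2, 1, 3, 1, 3, 3, 1, 3, 1, 2, 1, 2, 1, 2, 2, 2, 0, 3, 0, 3, 0, 2, 0, 3, 0, 2, 0, 3, 0, 2, 0, 3, 0, 3, 0, 2, 1, 3, 1, 2, 1, 3, 1, 2, 1, 3, 1, 3, 1, 2, 1, 3, 1, 2, 1, 3, 1, 2, 1, 3, 1, 3, 1, 2, 1, 3, 1, 2, 1, 3, 1, 2, 1, 3, 1, 3, 1, 2, 1, 3], 1), ([3, 1, 3, 1, 2, 1, 3, 1, 3, 1, 2, 1, 3, 3, 1, 3, 1, 2, 1, 3, 1, 3, 3, 1, 3, 1, 2, 1, 2, 1, 2, 2, 2, 0, 3, 0, 3, 0, 2, 0, 3, 0, 2, 0, 3, 0, 2, 0, 3, 0, 3, 0, 2, 1, 3, 1, 2, 1, 3, 1, 2, 1, 3, 1, 3, 1, 2, 1, 3, 1, 2, 1, 3, 1, 2, 1, 3, 1, 3, 1, 2, 1, 3, 1, 2, 1, 3, 1, 2, 1, 3, 1, 3, 1, 2], 1), ([3, 1, 3, 1, 2, 1, 3, 1, 3, 1, 2, 1, 3, 3, 1, 3, 1, 2, 1, 3, 1, 3, 3, 1, 3, 1, 2, 1, 2,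 1, 2, 2, 2, 0, 3, 0, 3, 0, 2, 0, 3, 0, 2, 0, 3, 0, 2, 0, 3, 0, 3, 0, 2, 1, 3, 1, 2, 1, 3, 1, 2, 1, 3, 1, 3, 1, 2, 1, 3, 1, 2, 1, 3, 1, 2, 1, 3, 1, 3, 1, 2, 1, 3, 1, 2, 1, 3, 1, 2, 1, 3, 1, 3], 1), ([3, 1, 3, 1, 2, 1, 3, 1, 3, 1, 2, 1, 3, 3, 1, 3, 1, 2, 1, 3, 1, 3, 3, 1, 3, 1, 2, 1, 2, 1, 2, 2, 2, 0, 3, 0, 3, 0, 2, 0, 3, 0, 2, 0, 3, 0, 2, 0, 3, 0, 3, 0, 2, 1, 3, 1, 2, 1, 3, 1, 2, 1, 3, 1, 3, 1, 2, 1, 3, 1, 2, 1, 3, 1, 2, 1, 3, 1, 3, 1, 2, 1, 3, 1, 2, 1, 3, 1, 2, 1, 3], 1), ([3, 1, 3, 1, 2, 1, 3, 1, 3, 1, 2, 1, 3, 3, 1, 3, 1, 2, 1, 3, 1, 3, 3, 1, 3, 1, 2, 1, 2, 1, 2, 2, 2, 0, 3, 0, 3, 0, 2, 0, 3, 0, 2, 0, 3, 0, 2, 0, 3, 0, 3, 0, 2, 1, 3, 1, 2, 1, 3, 1, 2, 1, 3, 1, 3,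 1, 2, 1, 3, 1, 2, 1, 3, 1, 2, 1, 3, 1, 3, 1, 2, 1, 3, 1, 2, 1, 3, 1, 2], 1), ([3, 1, 3, 1, 2, 1, 3, 1, 3, 1, 2, 1, 3, 3, 1, 3, 1, 2, 1, 3, 1, 3, 3, 1, 3, 1, 2, 1, 2, 1, 2, 2, 2, 0, 3, 0, 3, 0, 2, 0, 3, 0, 2, 0, 3, 0, 2, 0, 3, 0, 3, 0, 2, 1, 3, 1, 2, 1, 3, 1, 2, 1, 3, 1, 3, 1, 2, 1, 3, 1, 2, 1, 3, 1, 2, 1, 3, 1, 3, 1, 2, 1, 3, 1, 2, 1, 3], 1), ([3, 1, 3, 1, 2, 1, 3, 1, 3, 1, 2, 1, 3, 3, 1, 3, 1, 2, 1, 3, 1, 3, 3, 1, 3, 1, 2, 1, 2, 1, 2, 2, 2, 0, 3, 0, 3, 0, 2, 0, 3, 0, 2, 0, 3, 0, 2, 0, 3, 0, 3, 0, 2, 1, 3, 1, 2, 1, 3, 1, 2, 1, 3, 1, 3, 1, 2, 1, 3, 1, 2, 1, 3, 1, 2, 1, 3, 1, 3, 1, 2, 1, 3, 1, 2], 1), ([3, 1, 3, 1, 2, 1, 3, 1, 3, 1, 2, 1, 3, 3, 1, 3, 1, 2, 1, 3, 1,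 3, 3, 1, 3, 1, 2, 1, 2, 1, 2, 2, 2, 0, 3, 0, 3, 0, 2, 0, 3, 0, 2, 0, 3, 0, 2, 0, 3, 0, 3, 0, 2, 1, 3, 1, 2, 1, 3, 1, 2, 1, 3, 1, 3, 1, 2, 1, 3, 1, 2, 1, 3, 1, 2, 1, 3, 1, 3, 1, 2, 1, 3], 1), ([3, 1, 3, 1, 2, 1, 3, 1, 3, 1, 2, 1, 3, 3, 1, 3, 1, 2, 1, 3, 1, 3, 3, 1, 3, 1, 2, 1, 2, 1, 2, 2, 2, 0, 3, 0, 3, 0, 2, 0, 3, 0, 2, 0, 3, 0, 2, 0, 3, 0, 3, 0, 2, 1, 3, 1, 2, 1, 3, 1, 2, 1, 3, 1, 3, 1, 2, 1, 3, 1, 2, 1, 3, 1, 2, 1, 3, 1, 3, 1, 2], 1), ([3, 1, 3, 1, 2, 1, 3, 1, 3, 1, 2, 1, 3, 3, 1, 3, 1, 2, 1, 3, 1, 3, 3, 1, 3, 1, 2, 1, 2, 1, 2, 2, 2, 0, 3, 0, 3, 0, 2, 0, 3, 0, 2, 0, 3, 0, 2, 0, 3, 0, 3, 0, 2, 1, 3, 1, 2, 1, 3, 1, 2, 1, 3, 1, 3, 1, 2, 1, 3, 1, 2, 1, 3, 1, 2, 1, 3,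 1, 3], 1), ([3, 1, 3, 1, 2, 1, 3, 1, 3, 1, 2, 1, 3, 3, 1, 3, 1, 2, 1, 3, 1, 3, 3, 1, 3, 1, 2, 1, 2, 1, 2, 2, 2, 0, 3, 0, 3, 0, 2, 0, 3, 0, 2, 0, 3, 0, 2, 0, 3, 0, 3, 0, 2, 1, 3, 1, 2, 1, 3, 1, 2, 1, 3, 1, 3, 1, 2, 1, 3, 1, 2, 1, 3, 1, 2, 1, 3], 1), ([3, 1, 3, 1, 2, 1, 3, 1, 3, 1, 2, 1, 3, 3, 1, 3, 1, 2, 1, 3, 1, 3, 3, 1, 3, 1, 2, 1, 2, 1, 2, 2, 2, 0, 3, 0, 3, 0, 2, 0, 3, 0, 2, 0, 3, 0, 2, 0, 3, 0, 3, 0, 2, 1, 3, 1, 2, 1, 3, 1, 2, 1, 3, 1, 3, 1, 2, 1, 3, 1, 2, 1, 3, 1, 2], 1), ([3, 1, 3, 1, 2, 1, 3, 1, 3, 1, 2, 1, 3, 3, 1, 3, 1, 2, 1, 3, 1, 3, 3, 1, 3, 1, 2, 1, 2, 1, 2, 2, 2, 0, 3, 0, 3, 0, 2, 0, 3, 0, 2, 0, 3, 0, 2, 0, 3, 0, 3, 0, 2, 1, 3, 1, 2, 1, 3, 1, 2, 1, 3,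 1, 3, 1, 2, 1, 3, 1, 2, 1, 3], 1), ([3, 1, 3, 1, 2, 1, 3, 1, 3, 1, 2, 1, 3, 3, 1, 3, 1, 2, 1, 3, 1, 3, 3, 1, 3, 1, 2, 1, 2, 1, 2, 2, 2, 0, 3, 0, 3, 0, 2, 0, 3, 0, 2, 0, 3, 0, 2, 0, 3, 0, 3, 0, 2, 1, 3, 1, 2, 1, 3, 1, 2, 1, 3, 1, 3, 1, 2, 1, 3, 1, 2], 1), ([3, 1, 3, 1, 2, 1, 3, 1, 3, 1, 2, 1, 3, 3, 1, 3, 1, 2, 1, 3, 1, 3, 3, 1, 3, 1, 2, 1, 2, 1, 2, 2, 2, 0, 3, 0, 3, 0, 2, 0, 3, 0, 2, 0, 3, 0, 2, 0, 3, 0, 3, 0, 2, 1, 3, 1, 2, 1, 3, 1, 2, 1, 3, 1, 3, 1, 2, 1, 3], 1), ([3, 1, 3, 1, 2, 1, 3, 1, 3, 1, 2, 1, 3, 3, 1, 3, 1, 2, 1, 3, 1, 3, 3, 1, 3, 1, 2, 1, 2, 1, 2, 2, 2, 0, 3, 0, 3, 0, 2, 0, 3, 0, 2, 0, 3, 0, 2, 0, 3, 0, 3, 0, 2, 1, 3, 1, 2, 1, 3, 1, 2, 1, 3, 1, 3, 1, 2],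 1), ([3, 1, 3, 1, 2, 1, 3, 1, 3, 1, 2, 1, 3, 3, 1, 3, 1, 2, 1, 3, 1, 3, 3, 1, 3, 1, 2, 1, 2, 1, 2, 2, 2, 0, 3, 0, 3, 0, 2, 0, 3, 0, 2, 0, 3, 0, 2, 0, 3, 0, 3, 0, 2, 1, 3, 1, 2, 1, 3, 1, 2, 1, 3, 1, 3], 1), ([3, 1, 3, 1, 2, 1, 3, 1, 3, 1, 2, 1, 3, 3, 1, 3, 1, 2, 1, 3, 1, 3, 3, 1, 3, 1, 2, 1, 2, 1, 2, 2, 2, 0, 3, 0, 3, 0, 2, 0, 3, 0, 2, 0, 3, 0, 2, 0, 3, 0, 3, 0, 2, 1, 3, 1, 2, 1, 3, 1, 2, 1, 3], 1), ([3, 1, 3, 1, 2, 1, 3, 1, 3, 1, 2, 1, 3, 3, 1, 3, 1, 2, 1, 3, 1, 3, 3, 1, 3, 1, 2, 1, 2, 1, 2, 2, 2, 0, 3, 0, 3, 0, 2, 0, 3, 0, 2, 0, 3, 0, 2, 0, 3, 0, 3, 0, 2, 1, 3, 1, 2, 1, 3, 1, 2], 1), ([3, 1, 3, 1, 2, 1, 3, 1, 3, 1, 2, 1, 3, 3, 1, 3, 1, 2, 1, 3, 1, 3, 3, 1, 3, 1,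 2, 1, 2, 1, 2, 2, 2, 0, 3, 0, 3, 0, 2, 0, 3, 0, 2, 0, 3, 0, 2, 0, 3, 0, 3, 0, 2, 1, 3, 1, 2, 1, 3], 1), ([3, 1, 3, 1, 2, 1, 3, 1, 3, 1, 2, 1, 3, 3, 1, 3, 1, 2, 1, 3, 1, 3, 3, 1, 3, 1, 2, 1, 2, 1, 2, 2, 2, 0, 3, 0, 3, 0, 2, 0, 3, 0, 2, 0, 3, 0, 2, 0, 3, 0, 3, 0, 2, 1, 3, 1, 2], 1), ([3, 1, 3, 1, 2, 1, 3, 1, 3, 1, 2, 1, 3, 3, 1, 3, 1, 2, 1, 3, 1, 3, 3, 1, 3, 1, 2, 1, 2, 1, 2, 2, 2, 0, 3, 0, 3, 0, 2, 0, 3, 0, 2, 0, 3, 0, 2, 0, 3, 0, 3, 0, 2, 1, 3], 1), ([3, 1, 3, 1, 2, 1, 3, 1, 3, 1, 2, 1, 3, 3, 1, 3, 1, 2, 1, 3, 1, 3, 3, 1, 3, 1, 2, 1, 2, 1, 2, 2, 2, 0, 3, 0, 3, 0, 2, 0, 3, 0, 2, 0, 3, 0, 2, 0, 3, 0, 3], 0), ([3, 1, 3, 1, 2, 1, 3, 1, 3, 1, 2, 1, 3, 3, 1, 3, 1, 2, 1,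 3, 1, 3, 3, 1, 3, 1, 2, 1, 2, 1, 2, 2, 2, 0, 3, 0, 3, 0, 2, 0, 3, 0, 2, 0, 3, 0, 2, 0, 3], 0), ([3, 1, 3, 1, 2, 1, 3, 1, 3, 1, 2, 1, 3, 3, 1, 3, 1, 2, 1, 3, 1, 3, 3, 1, 3, 1, 2, 1, 2, 1, 2, 2, 2, 0, 3, 0, 3, 0, 2, 0, 3, 0, 2, 0, 3, 0, 2], 0), ([3, 1, 3, 1, 2, 1, 3, 1, 3, 1, 2, 1, 3, 3, 1, 3, 1, 2, 1, 3, 1, 3, 3, 1, 3, 1, 2, 1, 2, 1, 2, 2, 2, 0, 3, 0, 3, 0, 2, 0, 3, 0, 2, 0, 3], 0), ([3, 1, 3, 1, 2, 1, 3, 1, 3, 1, 2, 1, 3, 3, 1, 3, 1, 2, 1, 3, 1, 3, 3, 1, 3, 1, 2, 1, 2, 1, 2, 2, 2, 0, 3, 0, 3, 0, 2, 0, 3, 0, 2], 0), ([3, 1, 3, 1, 2, 1, 3, 1, 3, 1, 2, 1, 3, 3, 1, 3, 1, 2, 1, 3, 1, 3, 3, 1, 3, 1, 2, 1, 2, 1, 2, 2, 2, 0, 3, 0, 3, 0, 2, 0, 3], 0), ([3, 1, 3, 1, 2, 1, 3,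 1, 3, 1, 2, 1, 3, 3, 1, 3, 1, 2, 1, 3, 1, 3, 3, 1, 3, 1, 2, 1, 2, 1, 2, 2, 2, 0, 3, 0, 3, 0, 2], 0), ([3, 1, 3, 1, 2, 1, 3, 1, 3, 1, 2, 1, 3, 3, 1, 3, 1, 2, 1, 3, 1, 3, 3, 1, 3, 1, 2, 1, 2, 1, 2, 2, 2, 0, 3, 0, 3], 0), ([3, 1, 3, 1, 2, 1, 3, 1, 3, 1, 2, 1, 3, 3, 1, 3, 1, 2, 1, 3, 1, 3, 3, 1, 3, 1, 2, 1, 2, 1, 2, 2, 2, 0, 3], 0), ([3, 1, 3, 1, 2, 1, 3, 1, 3, 1, 2, 1, 3, 3, 1, 3, 1, 2, 1, 3, 1, 3, 3, 1, 3, 1, 2, 1, 2, 1, 2, 2, 2], 0), ([3, 1, 3, 1, 2, 1, 3, 1, 3, 1, 2, 1, 3, 3, 1, 3, 1, 2, 1, 3, 1, 3, 3, 1, 3, 1, 2, 1, 2, 1], 2), ([3, 1, 3, 1, 2, 1, 3, 1, 3, 1, 2, 1, 3, 3, 1, 3, 1, 2, 1, 3, 1, 3, 3, 1, 3, 1, 2, 1, 2], 1), ([3, 1, 3, 1, 2, 1, 3, 1, 3, 1, 2, 1, 3, 3,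 1, 3, 1, 2, 1, 3, 1, 3, 3, 1, 3, 1, 2], 1), ([3, 1, 3, 1, 2, 1, 3, 1, 3, 1, 2, 1, 3, 3, 1, 3, 1, 2, 1, 3, 1, 3, 3, 1, 3], 1), ([3, 1, 3, 1, 2, 1, 3, 1, 3, 1, 2, 1, 3, 3, 1, 3, 1, 2, 1, 3, 1, 3, 3], 1), ([3, 1, 3, 1, 2, 1, 3, 1, 3, 1, 2, 1, 3, 3, 1, 3, 1, 2, 1, 3, 1, 2], 3), ([3, 1, 3, 1, 2, 1, 3, 1, 3, 1, 2, 1, 3, 3, 1, 3, 1, 2, 1, 3], 1), ([3, 1, 3, 1, 2, 1, 3, 1, 3, 1, 2, 1, 3, 3, 1, 3, 1, 2], 1), ([3, 1, 3, 1, 2, 1, 3, 1, 3, 1, 2, 1, 3, 3, 1, 3], 1), ([3, 1, 3, 1, 2, 1, 3, 1, 3, 1, 2, 1, 3, 3], 1), ([3, 1, 3, 1, 2, 1, 3, 1, 3, 1, 2, 1, 3, 3, 3, 1, 3, 1, 2, 1, 2], 3), ([3, 1, 3, 1, 2, 1, 3, 1, 3, 1, 2, 1], 3), ([3, 1, 3, 1, 2, 1, 3, 1, 3, 1, 2], 1), ([3, 1, 3, 1,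 2, 1, 3, 1, 3], 1), ([3, 1, 3, 1, 2, 1, 3], 1), ([3, 1, 3, 1, 2], 1), ([3, 1, 3], 1), ([3], 1)]),
  ([3, 0, 3, 0, 2, 0, 2, 0, 2, 0, 3, 0, 3, 0, 2, 0, 2, 3, 1, 3, 1, 2, 1, 3, 1, 3, 1, 2, 1, 3, 1, 2, 1, 2, 3, 0, 3, 0, 2, 0, 2, 0, 2, 0, 3, 0, 3, 0, 2, 0, 2, 3, 1, 3, 1, 2, 1, 3, 1, 3, 1, 2, 1, 3, 1, 2, 1, 2, 3, 0, 3, 0, 2, 0, 2, 0, 2, 0, 3, 0, 3, 0, 2, 0, 2, 3, 1, 3, 1, 2, 1, 3, 1, 3, 1, 2, 1, 3, 1, 2, 1, 2, 3, 0, 3, 0, 2, 0, 2, 0, 2, 0, 3, 0, 3, 0, 2, 0, 2, 3, 1, 3, 1, 2, 1, 3, 1, 3, 1, 2, 1, 3, 1, 2, 1, 2, 3, 0, 3, 0, 2, 0, 2, 0, 2, 0, 3, 0, 3, 0, 2, 0, 2, 3, 1, 3, 1, 2, 1, 3, 1, 3, 1, 2, 1, 3, 1, 2, 1, 2], [([3, 0, 3, 0, 2, 0, 3, 0, 2, 0, 2, 2, 1, 3, 1, 3, 3, 0, 2,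 0, 2, 2, 1, 3, 1, 3, 3, 0, 2, 0, 2, 2, 1, 3, 1, 3, 3, 0, 2, 0, 2, 2, 1, 3, 1, 3, 3, 0, 2], 0), ([3, 0, 3, 0, 2, 0, 3, 0, 2, 0, 2, 2, 1, 3, 1, 3, 3, 0, 2, 0, 2, 2, 1, 3, 1, 3, 3, 0, 2, 0, 2, 2, 1, 3, 1, 3, 3, 0, 2, 0, 2, 2, 1, 3, 1, 3, 3], 0), ([3, 0, 3, 0, 2, 0, 3, 0, 2, 0, 2, 2, 1, 3, 1, 3, 3, 0, 2, 0, 2, 2, 1, 3, 1, 3, 3, 0, 2, 0, 2, 2, 1, 3, 1, 3, 3, 0, 2], 0), ([3, 0, 3, 0, 2, 0, 3, 0, 2, 0, 2, 2, 1, 3, 1, 3, 3, 0, 2, 0, 2, 2, 1, 3, 1, 3, 3, 0, 2, 0, 2, 2, 1, 3, 1, 3, 3], 0), ([3, 0, 3, 0, 2, 0, 3, 0, 2, 0, 2, 2, 1, 3, 1, 3, 3, 0, 2, 0, 2, 2, 1, 3, 1, 3, 3, 0, 2], 0), ([3, 0, 3, 0, 2, 0, 3, 0, 2, 0, 2, 2, 1, 3, 1, 3, 3, 0, 2, 0, 2, 2, 1, 3, 1, 3, 3], 0), ([3,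 0, 3, 0, 2, 0, 3, 0, 2, 0, 2, 2, 1, 3, 1, 3, 3, 0, 2], 0), ([3, 0, 3, 0, 2, 0, 3, 0, 2, 0, 2, 2, 1, 3, 1, 3, 3], 0), ([3, 0, 3, 0, 2, 0, 3, 0, 2], 0), ([3, 0, 3, 0, 2, 0, 3], 0), ([3, 0, 3, 0, 2], 0), ([3, 0, 3], 0), ([3], 0), ([3, 1, 3, 1, 2, 1, 3, 1, 2, 1, 2, 2, 1, 3, 1, 3, 3, 1, 2, 1, 2, 2, 1, 3, 1, 3, 3, 1, 2, 1, 2, 2, 1, 3, 1, 3, 3, 1, 2, 1, 2, 2, 1, 3, 1, 3, 3, 1, 2, 1, 3], 2), ([3, 1, 3, 1, 2, 1, 3, 1, 2, 1, 2, 2, 1, 3, 1, 3, 3, 1, 2, 1, 2, 2, 1, 3, 1, 3, 3, 1, 2, 1, 2, 2, 1, 3, 1, 3, 3, 1, 2, 1, 2, 2, 1, 3, 1, 2], 3), ([3, 1, 3, 1, 2, 1, 3, 1, 2, 1, 2, 2, 1, 3, 1, 3, 3, 1, 2, 1, 2, 2, 1, 3, 1, 3, 3, 1, 2, 1, 2, 2, 1, 3, 1, 3, 3, 1, 2, 1, 3], 2), ([3, 1, 3,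 1, 2, 1, 3, 1, 2, 1, 2, 2, 1, 3, 1, 3, 3, 1, 2, 1, 2, 2, 1, 3, 1, 3, 3, 1, 2, 1, 2, 2, 1, 3, 1, 2], 3), ([3, 1, 3, 1, 2, 1, 3, 1, 2, 1, 2, 2, 1, 3, 1, 3, 3, 1, 2, 1, 2, 2, 1, 3, 1, 3, 3, 1, 2, 1, 3], 2), ([3, 1, 3, 1, 2, 1, 3, 1, 2, 1, 2, 2, 1, 3, 1, 3, 3, 1, 2, 1, 2, 2, 1, 3, 1, 3, 3, 3, 0, 2, 0, 2, 0, 3, 0, 3, 0, 2, 0, 2], 9), ([3, 1, 3, 1, 2, 1, 3, 1, 2, 1, 2, 2, 1, 3, 1, 3, 3, 1, 2, 1, 2, 2, 1, 3, 1, 3, 3, 3, 0, 2, 0, 2, 0, 3, 0, 3, 0, 2, 0, 2, 1, 3, 1, 3, 0, 2, 0, 2, 1, 3, 1, 3, 0, 2, 0, 2, 1, 3, 1, 3, 0, 2, 0, 2, 1, 3, 1, 3, 0, 2, 0, 2, 1, 3], 1), ([3, 1, 3, 1, 2, 1, 3, 1, 2, 1, 2, 2, 1, 3, 1, 3, 3, 1, 2, 1, 2, 2, 1, 3, 1, 3, 3, 3, 0, 2, 0, 2, 0, 3, 0, 3, 0,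 2, 0, 2, 1, 3, 1, 3, 0, 2, 0, 2, 1, 3, 1, 3, 0, 2, 0, 2, 1, 3, 1, 3, 0, 2, 0, 2, 1, 3, 1, 3, 0, 2, 0, 2], 1), ([3, 1, 3, 1, 2, 1, 3, 1, 2, 1, 2, 2, 1, 3, 1, 3, 3, 1, 2, 1, 2, 2, 1, 3, 1, 3, 3, 3, 0, 2, 0, 2, 0, 3, 0, 3, 0, 2, 0, 2, 1, 3, 1, 3, 0, 2, 0, 2, 1, 3, 1, 3, 0, 2, 0, 2, 1, 3, 1, 3, 0, 2, 0, 2, 1, 3], 1), ([3, 1, 3, 1, 2, 1, 3, 1, 2, 1, 2, 2, 1, 3, 1, 3, 3, 1, 2, 1, 2, 2, 1, 3, 1, 3, 3, 3, 0, 2, 0, 2, 0, 3, 0, 3, 0, 2, 0, 2, 1, 3, 1, 3, 0, 2, 0, 2, 1, 3, 1, 3, 0, 2, 0, 2, 1, 3, 1, 3, 0, 2, 0, 2], 1), ([3, 1, 3, 1, 2, 1, 3, 1, 2, 1, 2, 2, 1, 3, 1, 3, 3, 1, 2, 1, 2, 2, 1, 3, 1, 3, 3, 3, 0, 2, 0, 2, 0, 3, 0, 3, 0, 2, 0, 2, 1, 3, 1, 3, 0, 2, 0, 2, 1, 3, 1, 3,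 0, 2, 0, 2, 1, 3], 1), ([3, 1, 3, 1, 2, 1, 3, 1, 2, 1, 2, 2, 1, 3, 1, 3, 3, 1, 2, 1, 2, 2, 1, 3, 1, 3, 3, 3, 0, 2, 0, 2, 0, 3, 0, 3, 0, 2, 0, 2, 1, 3, 1, 3, 0, 2, 0, 2, 1, 3, 1, 3, 0, 2, 0, 2], 1), ([3, 1, 3, 1, 2, 1, 3, 1, 2, 1, 2, 2, 1, 3, 1, 3, 3, 1, 2, 1, 2, 2, 1, 3, 1, 3, 3, 3, 0, 2, 0, 2, 0, 3, 0, 3, 0, 2, 0, 2, 1, 3, 1, 3, 0, 2, 0, 2, 1, 3], 1), ([3, 1, 3, 1, 2, 1, 3, 1, 2, 1, 2, 2, 1, 3, 1, 3, 3, 1, 2, 1, 2, 2, 1, 3, 1, 3, 3, 3, 0, 2, 0, 2, 0, 3, 0, 3, 0, 2, 0, 2, 1, 3, 1, 3, 0, 2, 0, 2], 1), ([3, 1, 3, 1, 2, 1, 3, 1, 2, 1, 2, 2, 1, 3, 1, 3, 3, 1, 2, 1, 2, 2, 1, 3, 1, 3, 3, 3, 0, 2, 0, 2, 0, 3, 0, 3, 0, 2], 0), ([3, 1, 3, 1, 2, 1, 3, 1, 2, 1, 2, 2, 1, 3, 1,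 3, 3, 1, 2, 1, 2, 2, 1, 3, 1, 3, 3, 3, 0, 2, 0, 2, 0, 3, 0, 3], 0), ([3, 1, 3, 1, 2, 1, 3, 1, 2, 1, 2, 2, 1, 3, 1, 3, 3, 1, 2, 1, 2, 2, 1, 3, 1, 3, 3, 3, 0, 2, 0, 2, 0, 3], 0), ([3, 1, 3, 1, 2, 1, 3, 1, 2, 1, 2, 2, 1, 3, 1, 3, 3, 1, 2, 1, 2, 2, 1, 3, 1, 3, 3, 3, 0, 2, 0, 2], 0), ([3, 1, 3, 1, 2, 1, 3, 1, 2, 1, 2, 2, 1, 3, 1, 3, 3, 1, 2, 1, 2, 2, 1, 3, 1, 3, 3, 3, 0, 2], 0), ([3, 1, 3, 1, 2, 1, 3, 1, 2, 1, 2, 2, 1, 3, 1, 3, 3, 1, 2, 1, 2, 2, 1, 3, 1, 3, 3, 3], 0), ([3, 1, 3, 1, 2, 1, 3, 1, 2, 1, 2, 2, 1, 3, 1, 3, 3, 1, 2, 1, 2, 2, 1, 3, 1], 3), ([3, 1, 3, 1, 2, 1, 3, 1, 2, 1, 2, 2, 1, 3, 1, 3, 3, 1, 2, 1, 2, 2, 1, 3], 1), ([3, 1, 3, 1, 2, 1, 3, 1, 2, 1, 2, 2, 1, 3,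 1, 3, 3, 1, 2, 1, 2, 2], 1), ([3, 1, 3, 1, 2, 1, 3, 1, 2, 1, 2, 2, 1, 3, 1, 3, 3, 1, 2, 1, 3], 2), ([3, 1, 3, 1, 2, 1, 3, 1, 2, 1, 2, 2, 1, 3, 1, 3, 3, 1, 2], 1), ([3, 1, 3, 1, 2, 1, 3, 1, 2, 1, 2, 2, 1, 3, 1, 3, 3], 1), ([3, 1, 3, 1, 2, 1, 3, 1, 2, 1, 2, 2, 1, 3, 1, 2], 3), ([3, 1, 3, 1, 2, 1, 3, 1, 2, 1, 2, 2, 1, 3], 1), ([3, 1, 3, 1, 2, 1, 3, 1, 2, 1, 2, 2], 1), ([3, 1, 3, 1, 2, 1, 3, 1, 2, 1, 3], 2), ([3, 1, 3, 1, 2, 1, 3, 1, 2], 1), ([3, 1, 3, 1, 2, 1, 3], 1), ([3, 1, 3, 1, 2, 1], 3), ([3, 1, 3, 1, 2], 1), ([3, 1, 3], 1), ([3], 1)]),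
  ([3, 0, 3, 0, 3, 0, 3, 0, 2, 0, 2, 0, 3, 0, 2, 0, 2, 0, 2, 0, 2, 3, 1, 3, 1, 3, 1, 3, 1, 3, 1, 3, 1, 2, 1, 2, 1, 2, 1, 2, 1, 2, 3, 0, 3, 0, 3, 0, 3, 0, 2, 0, 2, 0, 3, 0, 2, 0, 2, 0, 2, 0, 2, 3, 1, 3, 1, 3, 1, 3, 1, 3, 1, 3, 1, 2, 1, 2, 1, 2, 1, 2, 1, 2, 3, 0, 3, 0, 3, 0, 3, 0, 2, 0, 2, 0, 3, 0, 2, 0, 2, 0, 2, 0, 2, 3, 1, 3, 1, 3, 1, 3, 1, 3, 1, 3, 1, 2, 1, 2, 1, 2, 1, 2, 1, 2, 3, 0, 3, 0, 3, 0, 3, 0, 2, 0, 2, 0, 3, 0, 2, 0, 2, 0, 2, 0, 2, 3, 1, 3, 1, 3, 1, 3, 1, 3, 1, 3, 1, 2, 1, 2, 1, 2, 1, 2, 1, 2, 3, 0, 3, 0, 3, 0, 3, 0, 2, 0, 2, 0, 3, 0, 2, 0, 2, 0, 2, 0, 2, 3, 1, 3, 1, 3, 1, 3, 1, 3, 1, 3, 1, 2, 1, 2, 1, 2, 1, 2, 1, 2], [([3, 0, 3, 0, 3, 0, 3, 0, 3, 0, 2, 0,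 2, 2, 1, 3, 1, 3, 3, 0, 2, 0, 2, 2, 1, 3, 1, 3, 3, 0, 2, 0, 2, 2, 1, 3, 1, 3, 3, 0, 2, 0, 2, 2, 1, 3, 1, 3, 3, 0, 2], 0), ([3, 0, 3, 0, 3, 0, 3, 0, 3, 0, 2, 0, 2, 2, 1, 3, 1, 3, 3, 0, 2, 0, 2, 2, 1, 3, 1, 3, 3, 0, 2, 0, 2, 2, 1, 3, 1, 3, 3, 0, 2, 0, 2, 2, 1, 3, 1, 3, 3], 0), ([3, 0, 3, 0, 3, 0, 3, 0, 3, 0, 2, 0, 2, 2, 1, 3, 1, 3, 3, 0, 2, 0, 2, 2, 1, 3, 1, 3, 3, 0, 2, 0, 2, 2, 1, 3, 1, 3, 3, 0, 2], 0), ([3, 0, 3, 0, 3, 0, 3, 0, 3, 0, 2, 0, 2, 2, 1, 3, 1, 3, 3, 0, 2, 0, 2, 2, 1, 3, 1, 3, 3, 0, 2, 0, 2, 2, 1, 3, 1, 3, 3], 0), ([3, 0, 3, 0, 3, 0, 3, 0, 3, 0, 2, 0, 2, 2, 1, 3, 1, 3, 3, 0, 2, 0, 2, 2, 1, 3, 1, 3, 3, 0, 2], 0), ([3, 0, 3, 0, 3, 0, 3, 0, 3, 0, 2, 0, 2, 2,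 1, 3, 1, 3, 3, 0, 2, 0, 2, 2, 1, 3, 1, 3, 3], 0), ([3, 0, 3, 0, 3, 0, 3, 0, 3, 0, 2, 0, 2, 2, 1, 3, 1, 3, 3, 0, 2], 0), ([3, 0, 3, 0, 3, 0, 3, 0, 3, 0, 2, 0, 2, 2, 1, 3, 1, 3, 3], 0), ([3, 0, 3, 0, 3, 0, 3, 0, 3, 0, 2], 0), ([3, 0, 3, 0, 3, 0, 3, 0, 3], 0), ([3, 0, 3, 0, 3, 0, 3], 0), ([3, 0, 3, 0, 3], 0), ([3, 0, 3], 0), ([3], 0), ([3, 1, 3, 1, 3, 1, 3, 1, 1, 3, 1, 2, 1, 2], 41), ([3, 1, 3, 1, 3, 1, 3, 1, 2, 0, 2, 0, 3, 3, 1, 3, 1, 2, 2, 0, 2, 0, 3, 3, 1, 3, 1, 2, 2, 0, 2, 0, 3, 3, 1, 3, 1, 2, 2, 0, 2, 0, 3, 3, 1, 3, 1, 2, 2, 0, 2, 0, 3, 3, 1, 3], 1), ([3, 1, 3, 1, 3, 1, 3, 1, 2, 0, 2, 0, 3, 3, 1, 3, 1, 2, 2, 0, 2, 0, 3, 3, 1, 3, 1, 2, 2, 0, 2, 0, 3, 3, 1, 3, 1,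 2, 2, 0, 2, 0, 3, 3, 1, 3, 1, 2, 2, 0, 2, 0, 3, 3], 1), ([3, 1, 3, 1, 3, 1, 3, 1, 2, 0, 2, 0, 3, 3, 1, 3, 1, 2, 2, 0, 2, 0, 3, 3, 1, 3, 1, 2, 2, 0, 2, 0, 3, 3, 1, 3, 1, 2, 2, 0, 2, 0, 3, 3, 1, 3], 1), ([3, 1, 3, 1, 3, 1, 3, 1, 2, 0, 2, 0, 3, 3, 1, 3, 1, 2, 2, 0, 2, 0, 3, 3, 1, 3, 1, 2, 2, 0, 2, 0, 3, 3, 1, 3, 1, 2, 2, 0, 2, 0, 3, 3], 1), ([3, 1, 3, 1, 3, 1, 3, 1, 2, 0, 2, 0, 3, 3, 1, 3, 1, 2, 2, 0, 2, 0, 3, 3, 1, 3, 1, 2, 2, 0, 2, 0, 3, 3, 1, 3], 1), ([3, 1, 3, 1, 3, 1, 3, 1, 2, 0, 2, 0, 3, 3, 1, 3, 1, 2, 2, 0, 2, 0, 3, 3, 1, 3, 1, 2, 2, 0, 2, 0, 3, 3], 1), ([3, 1, 3, 1, 3, 1, 3, 1, 2, 0, 2, 0, 3, 3, 1, 3, 1, 2, 2, 0, 2, 0, 3, 3, 1, 3], 1), ([3, 1, 3, 1, 3, 1, 3,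 1, 2, 0, 2, 0, 3, 3, 1, 3, 1, 2, 2, 0, 2, 0, 3, 3], 1), ([3, 1, 3, 1, 3, 1, 3, 1, 2, 0, 2, 0, 3, 3, 1, 3], 1), ([3, 1, 3, 1, 3, 1, 3, 1, 2, 0, 2, 0, 3, 3], 1), ([3, 1, 3, 1, 3, 1, 3], 1), ([3, 1, 3, 1, 3], 1), ([3, 1, 3], 1), ([3], 1)])]
    (by decide +kernel)
end H66.J4
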