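import Cfsg.Prelude.Def_Spor_J4
import Cfsg.Agent.Lib.CGT.Pres
/-! The relators of the presented fourth Janko group as lists of letters
(0 = x, 1 = x⁻¹, 2 = y, 3 = y⁻¹, 4 = t, 5 = t⁻¹). -/
set_option autoImplicit false
set_option maxRecDepth 100000
namespace H66.J4
open Cfsg.Spor H54

/-- the seven relators in `x, y` -/
def RM : List (List ℕ) := [[0, 0],
  [2, 2, 2],
  [0, 2, 0, 2, 0, 2, 0, 2, 0, 2, 0, 2, 0, 2, 0, 2, 0, 2, 0, 2, 0, 2, 0, 2, 0, 2, 0, 2, 0, 2, 0, 2, 0, 2, 0, 2, 0, 2, 0, 2, 0, 2, 0, 2, 0, 2],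
  [1, 3, 0, 2, 1, 3, 0, 2, 1, 3, 0, 2, 1, 3, 0, 2, 1, 3, 0, 2, 1, 3, 0, 2, 1, 3, 0, 2, 1, 3, 0, 2, 1, 3, 0, 2, 1, 3, 0, 2, 1, 3, 0, 2, 1, 3, 0, 2],
  [1, 3, 1, 3, 0, 2, 0, 2, 1, 3, 1, 3, 0, 2, 0, 2, 1, 3, 1, 3, 0, 2, 0, 2, 1, 3, 1, 3, 0, 2, 0, 2, 1, 3, 1, 3, 0, 2, 0, 2],
  [0, 2, 0, 2, 0, 3, 0, 2, 0, 3, 0, 2, 0, 3, 0, 2, 0, 2, 0, 3, 0, 2, 0, 3, 0, 2, 0, 3, 0, 2, 0, 2, 0, 3, 0, 2, 0, 3, 0, 2, 0, 3, 0, 2, 0, 2, 0, 3, 0, 2, 0, 3, 0, 2, 0, 3],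
  [0, 2, 0, 2, 0, 3, 0, 2, 0, 2, 0, 3, 0, 2, 0, 2, 0, 3, 0, 2, 0, 3, 0, 3, 0, 2, 0, 3, 0, 3, 0, 2, 0, 3, 0, 3]]

/-- the five relators with `t` -/
def RT : List (List ℕ) := [[4, 4],
  [5, 3, 1, 3, 1, 3, 1, 2, 1, 2, 1, 3, 1, 3, 4, 2, 0, 2, 0, 3, 0, 3, 0, 2, 0, 2, 0, 2],
  [5, 1, 4, 0],
  [2, 1, 2, 1, 3, 1, 2, 1, 3, 4, 2, 0, 3, 0, 2, 0, 3, 0, 2, 1, 2, 1, 3, 1, 2, 1, 3, 4, 2, 0, 3, 0, 2, 0, 3, 0, 2, 1, 2, 1, 3, 1, 2, 1, 3, 4, 2, 0, 3, 0, 2, 0, 3, 0],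
  [2, 0, 2, 0, 2, 0, 2, 2, 0, 2, 0, 2, 0, 2, 2, 0, 2, 0, 2, 0, 2, 4, 3, 3, 1, 3, 1, 3, 1, 3, 1, 3, 1, 3, 1, 3, 3, 1, 3, 1, 3, 1, 4, 0, 2, 0, 2, 0, 2, 2, 0, 2, 0, 2, 0, 2, 0, 2, 0, 2, 0, 2, 2, 2, 0, 2, 0, 2, 0, 2, 2, 0, 2, 0, 2, 0, 2, 2, 0, 2, 0, 2, 0, 2, 4, 3, 3, 1, 3, 1, 3, 1, 3, 1, 3, 1, 3, 1, 3, 3, 1, 3, 1, 3, 1, 4, 0, 2, 0, 2, 0, 2, 2, 0, 2, 0, 2, 0, 2, 0, 2, 0, 2, 0, 2, 2]]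

/-- all the relators -/
def RJ : List (List ℕ) := RM ++ RT

def gens : List J4.Gen := [.x, .y, .t]
theorem mem_gens (y : J4.Gen) : y ∈ gens := by cases y <;> decide

/-- the generators `x, y, t` of the presented group -/
abbrev gJ : ℕ → J4 := cgen gens J4.edges J4.extra

theorem pres : Pres RJ 3 J4 gJ := pres_of_dv mem_gens (by decide) (L := []) (L' := [])
  (by decide +kernel)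

theorem relsM {G : Type*} [Group G] {g : ℕ → G} (h : Rels RJ g) : Rels RM g :=
  fun w hw => h w (List.mem_append_left _ hw)

theorem relsT {G : Type*} [Group G] {g : ℕ → G} (h : Rels RJ g) : Rels RT g :=
  fun w hw => h w (List.mem_append_right _ hw)

/-- the word `(y * w⁻¹ * t * w) ^ 3`, `w = (y * x) ^ 4 * y⁻¹ * x` -/
def uW : List ℕ := [2, 1, 2, 1, 3, 1, 3, 1, 3, 1, 3, 4, 2, 0, 2, 0, 2, 0, 2, 0, 3, 0, 2, 1, 2, 1, 3, 1, 3, 1, 3, 1, 3, 4, 2, 0, 2, 0, 2, 0, 2, 0, 3, 0, 2, 1, 2, 1, 3, 1, 3, 1, 3, 1, 3, 4, 2, 0, 2, 0, 2, 0, 2, 0, 3, 0]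

end H66.J4
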