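import Cfsg.Agent.Lib.Mdl.Tools
import Cfsg.Agent.Lib.Mdl.Fp
import Cfsg.Agent.Lib.GL.Basic
/-! Isomorphisms with small matrix groups from product models. -/
set_option autoImplicit false
namespace H66.J4
open H54 (band band_eq_true allL allL_iff allLt allLt_iff dig)
open H15.Mdl Subgroup

/-- the model of the general linear group -/
abbrev RG (n w P : ℕ) (u : GL (Fin n) (ZMod P)) (p : ℕ) : Prop := RM n n w P (u : Matrix _ _ _) p

/-- `p` is the code of a matrix of order dividing `k` -/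
noncomputable def okG (o : Ops) (n w P k p : ℕ) : Bool :=
  band (Nat.beq (Nat.shiftRight p (w * (n * n))) 0)
    (band (allLt (fun l => Nat.ble (Nat.succ (dig w p l)) P) (n * n)) (o.isOne (o.pow p (Nat.succ k))))

theorem allIn_G {o : Ops} {n w P μ s : ℕ} (ho : IsFp o n w P μ s) {k : ℕ} {S : List ℕ}
    (e : allL (okG o n w P k) S = true) : AllIn (RG n w P) ⊤ S := fun p hp => by
  have := (allL_iff _ _).1 e p hp
  simp only [okG, band_eq_true, allLt_iff, Nat.ble_eq, Nat.beq_eq] at this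
  have r : RM n n w P (Matrix.of fun i j => (dig w p (n * j + i) : ZMod P)) p := RM.of_forall this.1 fun i j =>
    ZMod.val_cast_of_lt (this.2.1 _ (by have := i.2; have := j.2; nlinarith))
  obtain ⟨u, hu⟩ := (sound_Fp ho).exists_unit r k.succ_ne_zero this.2.2
  exact ⟨u, trivial, by rw [RG, hu]; exact r⟩

variable {G G' : Type*} [Group G] [Group G'] {o o' o₂ : Ops} {R : G → ℕ → Prop} {R' : G' → ℕ → Prop} {K : ℕ}
  {S : List ℕ} {N : ℕ}

theorem equiv_of_flat [Finite G] [Finite G'] (h : Sound o R) (h' : Sound o' R') (h₂ : Sound o₂ (RProd R R' K))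
    (v : AllIn (RProd R R' K) ⊤ S) {T par hint : ℕ → ℕ} (hN : 0 < N) (c1 : ∀ i, i < N → treeAt o₂ T S par i = true)
    (c2 : ∀ i, i < N → upAt o₂ N T (fun _ => o₂.one) 1 S hint i = true)
    (d1 : ∀ i, i < N → distAt o (fun i => T i % 2 ^ K) i = true)
    (d2 : ∀ i, i < N → distAt o' (fun i => T i >>> K) i = true) (hc : Nat.card G = N) :
    Nonempty (grp R' (S.map (· >>> K)) ≃* G) := by
  obtain ⟨m, c⟩ := Cov.list h₂ v hN c1 c2
  have m1 : Mem R (grp R (S.map (· % 2 ^ K))) N fun i => T i % 2 ^ K := ⟨m.1.1, fun i hi => by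
    obtain ⟨g, hg, r⟩ := m.2 i hi
    exact ⟨g.1, map_fst_grp v ▸ mem_map_of_mem _ hg, r.1⟩⟩
  have m2 : Mem R' (grp R' (S.map (· >>> K))) N fun i => T i >>> K := ⟨m.1.2, fun i hi => by
    obtain ⟨g, hg, r⟩ := m.2 i hi
    exact ⟨g.2, map_snd_grp v ▸ mem_map_of_mem _ hg, r.2⟩⟩
  obtain ⟨φ, hφ, -⟩ := exists_hom_of_cov h₂ v c
    (m1.eq_of_card le_top (Dist.of_distAt h d1) (by rw [card_top, hc])) rfl (by rw [card_top, hc])
  exact ⟨(MulEquiv.ofBijective φ (hφ.bijective_of_nat_card_le (by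
    rw [card_top, hc]; exact m2.le_card (Dist.of_distAt h' d2)))).symm.trans topEquiv⟩

theorem equiv_quot [Finite G] (h₂ : Sound o₂ (RProd R R' K)) (v : AllIn (RProd R R' K) ⊤ S) {e : ℕ → ℕ}
    (c : Cov (RProd R R' K) (grp (RProd R R' K) S) N e) (e1 : grp R (S.map (· % 2 ^ K)) = ⊤) (hc : Nat.card G = N)
    {Z : Subgroup G} [Z.Normal] {z : G} (hz : Z = zpowers z) (z1 : (z, 1) ∈ grp (RProd R R' K) S)
    (hZ : N ≤ Nat.card Z * Nat.card (grp R' (S.map (· >>> K)))) : Nonempty (grp R' (S.map (· >>> K)) ≃* G ⧸ Z) := by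
  obtain ⟨φ, hφ, hg⟩ := exists_hom_of_cov h₂ v c e1 rfl (by rw [card_top, hc])
  let ψ := φ.comp (topEquiv (G := G)).symm.toMonoidHom
  have hψ : Function.Surjective ψ := hφ.comp topEquiv.symm.surjective
  have c1 := ψ.ker.card_mul_index
  rw [index_ker, MonoidHom.range_eq_top.2 hψ, card_top, hc] at c1
  have : Z = ψ.ker := eq_of_le_of_card_ge (hz ▸ zpowers_le.2 (Subtype.ext ((hg ⟨z, trivial⟩ 1).1 z1)))
    (Nat.le_of_mul_le_mul_right (c1.le.trans hZ) (Nat.pos_of_ne_zero fun e => Nat.card_pos.ne' (by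
      rw [hc, ← c1, e, mul_zero])))
  exact ⟨(QuotientGroup.quotientKerEquivOfSurjective ψ hψ).symm.trans (QuotientGroup.quotientMulEquivOfEq this.symm)⟩

theorem grp_mono (v : AllIn R ⊤ S) {S' : List ℕ} (h : ∀ s ∈ S', s ∈ S) : grp R S' ≤ grp R S :=
  grp_le_of fun s hs _ r => have _ := v; mem_grp (h s hs) r

theorem dvd_of_flat (h : Sound o R) {H : Subgroup G} (v : AllIn R H S) {T par hint : ℕ → ℕ} (hN : 0 < N)
    (c1 : ∀ i, i < N → treeAt o T S par i = true)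
    (c2 : ∀ i, i < N → upAt o N T (fun _ => o.one) 1 S hint i = true) (d : Dist R ⊥ N T) : N ∣ Nat.card H :=
  (Enum.list h v hN c1 c2 d).card h ▸ card_dvd_of_le (grp_le h v)

theorem pg_zpowers {a : G} {p : ℕ} (h : a ^ p = 1) : IsPGroup p (zpowers a) := by
  rintro ⟨_, i, rfl⟩
  exact ⟨1, Subtype.ext (by
    rw [pow_one, SubgroupClass.coe_pow, ← zpow_natCast, ← zpow_mul, mul_comm, zpow_mul, zpow_natCast, h]; simp)⟩

theorem exists_nonab [Finite G] {a b : G} {p : ℕ} (ha : a ^ p = 1) (hb : b ^ p = 1)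
    (hc : (b * a * b⁻¹ * a⁻¹) ^ p = 1) (ca : Commute (b * a * b⁻¹ * a⁻¹) a) (cb : Commute (b * a * b⁻¹ * a⁻¹) b)
    (n : a * b ≠ b * a) : ∃ P : Subgroup G, IsPGroup p P ∧ ∃ a ∈ P, ∃ b ∈ P, a * b ≠ b * a := by
  generalize e : b * a * b⁻¹ * a⁻¹ = c at hc ca cb
  have key : ∀ {g : G} {A : Subgroup G}, A.map (MulAut.conj g).toMonoidHom ≤ A → zpowers g ≤ normalizer (A : Set G) :=
    fun l => zpowers_le.2 (mem_normalizer_fintype fun x hx => l ⟨x, hx, rfl⟩)
  refine ⟨zpowers b ⊔ (zpowers a ⊔ zpowers c), (pg_zpowers hb).to_sup_of_normal_right'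
    ((pg_zpowers ha).to_sup_of_normal_right' (pg_zpowers hc) (key ?_)) (key ?_), a,
    mem_sup_right (mem_sup_left (mem_zpowers a)), b, mem_sup_left (mem_zpowers b), n⟩
  · rw [MonoidHom.map_zpowers]
    exact (congrArg zpowers (mul_inv_eq_iff_eq_mul.2 ca.eq.symm)).le
  · rw [Subgroup.map_sup, MonoidHom.map_zpowers, MonoidHom.map_zpowers]
    exact sup_le (zpowers_le.2 (by
      rw [show (MulAut.conj b).toMonoidHom a = c * a from mul_inv_eq_iff_eq_mul.1 e]
      exact mul_mem (mem_sup_right (mem_zpowers c)) (mem_sup_left (mem_zpowers a))))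
      ((congrArg zpowers (mul_inv_eq_iff_eq_mul.2 cb.eq.symm)).le.trans le_sup_right)

end H66.J4
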