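import Cfsg.Agent.Lib.J4.PGen
import Cfsg.Agent.Lib.Mdl.Tools
import Cfsg.Agent.Lib.Fusion.GenExtra
/-! The 11-local structure. -/
set_option autoImplicit false
set_option maxRecDepth 100000
set_option linter.unusedSectionVars false
namespace H66.J4
open Cfsg H15 H75.J4 H75.J4.Md H96.Geo Subgroup

instance fact11 : Fact (Nat.Prime 11) := ⟨by norm_num⟩

theorem prime_J4 {r : ℕ} (hr : r.Prime) (h : r ∣ 86775571046077562880) : r ∈ [2, 3, 5, 7, 11, 23, 29, 31, 37, 43] :=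
  Mdl.prime_mem_of_dvd (K := 21) _ (by decide +kernel) (by decide +kernel) hr h

theorem eq_pow_of {n p : ℕ} (h0 : n ≠ 0) (h : ∀ r, r.Prime → r ∣ n → r ≠ p → False) : ∃ k, n = p ^ k :=
  ⟨_, Nat.eq_prime_pow_of_unique_prime_dvd h0 fun a b => by_contra (h _ a b)⟩

variable {G : Type*} [Group G] {m : Md G}

theorem card_H_cent [Finite G] {x : G} {p a : ℕ} (h : m.KR x p a) (h0 : out a = 0) :
    Nat.card ↥(m.H ⊓ centralizer {x}) =
      ((Finset.range 4096).filter fun y => mv p y = y).card * Nat.card ↥(m.K ⊓ centralizer {x}) := by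
  rw [← Nat.card_eq_finsetCard, ← Nat.card_prod]
  have l : ∀ q : ((Finset.range 4096).filter fun y => mv p y = y), q.1 < 4096 ∧ mv p q.1 = q.1 := fun q =>
    ⟨Finset.mem_range.1 (Finset.mem_filter.1 q.2).1, (Finset.mem_filter.1 q.2).2⟩
  refine (Nat.card_congr (Equiv.ofBijective (fun q => ⟨m.s q.1 * q.2, mul_mem (m.s_mem_H (l _).1) (m.K_le_H q.2.2.1),
    mul_mem (mem_cent.2 (by rw [h.mul_s (l _).1, (l _).2, h0, zero_mul, pow_zero, mul_one])) q.2.2.2⟩)
    ⟨fun q r e => ?_, fun g => ?_⟩)).symm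
  · have := sk_eq q.2.2.1 r.2.2.1 (l _).1 (l _).1 (congrArg Subtype.val e)
    exact Prod.ext (Subtype.ext this.1) (Subtype.ext this.2)
  · obtain ⟨y, hy, k, hk, e⟩ := m.dec_H g.2.1
    have := h.sk_comm h0 hk hy (e ▸ mem_cent.1 g.2.2)
    exact ⟨(⟨y, Finset.mem_filter.2 ⟨Finset.mem_range.2 hy, this.1⟩⟩, ⟨k, hk, mem_cent.2 this.2⟩), Subtype.ext e.symm⟩

theorem out_beta : out betaC = 0 := by decide +kernel
theorem fix_Um : ∀ y, y < 4096 → mv Um y = y → qc y = 0 → y = 0 := by decide +kernel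

variable [Finite G] {x : G} (h : m.KR x Um betaC)
include h

theorem π_cent {g : G} (hg : g ∈ m.H) (e : g ∈ centralizer {x}) : ∃ j : ℕ, m.π g = m.π (x ^ j) := by
  obtain ⟨j, -, e'⟩ := cent_beta (M22ext_le_M24 (m.π_mem' hg)) (by
    rw [← h.per, ← m.π_mul' hg h.memH, mem_cent.1 e, m.π_mul' h.memH hg])
  exact ⟨j, by rw [e', m.π_pow h.memH, h.per]⟩

theorem π_div {g : G} (hg : g ∈ m.H) {j : ℕ} (e : m.π g = m.π (x ^ j)) : m.π (g * (x ^ j)⁻¹) = 1 := by
  rw [m.π_mul' hg (inv_mem (pow_mem h.memH j)), m.π_inv (pow_mem h.memH j), e, mul_inv_cancel]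

theorem ω_cent : m.ω ∈ centralizer {x} := mem_cent.2 (h.comm_ω out_beta).symm
theorem z_cent : m.z ∈ centralizer {x} := mem_cent.2 (m.mem_H.1 h.memH).symm
theorem s_cent {v : ℕ} (hv : v < 4) : m.s v ∈ centralizer {x} := mem_cent.2 (by
  rw [h.mul_s (by omega), (by decide +kernel : ∀ v, v < 4 → mv Um v = v) v hv, out_beta, zero_mul, pow_zero, mul_one])

theorem card_264 : Nat.card ↥(m.H ⊓ centralizer {x}) = 264 := by
  rw [card_H_cent h out_beta, show m.K ⊓ centralizer {x} = m.K ⊓ m.pre (zpowers (permOf betaC)) from ?_,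
    m.card_K_pre (zpowers_le.2 h.good.2), Nat.card_zpowers, orderOf_beta]
  · decide +kernel
  ext g
  refine and_congr_right fun hk => ⟨fun e => m.mem_pre.2 ⟨hk.1, ?_⟩, fun e => ?_⟩
  · obtain ⟨j, e'⟩ := π_cent h hk.1 e
    rw [e', m.π_pow h.memH, h.per]; exact pow_mem (mem_zpowers _) j
  · obtain ⟨j, -, e'⟩ := exists_pow_of_mem (m.mem_pre.1 e).2
    obtain ⟨a, b, e''⟩ := m.K_ker (mul_mem hk (inv_mem (pow_mem h.memK j)))
      (π_div h hk.1 (by rw [e', m.π_pow h.memH, h.per]))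
    rw [mul_inv_eq_iff_eq_mul.1 e'']
    exact mul_mem (mul_mem (pow_mem (ω_cent h) a) (pow_mem (z_cent h) b)) (pow_mem (mem_cent.2 rfl) j)

theorem invol_11 (w : G) (hw : w ∈ centralizer {x}) (c : w * m.z = m.z * w) (w2 : w * w = 1) : w = 1 ∨ w = m.z := by
  have hH := m.mem_H.2 c
  obtain ⟨j, e⟩ := π_cent h hH hw
  obtain ⟨v, hv, i, rfl⟩ := mem_Q_of_sq hH (eq_one_of_coprime (a := 2) (b := 11) (by norm_num)
    (by rw [← m.π_pow hH, pow_two, w2, m.π_one]) (by
      rw [e, m.π_pow h.memH, h.per, ← pow_mul, mul_comm, pow_mul, ← orderOf_beta, pow_orderOf_eq_one, one_pow]))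
    (w2 ▸ one_mem _)
  rw [fix_Um v hv (h.sk_comm out_beta (pow_mem m.z_mem_K i) hv (mem_cent.1 hw)).1 ?_, m.s_zero, one_mul]
  · exact m.zpow_cases i
  rw [mul_assoc, ← mul_assoc (m.z ^ i), ← m.zpow_comm (m.s_mem_H hv), mul_assoc, m.zpow_self, mul_one, m.s_sq hv] at w2
  exact m.zpow_inj (qc_le v) (by norm_num) (by rw [w2, pow_zero])

variable (h11 : x ^ 11 = 1)
include h11

theorem order_11 : orderOf x = 11 := orderOf_eq_prime h11 fun e => by
  have := orderOf_beta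
  rw [← h.per, e, m.π_one, orderOf_one] at this
  exact absurd this (by norm_num)

theorem exists_U : ∃ U, OC x m.z U :=
  exists_OC (by rw [order_11 h h11]; decide) m.orderOf_z (z_cent h) (invol_11 h)

variable {U : Subgroup G} (o : OC x m.z U)
include o

omit h11 in
theorem U_fix (g : G) (hg : g ∈ U) (c : g * m.z = m.z * g) : g ∈ zpowers x := by
  have hH := m.mem_H.2 c
  obtain ⟨j, e⟩ := π_cent h hH (o.le hg)
  have hU := U.mul_mem hg (U.inv_mem (U.pow_mem o.mem j))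
  have hH' := m.H.mul_mem hH (inv_mem (pow_mem h.memH j))
  have hQ : ∀ q ∈ U, q ∈ m.Q → q = 1 := fun q a b =>
    o.eq_one (n := 13) a (by have := pow_card_eq_one_of_mem b; rwa [m.card_Q] at this)
  obtain ⟨v, hv, a, b, e'⟩ := m.ker _ (m.mem_H.1 hH') (π_div h hH e)
  have c1 := hQ _ (U.mul_mem hU (conj_mem_of_norm (o.cn (s_cent h (v := 1) (by norm_num))) (U.inv_mem hU)))
    (by rw [← mul_assoc, ← mul_assoc]
        exact m.Q.mul_mem (conj_mem_Q hH' (m.s_mem_Q (by norm_num))) (m.Q.inv_mem (m.s_mem_Q (by norm_num))))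
  rw [← mul_assoc, ← mul_assoc, mul_inv_eq_one, e', mul_assoc (m.s v)] at c1
  have key : ∀ p, m.KR (m.ω ^ a) p idP → mv p 1 = 1 := fun p k => by
    rw [(k.mul_zpow b).conj_s hv (by norm_num)] at c1
    exact (m.s_eq (b := 0) (mv_lt _ _) (by norm_num) (by rw [c1, pow_zero, mul_one])).1
  rcases m.KR_ωpow a with k | k | k
  · obtain ⟨d, -, e3⟩ := k.triv'
    rw [mul_inv_eq_one.1 (hQ _ hU (by
      rw [e', e3]; exact mul_mem (mul_mem (m.s_mem_Q hv) (pow_mem m.z_mem_Q _)) (pow_mem m.z_mem_Q _)))]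
    exact pow_mem (mem_zpowers x) j
  · exact absurd (key _ k) (by decide +kernel)
  · exact absurd (key _ k) (by decide +kernel)

theorem card_C_U : Nat.card (centralizer ({x} : Set G)) = 24 * Nat.card U := by
  have := o.card (U_fix h o)
  rw [order_11 h h11, inf_comm, card_264 h] at this
  omega

omit h11 in
/-- `U` is not cyclic modulo its centre -/
theorem U_ne {e : G} (he : e ∈ U) (i : m.z * e * m.z⁻¹ = e⁻¹) {k : ℕ} (ek : e ^ 11 ^ k = 1)
    (s : zpowers x ⊔ zpowers e = U) : e ∈ zpowers x := by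
  have s1 := s_cent h (v := 1) (by norm_num)
  obtain ⟨c, hc, _, hj, e1⟩ := mem_sup_cent (zpowers_le.2 (o.le he)) (s ▸ conj_mem_of_norm (o.cn s1) he)
  obtain ⟨j, -, rfl⟩ := exists_pow_of_mem hj
  have e2 : e⁻¹ = c * (c ^ j * e ^ (j * j)) := by
    rw [← i, show m.z = m.s 1 * m.s 1 by rw [m.s_sq (by norm_num), show qc 1 = 1 by decide +kernel, pow_one],
      show m.s 1 * m.s 1 * e * (m.s 1 * m.s 1)⁻¹ = m.s 1 * (m.s 1 * e * (m.s 1)⁻¹) * (m.s 1)⁻¹ by group, ← e1,
      ← mul_assoc, ← (comm_zpowers hc s1).eq, mul_assoc c, mul_assoc c, ← conj_pow, ← e1,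
      ((comm_zpowers hc (o.le he)).pow_right j).mul_pow, pow_mul]
  have e3 : e ^ (j * j + 1) ∈ zpowers x := by
    rw [show e ^ (j * j + 1) = (c * c ^ j)⁻¹ * (c * (c ^ j * e ^ (j * j))) * e by group, ← e2]
    simpa using inv_mem (mul_mem hc (pow_mem hc j))
  refine zpowers_le.2 e3 (mem_zpowers_pow_iff.2 (Nat.Coprime.coprime_dvd_right (orderOf_dvd_of_pow_eq_one ek)
    (Nat.Coprime.pow_right _ ((Nat.Prime.coprime_iff_not_dvd (by norm_num)).2 fun d => ?_).symm)))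
  have := Nat.mod_lt j (show 0 < 11 by norm_num)
  rw [Nat.dvd_iff_mod_eq_zero, Nat.add_mod, Nat.mul_mod] at d
  generalize j % 11 = r at *
  interval_cases r <;> simp at d

theorem mem_U {w : G} (hw : w ∈ centralizer {x}) {k : ℕ} (e : w ^ 11 ^ k = 1) : w ∈ U :=
  mem_of_card o.le o.cn (card_C_U h h11 o) hw
    (Nat.Coprime.coprime_dvd_left (orderOf_dvd_of_pow_eq_one e) (Nat.Coprime.pow_left k (by norm_num)))

variable [IsSimpleGroup G] (hc : Nat.card G = 86775571046077562880)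
include hc

theorem U_pow : ∃ k, Nat.card U = 11 ^ k := eq_pow_of Nat.card_pos.ne' fun r hr d ne => by
  have := Fact.mk hr
  obtain ⟨⟨g, hg⟩, og⟩ := exists_prime_orderOf_dvd_card' r d
  rw [← orderOf_coe] at og
  have gr : g ^ r = 1 := og ▸ pow_orderOf_eq_one g
  have cp : Nat.Coprime r (orderOf x) := by rw [order_11 h h11]; exact (Nat.coprime_primes hr (by norm_num)).2 ne
  have n2 : ¬ r ^ 2 ∣ Nat.card U := fun d2 => by
    have d3 := hc ▸ d2.trans (card_subgroup_dvd_card U)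
    have := prime_J4 hr ((dvd_pow_self r two_ne_zero).trans d3)
    simp only [List.mem_cons, List.not_mem_nil, or_false] at this
    rcases this with rfl | rfl | rfl | rfl | rfl | rfl | rfl | rfl | rfl | rfl
    · exact o.odd.not_two_dvd_nat d
    · have := (sq_dvd_cent (ω_cent h) m.orderOf_ω (d2.trans (card_dvd_of_le o.le))).trans
        (card_dvd_of_le (K := m.H ⊓ centralizer {x}) (le_inf (inf_le_right.trans m.cent_ω_le) inf_le_left))
      rw [card_264 h] at this; norm_num at this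
    all_goals first | exact ne rfl | norm_num at d3
  have key : ∀ v, v < 4 → ∃ i : ℕ, m.s v * g * (m.s v)⁻¹ = g ^ i := fun v hv =>
    have a := conj_mem_of_norm (o.cn (s_cent h hv)) hg
    mem_zpowers_of_comm n2 hg a og (by rw [H9.orderOf_conj, og]) (o.comm' (U_fix h o) hg a gr cp).symm
  obtain ⟨i, hi⟩ := key 1 (by norm_num)
  obtain ⟨j, hj⟩ := key 2 (by norm_num)
  have e : m.s 1 * m.s 2 * g * (m.s 1 * m.s 2)⁻¹ = m.s 2 * m.s 1 * g * (m.s 2 * m.s 1)⁻¹ := by
    calc _ = m.s 1 * (m.s 2 * g * (m.s 2)⁻¹) * (m.s 1)⁻¹ := by group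
      _ = m.s 2 * (m.s 1 * g * (m.s 1)⁻¹) * (m.s 2)⁻¹ := by
        rw [hi, hj, ← conj_pow, ← conj_pow, hi, hj, ← pow_mul, ← pow_mul, mul_comm]
      _ = _ := by group
  rw [m.s_comm (by norm_num) (by norm_num), show bl 1 2 = 1 by decide +kernel, pow_one] at e
  have := orderOf_dvd_card_of_mem (U_fix h o g hg (by
    calc g * m.z = (m.s 2 * m.s 1)⁻¹ * (m.s 2 * m.s 1 * g * (m.s 2 * m.s 1)⁻¹) * (m.s 2 * m.s 1 * m.z) := by group
      _ = _ := by rw [← e]; group))
  rw [Nat.card_zpowers, og] at this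
  exact hr.one_lt.ne' (Nat.Coprime.eq_one_of_dvd cp this)

theorem U_main : Nat.card U = 11 ^ 3 ∧ ∀ g ∈ U, g ^ 11 = 1 := by
  obtain ⟨k, hk⟩ := U_pow h h11 o hc
  have ox := order_11 h h11
  have cx : Nat.card (zpowers x) = 11 ^ 1 := by rw [Nat.card_zpowers, ox, pow_one]
  have k3 : k ≤ 3 := by
    by_contra n
    have := (pow_dvd_pow 11 (show 4 ≤ k by omega)).trans (hk ▸ card_subgroup_dvd_card U)
    rw [hc] at this; norm_num at this
  have key : ∀ e ∈ U, m.z * e * m.z⁻¹ = e⁻¹ → e ∉ zpowers x → k = 3 ∧ e ^ 11 = 1 := fun e he i n => by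
    have l : zpowers x ⊔ zpowers e ≤ U := sup_le (zpowers_le.2 o.mem) (zpowers_le.2 he)
    have l1 := H1.card_lt_of_lt (lt_of_le_of_ne l fun s => n (U_ne h o he i (hk ▸ pow_card_eq_one_of_mem he) s))
    have l2 := H1.card_lt_of_lt (lt_of_le_of_ne (le_sup_left : zpowers x ≤ zpowers x ⊔ zpowers e) fun s =>
      n (s ▸ mem_sup_right (mem_zpowers e)))
    obtain ⟨j, -, hj⟩ := (Nat.dvd_prime_pow (by norm_num)).1 (hk ▸ card_dvd_of_le l)
    rw [hj, hk, Nat.pow_lt_pow_iff_right (by norm_num)] at l1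
    rw [hj, cx, Nat.pow_lt_pow_iff_right (by norm_num)] at l2
    refine ⟨by omega, ?_⟩
    obtain ⟨a, ha, oe⟩ := (Nat.dvd_prime_pow (by norm_num)).1
      (hj ▸ orderOf_dvd_card_of_mem (mem_sup_right (mem_zpowers e) : e ∈ zpowers x ⊔ zpowers e))
    rcases Nat.lt_or_ge a 2 with a2 | a2
    · exact orderOf_dvd_iff_pow_eq_one.1 (oe ▸ (pow_dvd_pow 11 (Nat.le_of_lt_succ a2)).trans (by norm_num))
    · obtain ⟨t, ht⟩ : x ∈ zpowers e := eq_of_le_of_card_ge (le_sup_right : zpowers e ≤ zpowers x ⊔ zpowers e)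
        (by rw [hj, Nat.card_zpowers, oe]; exact Nat.pow_le_pow_right (by norm_num) (by omega)) ▸
          mem_sup_left (mem_zpowers x)
      have : m.z * x * m.z⁻¹ = x⁻¹ := by rw [← ht]; simp only; rw [← _root_.conj_zpow, i, inv_zpow]
      rw [mem_cent.1 (z_cent h), mul_inv_cancel_right, eq_inv_iff_mul_eq_one, ← pow_two] at this
      exact absurd (ox ▸ orderOf_dvd_of_pow_eq_one this) (by norm_num)
  have k2 := sq_dvd_cent (p := 11) (mem_top x) ox (by rw [card_top, hc]; norm_num)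
  rw [top_inf_eq, card_C_U h h11 o] at k2
  obtain ⟨g, hg, n⟩ : ∃ g ∈ U, g ∉ zpowers x := by
    by_contra! n
    have := (Nat.Coprime.dvd_of_dvd_mul_left (by norm_num) k2).trans (card_dvd_of_le n)
    rw [cx] at this; norm_num at this
  obtain ⟨e, he, i, c, hc', rfl⟩ := o.dec (U_fix h o) hg
  refine ⟨(key e he i fun a => n (mul_mem hc' a)).1 ▸ hk, fun g hg => ?_⟩
  obtain ⟨e, he, i, c, hc', rfl⟩ := o.dec (U_fix h o) hg
  have p11 : ∀ c ∈ zpowers x, c ^ 11 = 1 := fun c a => by simpa [ox] using pow_card_eq_one_of_mem a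
  rw [(comm_zpowers hc' (o.le he)).mul_pow, p11 c hc', one_mul]
  by_cases n : e ∈ zpowers x
  exacts [p11 e n, (key e he i n).2]

theorem card_C11 : Nat.card (centralizer ({x} : Set G)) = 31944 := by
  rw [card_C_U h h11 o, (U_main h h11 o hc).1]; rfl

theorem conj_U {P : Subgroup G} (hP : IsPGroup 11 P) : ∃ g : G, ∀ a ∈ P, g * a * g⁻¹ ∈ U :=
  Mdl.exists_conj_le_of_isPGroup (by norm_num) (U_main h h11 o hc).1 (by rw [hc]; norm_num) hP

variable (hP : ∃ P : Subgroup G, IsPGroup 11 P ∧ ∃ a ∈ P, ∃ b ∈ P, a * b ≠ b * a)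
include hP

theorem U_extra : IsExtraspecial 11 U := by
  obtain ⟨P, hP, a, ha, b, hb, n⟩ := hP
  obtain ⟨g, hg⟩ := conj_U h h11 o hc hP
  refine H93.isExtraspecial_of_card_cube (U_main h h11 o hc).1 fun e => n ?_
  have := congrArg Subtype.val (mem_center_iff.1 ((commutator_eq_bot_iff_center_eq_top _).1 e ▸
    mem_top (⟨_, hg b hb⟩ : U)) ⟨_, hg a ha⟩)
  simpa using this

theorem center_U {w : G} (hw : w ∈ U) (e : ∀ g ∈ U, g * w = w * g) : w ∈ zpowers x := by
  have : zpowers x = (center U).map U.subtype := eq_of_le_of_card_ge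
    (zpowers_le.2 ⟨⟨x, o.mem⟩, mem_center_iff.2 fun g => Subtype.ext (mem_cent.1 (o.le g.2)), rfl⟩) (by
      rw [card_map_of_injective (subtype_injective _), (U_extra h h11 o hc hP).2, Nat.card_zpowers, order_11 h h11])
  exact this ▸ ⟨⟨w, hw⟩, mem_center_iff.2 fun g => Subtype.ext (e g g.2), rfl⟩

theorem norm_U : normalizer (U : Set G) = normalizer (zpowers x : Set G) := by
  refine le_antisymm (fun n hn => mem_normalizer_fintype fun a ha => ?_) o.norm
  refine center_U h h11 o hc hP (conj_mem_of_norm hn (zpowers_le.2 o.mem ha)) fun g hg => ?_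
  have := (comm_zpowers ha (o.le (conj_mem_of_norm (inv_mem hn) hg))).eq
  calc _ = n * (n⁻¹ * g * n⁻¹⁻¹ * a) * n⁻¹ := by group
    _ = _ := by rw [← this]; group

theorem card_norm_U : Nat.card (normalizer (U : Set G)) = 319440 := by
  obtain ⟨P, e⟩ := Mdl.exists_sylow_eq (by norm_num) (U_main h h11 o hc).1 (by rw [hc]; norm_num)
  obtain ⟨r, hr, e1⟩ := sylow_index P
  obtain ⟨k, hk, e2⟩ := norm_cent (by norm_num) (order_11 h h11)
  rw [e, norm_U h h11 o hc hP, e2, hc, card_C11 h h11 o hc] at e1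
  rw [norm_U h h11 o hc hP, e2, card_C11 h h11 o hc]
  have := Nat.le_of_dvd (by norm_num) hk
  unfold Nat.ModEq at hr
  interval_cases k <;> omega

theorem conj_x {w : G} (hw : w ∈ zpowers x) (h1 : w ≠ 1) : ∃ n ∈ normalizer (U : Set G), n * x * n⁻¹ = w := by
  have ox := order_11 h h11
  refine conj_fill (S := (zpowers x : Set G) \ {1}) (fun n hn => ⟨conj_mem_of_norm (norm_U h h11 o hc hP ▸ hn)
    (mem_zpowers x), fun e => ?_⟩) ?_ w ⟨hw, h1⟩
  · rw [Set.mem_singleton_iff, conj_eq_one_iff] at e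
    rw [e, orderOf_one] at ox; exact absurd ox (by norm_num)
  · rw [Set.ncard_sdiff_singleton_of_mem (one_mem _), ← Nat.card_coe_set_eq, SetLike.coe_sort_coe, Nat.card_zpowers, ox,
      inf_eq_right.2 o.cn, card_C11 h h11 o hc, card_norm_U h h11 o hc hP]

omit h h11 o hc hP in
theorem eleven_b {t y : G} (h1 : t ≠ 1) (h2 : t * t = 1) (ht : ¬ IsConj m.z t) (hy : y * t = t * y)
    (oy : orderOf y = 11) : centralizer {y} ⊓ centralizer {t} = zpowers (t * y) ∧ orderOf (t * y) = 22 := by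
  have hS : (ofMask 3).card = 2 := by rw [card_ofMask]; decide +kernel
  have ot : orderOf t = 2 := orderOf_eq_prime (by rw [pow_two, h2]) h1
  have : orderOf (t * y) = 22 := by
    rw [Commute.orderOf_mul_eq_mul_orderOf_of_coprime hy.symm (by rw [ot, oy]; norm_num), ot, oy]
  refine ⟨(eq_of_le_of_card_ge (zpowers_le.2 (mem_inf.2 ⟨mul_mem (mem_cent.2 hy.symm) (mem_cent.2 rfl),
    mul_mem (mem_cent.2 rfl) (mem_cent.2 hy)⟩)) ?_).symm, this⟩
  obtain ⟨g, rfl⟩ := m.exists_conj_duad h1 h2 ht hS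
  rw [Nat.card_zpowers, this, inf_comm, (m.M.conj g).cent11 (m.M_loc.conj g) hS oy hy]

theorem exists_y : ∃ y ∈ U, y ∉ zpowers x ∧ orderOf y = 11 ∧ Nat.card (centralizer ({y} : Set G)) = 242 ∧
    ∃ t, t ≠ 1 ∧ t * t = 1 ∧ ¬ IsConj m.z t ∧ y * t = t * y := by
  have ox := order_11 h h11
  have b1 : m.s 180 ≠ 1 := fun e => absurd (m.s_inj 180 (by norm_num) (Or.inl e)) (by norm_num)
  have b2 : m.s 180 * m.s 180 = 1 := by rw [m.s_sq (by norm_num), show qc 180 = 0 by decide +kernel, pow_zero]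
  obtain ⟨⟨y0, c0⟩, o0⟩ := exists_prime_orderOf_dvd_card' (G := centralizer {m.s 180}) 11
    (by rw [m.card_cent_b b1 b2 not_conj_b]; norm_num)
  rw [← orderOf_coe] at o0
  obtain ⟨g, hg⟩ := conj_U h h11 o hc (P := zpowers y0) (IsPGroup.of_card (n := 1) (by rw [Nat.card_zpowers, o0]; rfl))
  obtain ⟨y, t, hy, oy, t1, t2, ht, c⟩ : ∃ y t, y ∈ U ∧ orderOf y = 11 ∧ t ≠ 1 ∧ t * t = 1 ∧ ¬ IsConj m.z t ∧
      y * t = t * y := ⟨_, g * m.s 180 * g⁻¹, hg _ (mem_zpowers _), by rw [H9.orderOf_conj, o0],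
    by rwa [Ne, conj_eq_one_iff], by rw [conj_mul, b2]; simp,
    fun e => not_conj_b (e.trans (isConj_iff.2 ⟨g, rfl⟩ : IsConj _ _).symm),
    by rw [conj_mul, conj_mul, mem_cent.1 c0]⟩
  obtain ⟨e1, e2⟩ := eleven_b t1 t2 ht c oy
  have ot : orderOf t = 2 := orderOf_eq_prime (by rw [pow_two, t2]) t1
  have d : ∀ w ∈ centralizer {y}, w * t = t * w → ∃ i : ℕ, w = y ^ i ∨ w = t * y ^ i := fun w a b => by
    obtain ⟨i, -, rfl⟩ := exists_pow_of_mem (e1.le ⟨a, mem_cent.2 b⟩)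
    refine ⟨i, ?_⟩
    rw [Commute.mul_pow c.symm, ← pow_mod_orderOf t, ot]
    rcases Nat.mod_two_eq_zero_or_one i with e | e <;> simp [e]
  have y11 : ∀ i : ℕ, y ^ i * y ^ i = 1 → y ^ i = 1 := fun i e => eq_one_of_coprime (a := 2) (b := 11) (by norm_num)
    (by rwa [pow_two]) (by rw [← pow_mul, mul_comm, pow_mul, ← oy, pow_orderOf_eq_one, one_pow])
  obtain ⟨O, o'⟩ := exists_OC (by rw [oy]; decide) ot (mem_cent.2 c.symm) fun w a b e => by
    obtain ⟨i, rfl | rfl⟩ := d w a b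
    · exact Or.inl (y11 i e)
    · rw [mul_assoc, ← mul_assoc (y ^ i), (Commute.pow_left c i).eq, ← mul_assoc, ← mul_assoc, t2, one_mul] at e
      rw [y11 i e, mul_one]; exact Or.inr rfl
  have hC : ∀ w ∈ O, w * t = t * w → w ∈ zpowers y := fun w a b => by
    obtain ⟨i, rfl | rfl⟩ := d w (o'.le a) b
    · exact pow_mem (mem_zpowers y) i
    · exact absurd (o'.eq_one (n := 1) ((O.mul_mem_cancel_right (pow_mem o'.mem i)).1 a) (by rw [pow_one, pow_two, t2])) t1
  have c2 := o'.card hC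
  rw [oy, e1, Nat.card_zpowers, e2] at c2
  replace c2 : Nat.card (centralizer ({y} : Set G)) = 2 * Nat.card O := by omega
  have nx : ∀ g : G, g * y * g⁻¹ ∉ zpowers x := fun g a => by
    obtain ⟨n, -, e⟩ := conj_x h h11 o hc hP a fun e => by
      rw [conj_eq_one_iff] at e; rw [e, orderOf_one] at oy; exact absurd oy (by norm_num)
    have := card_cent_conj n x
    rw [e, card_cent_conj, card_C11 h h11 o hc] at this
    obtain ⟨k, hk⟩ := o'.odd
    omega
  have n1 : y ∉ zpowers x := by simpa using nx 1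
  have xO : x ∈ O := mem_of_card o'.le o'.cn c2 (mem_cent.2 (mem_cent.1 (o.le hy)).symm) (by rw [ox]; norm_num)
  obtain ⟨k, hk⟩ : ∃ k, Nat.card O = 11 ^ k := eq_pow_of Nat.card_pos.ne' fun r hr d ne => by
    have := Fact.mk hr
    obtain ⟨⟨g, hg⟩, og⟩ := exists_prime_orderOf_dvd_card' r d
    rw [← orderOf_coe] at og
    have gx := o'.comm' hC hg xO (og ▸ pow_orderOf_eq_one g) (by rw [oy]; exact (Nat.coprime_primes hr (by norm_num)).2 ne)
    have d2 := orderOf_dvd_card_of_mem (mem_cent.2 gx)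
    rw [card_C11 h h11 o hc, og] at d2
    have := Mdl.prime_mem_of_dvd (K := 3) [2, 3, 11] (by decide +kernel) (by decide +kernel) hr d2
    simp only [List.mem_cons, List.not_mem_nil, or_false] at this
    rcases this with rfl | rfl | rfl
    · exact o'.odd.not_two_dvd_nat d
    · obtain ⟨i, e⟩ := mem_zpowers_of_comm (p := 11) (D := centralizer {g}) (fun a => by
        rw [card_cent_of_conj (m.conj_three og)] at a
        have := a.trans (card_dvd_of_le m.cent_ω_le)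
        rw [m.card_H] at this; norm_num at this) (mem_cent.2 gx.symm) (mem_cent.2 (mem_cent.1 (o'.le hg)).symm) ox oy
          (mem_cent.1 (o.le hy))
      exact n1 (e ▸ pow_mem (mem_zpowers x) i)
    · exact ne rfl
  refine ⟨y, hy, n1, oy, ?_, t, t1, t2, ht, c⟩
  have k2 := sq_dvd_cent (p := 11) (mem_top y) oy (by rw [card_top, hc]; norm_num)
  rw [top_inf_eq, c2, hk] at k2
  have k2' := (Nat.pow_dvd_pow_iff_le_right (by norm_num)).1 (Nat.Coprime.dvd_of_dvd_mul_left (by norm_num) k2)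
  rcases k2'.eq_or_lt with rfl | k3
  · rw [c2, hk]; rfl
  obtain rfl : k = 3 := le_antisymm (by
    by_contra n
    have := (pow_dvd_pow 11 (show 4 ≤ k by omega)).trans (hk ▸ card_subgroup_dvd_card O)
    rw [hc] at this; norm_num at this) k3
  obtain ⟨g, hg⟩ := Mdl.exists_conj_le_of_isPGroup (by norm_num) hk (by rw [hc]; norm_num)
    (IsPGroup.of_card (U_main h h11 o hc).1)
  have cm : ∀ a ∈ U, a * (g⁻¹ * y * g⁻¹⁻¹) = g⁻¹ * y * g⁻¹⁻¹ * a := fun a ha => by
    calc _ = g⁻¹ * (g * a * g⁻¹ * y) * g := by group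
      _ = _ := by rw [mem_cent.1 (o'.le (hg a ha))]; group
  exact absurd (center_U h h11 o hc hP (mem_U h h11 o (k := 1) (mem_cent.2 (cm x o.mem).symm)
    (by rw [conj_pow, pow_one, ← oy, pow_orderOf_eq_one]; simp)) cm) (nx _)

theorem conj_y {y : G} (hy : y ∈ U) (n : y ∉ zpowers x) (c : Nat.card (centralizer ({y} : Set G)) = 242) {w : G}
    (hw : w ∈ U) (h1 : w ∉ zpowers x) : ∃ n ∈ normalizer (U : Set G), n * y * n⁻¹ = w := by
  refine conj_fill (S := (U : Set G) \ zpowers x) (fun g hg => ⟨conj_mem_of_norm hg hy, fun e => n ?_⟩) ?_ w ⟨hw, h1⟩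
  · have := conj_mem_of_norm (inv_mem (norm_U h h11 o hc hP ▸ hg)) e
    rwa [show g⁻¹ * (g * y * g⁻¹) * g⁻¹⁻¹ = y by group] at this
  · rw [Set.ncard_sdiff (SetLike.coe_subset_coe.2 (zpowers_le.2 o.mem)), ← Nat.card_coe_set_eq, ← Nat.card_coe_set_eq,
      SetLike.coe_sort_coe, SetLike.coe_sort_coe, Nat.card_zpowers, order_11 h h11, (U_main h h11 o hc).1,
      card_norm_U h h11 o hc hP]
    have := card_le_of_le (inf_le_right : normalizer (U : Set G) ⊓ centralizer {y} ≤ _)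
    omega

theorem two_11 : ∃ y, orderOf y = 11 ∧ Nat.card (centralizer ({y} : Set G)) = 242 ∧
    (∃ t, t ≠ 1 ∧ t * t = 1 ∧ ¬ IsConj m.z t ∧ y * t = t * y) ∧
    ∀ w : G, orderOf w = 11 → IsConj x w ∨ IsConj y w := by
  obtain ⟨y, hy, n, oy, c, ht⟩ := exists_y h h11 o hc hP
  refine ⟨y, oy, c, ht, fun w ow => ?_⟩
  obtain ⟨g, hg⟩ := conj_U h h11 o hc (P := zpowers w) (IsPGroup.of_card (n := 1) (by rw [Nat.card_zpowers, ow]; rfl))
  have cw : IsConj (g * w * g⁻¹) w := (isConj_iff.2 ⟨g, rfl⟩ : IsConj _ _).symm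
  by_cases a : g * w * g⁻¹ ∈ zpowers x
  · obtain ⟨n, -, e⟩ := conj_x h h11 o hc hP a fun e => by
      rw [conj_eq_one_iff] at e; rw [e, orderOf_one] at ow; exact absurd ow (by norm_num)
    exact Or.inl ((isConj_iff.2 ⟨n, e⟩).trans cw)
  · obtain ⟨n, -, e⟩ := conj_y h h11 o hc hP hy n c (hg w (mem_zpowers w)) a
    exact Or.inr ((isConj_iff.2 ⟨n, e⟩).trans cw)

theorem sylow_11 (hK : ∃ K : Subgroup G, K ≤ normalizer (zpowers x : Set G) ∧ Nonempty (K ≃* GL (Fin 2) (ZMod 3)))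
    (P : Sylow 11 G) : IsExtraspecial 11 (P : Subgroup G) ∧ Nat.card (P : Subgroup G) = 11 ^ 3 ∧
    Monoid.exponent (P : Subgroup G) = 11 ∧ Nat.card (normalizer ((P : Subgroup G) : Set G)) = 2 ^ 4 * 3 * 5 * 11 ^ 3 ∧
    ∃ K : Subgroup G, K ≤ normalizer ((P : Subgroup G) : Set G) ∧ Nonempty (K ≃* GL (Fin 2) (ZMod 3)) := by
  obtain ⟨P0, rfl⟩ := Mdl.exists_sylow_eq (by norm_num) (U_main h h11 o hc).1 (by rw [hc]; norm_num)
  obtain ⟨g, rfl⟩ := MulAction.exists_smul_eq G P0 P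
  obtain ⟨K, hK, ⟨f⟩⟩ := hK
  have ex := U_extra h h11 o hc hP
  have e : ((g • P0 : Sylow 11 G) : Subgroup G) = (P0 : Subgroup G).map (MulAut.conj g).toMonoidHom := rfl
  have c : Nat.card ((g • P0 : Sylow 11 G) : Subgroup G) = 11 ^ 3 := by rw [e, card_map_conj, (U_main h h11 o hc).1]
  refine ⟨H93.isExtraspecial_of_card_cube c fun e' => ?_, c, ?_, ?_, K.map (MulAut.conj g).toMonoidHom, ?_,
    ⟨((MulAut.conj g).subgroupMap K).symm.trans f⟩⟩
  · have := ex.2
    rw [← ex.1.2.2, (map_eq_bot_iff_of_injective (f := (P0.equivSMul g).toMonoidHom) (commutator P0)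
      (P0.equivSMul g).injective).1 (by
      rw [map_commutator_eq, MonoidHom.range_eq_top.2 (P0.equivSMul g).surjective]; exact e'), card_bot] at this
    omega
  · have : Nontrivial ((g • P0 : Sylow 11 G) : Subgroup G) := Finite.one_lt_card_iff_nontrivial.1 (by omega)
    refine (Monoid.exponent_eq_prime_iff (by norm_num)).2 fun a ha => orderOf_eq_prime (Subtype.ext ?_) ha
    obtain ⟨x, hx, e1⟩ := e.le a.2
    rw [SubgroupClass.coe_pow, ← e1, ← map_pow, (U_main h h11 o hc).2 x hx, map_one]; rfl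
  · rw [e, ← map_equiv_normalizer_eq, card_map_conj, card_norm_U h h11 o hc hP]; rfl
  · rw [e, ← map_equiv_normalizer_eq, norm_U h h11 o hc hP]
    exact map_mono hK

end H66.J4
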