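import Cfsg.Agent.Lib.J4.P11J
/-! The Sylow normalisers for the primes 23, 29, 31, 37, 43. -/
set_option autoImplicit false
set_option maxRecDepth 100000
set_option linter.unusedSectionVars false
namespace H66.J4
open Cfsg H15 H75.J4 H75.J4.Md H96.Geo Subgroup

variable {G : Type*} [Group G] [Finite G]

theorem card_prime_eq {p : ℕ} (hp : p.Prime) (h : ¬ p ^ 2 ∣ Nat.card G) {x y : G} (ox : orderOf x = p)
    (oy : orderOf y = p) : Nat.card (centralizer ({x} : Set G)) = Nat.card (centralizer ({y} : Set G)) ∧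
      Nat.card (normalizer (zpowers x : Set G)) = Nat.card (normalizer (zpowers y : Set G)) := by
  have := Fact.mk hp
  obtain ⟨k, -, i, hi, e⟩ := exists_conj_prime (p := p) (K := ⊤) (by rwa [card_top]) (mem_top x) (mem_top y) ox oy
  have i0 : i ≠ 0 := fun e' => by
    rw [e', pow_zero, conj_eq_one_iff] at e; rw [e, orderOf_one] at ox; exact hp.one_lt.ne ox
  exact ⟨by rw [← card_cent_conj k, e, cent_pow_prime hp oy hi i0],
    by rw [← card_norm_conj k, e, zpowers_pow_prime hp oy hi i0]⟩

theorem exists_order {K : Subgroup G} {p : ℕ} (hp : p.Prime) (h : p ∣ Nat.card K) : ∃ w ∈ K, orderOf w = p := by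
  have := Fact.mk hp
  obtain ⟨w, o⟩ := exists_prime_orderOf_dvd_card' p h
  exact ⟨w, w.2, by rwa [orderOf_coe]⟩

theorem dvd_cent_symm {p q : ℕ} (hq : q.Prime) (h : ¬ q ^ 2 ∣ Nat.card G) {x y : G}
    (ox : orderOf x = p) (oy : orderOf y = q) (d : q ∣ Nat.card (centralizer ({x} : Set G))) :
    p ∣ Nat.card (centralizer ({y} : Set G)) := by
  obtain ⟨w, hw, ow⟩ := exists_order hq d
  rw [(card_prime_eq hq h oy ow).1, ← ox]
  exact orderOf_dvd_card_of_mem (mem_cent.2 (mem_cent.1 hw).symm)

theorem sub_index {p : ℕ} (hp : p.Prime) (h : ¬ p ^ 2 ∣ Nat.card G) {y : G} (oy : orderOf y = p) {K : Subgroup G}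
    {n k : ℕ} (hn : Nat.card (normalizer (zpowers y : Set G)) = n) (hk : Nat.card K = k) (d : p ∣ k) :
    ∃ e ∈ (Nat.gcd n k).divisors, k / e % p = 1 % p := by
  have := Fact.mk hp
  subst hn hk
  obtain ⟨w, hw, ow⟩ := exists_order hp d
  obtain ⟨r, hr, e⟩ := card_norm_modEq (p := p) (zpowers_le.2 hw) (by rw [Nat.card_zpowers, ow])
    fun d => h (d.trans (card_subgroup_dvd_card K))
  refine ⟨_, Nat.mem_divisors.2 ⟨Nat.dvd_gcd ((card_dvd_of_le inf_le_right).trans (card_prime_eq hp h ow oy).2.dvd)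
    (card_dvd_of_le inf_le_left), (Nat.gcd_pos_of_pos_left _ Nat.card_pos).ne'⟩, ?_⟩
  rw [e, Nat.mul_div_cancel _ Nat.card_pos]; exact hr

theorem dvd_big {c : ℕ} (h : c ∣ 23 * (29 * (31 * (37 * 43)))) : ∃ a ∈ [1, 23], ∃ b ∈ [1, 29], ∃ d ∈ [1, 31],
    ∃ e ∈ [1, 37], ∃ f ∈ [1, 43], c = a * (b * (d * (e * f))) := by
  obtain ⟨a, _, ha, h1, rfl⟩ := (Nat.dvd_mul).1 h
  obtain ⟨b, _, hb, h2, rfl⟩ := (Nat.dvd_mul).1 h1
  obtain ⟨d, _, hd, h3, rfl⟩ := (Nat.dvd_mul).1 h2
  obtain ⟨e, f, he, hf, rfl⟩ := (Nat.dvd_mul).1 h3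
  have k : ∀ {a p : ℕ}, p.Prime → a ∣ p → a ∈ [1, p] := fun hp h => by simpa using (Nat.dvd_prime hp).1 h
  exact ⟨a, k (by norm_num) ha, b, k (by norm_num) hb, d, k (by norm_num) hd, e, k (by norm_num) he, f,
    k (by norm_num) hf, rfl⟩

variable [IsSimpleGroup G] {m : Md G} {x : G} {U : Subgroup G}

theorem card_cent_3 (m : Md G) {w : G} (o : orderOf w = 3) : Nat.card (centralizer ({w} : Set G)) ∣ 21799895040 :=
  card_cent_of_conj (m.conj_three o) ▸ m.card_H ▸ card_dvd_of_le m.cent_ω_le

theorem card_cent_5 (m : Md G) {w : G} (o : orderOf w = 5) : Nat.card (centralizer ({w} : Set G)) = 6720 := by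
  obtain ⟨f, k, h5⟩ := m.exists_five
  rw [(card_prime_eq (by norm_num) m.not25 o (k.order5 h5)).1, k.card_cent5 h5]

theorem card_cent_7 (m : Md G) {w : G} (o : orderOf w = 7) : Nat.card (centralizer ({w} : Set G)) = 840 := by
  obtain ⟨m', h⟩ := m.exists_map7 o
  exact (m'.seven_main h o).2.2.1

theorem card_cent_2 (m : Md G) {w : G} (o : orderOf w = 2) : Nat.card (centralizer ({w} : Set G)) = 21799895040 ∨
    Nat.card (centralizer ({w} : Set G)) = 1816657920 := by
  by_cases c : IsConj m.z w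
  · exact Or.inl ((card_cent_of_conj c).trans m.card_H)
  · exact Or.inr (m.card_cent_b (fun e => by rw [e, orderOf_one] at o; exact absurd o (by norm_num))
      (by rw [← pow_two, ← o, pow_orderOf_eq_one]) c)

variable (j : J11 m x U)
include j

theorem card_cent_11 {w : G} (o : orderOf w = 11) : Nat.card (centralizer ({w} : Set G)) = 31944 ∨
    Nat.card (centralizer ({w} : Set G)) = 242 := by
  obtain ⟨y, -, c, -, h⟩ := two_11 j.h j.h11 j.o j.hc j.hP
  exact (h w o).imp (fun e => (card_cent_of_conj e).trans (card_C11 j.h j.h11 j.o j.hc))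
    fun e => (card_cent_of_conj e).trans c

theorem big_cand {p : ℕ} (hp : p ∈ [23, 29, 31, 37, 43]) {y : G} (oy : orderOf y = p) {L : List (ℕ × ℕ)}
    (h : ∀ a ∈ [1, 23], ∀ b ∈ [1, 29], ∀ d ∈ [1, 31], ∀ e ∈ [1, 37], ∀ f ∈ [1, 43], ∀ k, k < p → k ∣ p - 1 →
      p ∣ a * (b * (d * (e * f))) → 86775571046077562880 / (a * (b * (d * (e * f))) * k) % p = 1 % p →
      (a * (b * (d * (e * f))), a * (b * (d * (e * f))) * k) ∈ L) :
    (Nat.card (centralizer ({y} : Set G)), Nat.card (normalizer (zpowers y : Set G))) ∈ L := by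
  obtain ⟨pp, p2, pc⟩ := (by decide +kernel : ∀ p ∈ [23, 29, 31, 37, 43], p.Prime ∧ ¬ p ^ 2 ∣ 86775571046077562880 ∧
    ¬ p ∣ 21799895040 * 31944) p hp
  have := Fact.mk pp
  have key : ∀ r, r.Prime → r ∣ Nat.card (centralizer ({y} : Set G)) → ¬ r ∣ 2637787299840 := fun r hr d d' => by
    obtain ⟨w, hw, ow⟩ := exists_order hr d
    have d2 := oy ▸ orderOf_dvd_card_of_mem (mem_cent.2 (mem_cent.1 hw).symm)
    have := Mdl.prime_mem_of_dvd (K := 21) [2, 3, 5, 7, 11] (by decide +kernel) (by decide +kernel) hr d'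
    simp only [List.mem_cons, List.not_mem_nil, or_false] at this
    refine pc (d2.trans ?_)
    rcases this with rfl | rfl | rfl | rfl | rfl
    · rcases card_cent_2 m ow with e | e <;> rw [e] <;> norm_num
    · exact (card_cent_3 m ow).trans (by norm_num)
    · rw [card_cent_5 m ow]; norm_num
    · rw [card_cent_7 m ow]; norm_num
    · rcases card_cent_11 j ow with e | e <;> rw [e] <;> norm_num
  obtain ⟨a, ha, b, hb, d, hd, e, he, f, hf, c⟩ := dvd_big (Nat.Coprime.dvd_of_dvd_mul_left
    (Nat.coprime_of_dvd fun r hr d d' => key r hr d d') ((card_subgroup_dvd_card _).trans (by rw [j.hc])))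
  obtain ⟨k, hk, e2⟩ := norm_cent pp oy
  obtain ⟨P, hP⟩ := exists_sylow_of_prime (p := p) (A := zpowers y) (by rw [Nat.card_zpowers, oy]) (j.hc ▸ p2)
  obtain ⟨r, hr, e1⟩ := sylow_index P
  rw [hP] at e1
  have := pp.two_le
  rw [e2, c]
  refine h a ha b hb d hd e he f hf k (by have := Nat.le_of_dvd (by omega) hk; omega) hk
    (c ▸ oy ▸ orderOf_dvd_card_of_mem (mem_cent.2 rfl)) ?_
  rw [← c, ← e2, ← j.hc, e1, Nat.mul_div_cancel _ Nat.card_pos]; exact hr

theorem big_main {a b c d e : G} (oa : orderOf a = 23) (ob : orderOf b = 29) (oc : orderOf c = 31)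
    (od : orderOf d = 37) (oe : orderOf e = 43) :
    (Nat.card (centralizer ({a} : Set G)), Nat.card (normalizer (zpowers a : Set G))) = (23, 23 * 22) ∧
    (Nat.card (centralizer ({b} : Set G)), Nat.card (normalizer (zpowers b : Set G))) = (29, 29 * 28) ∧
    (Nat.card (centralizer ({c} : Set G)), Nat.card (normalizer (zpowers c : Set G))) = (31, 31 * 10) ∧
    (Nat.card (centralizer ({d} : Set G)), Nat.card (normalizer (zpowers d : Set G))) = (37, 37 * 12) ∧
    (Nat.card (centralizer ({e} : Set G)), Nat.card (normalizer (zpowers e : Set G))) = (43, 43 * 14) := by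
  have A := big_cand j (by decide) oa (L := [(23, 506), (20677, 227447), (30659, 30659), (1061197, 23346334)])
    (by decide +kernel)
  have B := big_cand j (by decide) ob (L := [(29, 812), (899, 12586), (1247, 2494), (38657, 38657)]) (by decide +kernel)
  have C := big_cand j (by decide) oc (L := [(31, 310), (1333, 7998), (49321, 49321), (1430309, 21454635),
    (32897107, 65794214)]) (by decide +kernel)
  have D := big_cand j (by decide) od (L := [(37, 444), (1591, 3182), (24679, 296148), (46139, 415251), (49321, 591852),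
    (1061197, 2122394), (32897107, 394765284)]) (by decide +kernel)
  have E := big_cand j (by decide) oe (L := [(43, 602), (1247, 52374), (1333, 7998), (49321, 2071482)])
    (by decide +kernel)
  have n29 : ¬ 29 ^ 2 ∣ Nat.card G := by rw [j.hc]; norm_num
  have n31 : ¬ 31 ^ 2 ∣ Nat.card G := by rw [j.hc]; norm_num
  have n37 : ¬ 37 ^ 2 ∣ Nat.card G := by rw [j.hc]; norm_num
  have n43 : ¬ 43 ^ 2 ∣ Nat.card G := by rw [j.hc]; norm_num
  have ab := dvd_cent_symm (by norm_num) n29 oa ob
  have ae := dvd_cent_symm (by norm_num) n43 oa oe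
  have bc := dvd_cent_symm (by norm_num) n31 ob oc
  have be := dvd_cent_symm (by norm_num) n43 ob oe
  have ce := dvd_cent_symm (by norm_num) n43 oc oe
  have de := dvd_cent_symm (by norm_num) n43 od oe
  have db := dvd_cent_symm (by norm_num) n29 od ob
  have eb := dvd_cent_symm (by norm_num) n29 oe ob
  have ec := dvd_cent_symm (by norm_num) n31 oe oc
  have i1 := fun n hn => sub_index (by norm_num) n31 oc (n := n) hn m.card_NA (by norm_num)
  have i2 := fun n k hn hk => sub_index (by norm_num) n43 oe (K := centralizer {c}) (n := n) (k := k) hn hk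
  have i3 := fun n k hn hk => sub_index (by norm_num) n29 ob (K := normalizer (zpowers e : Set G)) (n := n) (k := k) hn hk
  simp only [List.mem_cons, List.not_mem_nil, or_false, Prod.mk.injEq] at A B C D E ⊢
  have C' : Nat.card (centralizer ({c} : Set G)) = 31 ∧ Nat.card (normalizer (zpowers c : Set G)) = 310 := by
    rcases C with C | C | C | C | C
    · exact C
    · exact absurd (i1 _ C.2) (by decide +kernel)
    · exact absurd (i1 _ C.2) (by decide +kernel)
    · have := ce (by rw [C.1]; norm_num)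
      rcases E with E | E | E | E
      · omega
      · omega
      · exact absurd (i2 _ _ E.2 C.1 (by norm_num)) (by decide +kernel)
      · exact absurd (i2 _ _ E.2 C.1 (by norm_num)) (by decide +kernel)
    · exact absurd (i1 _ C.2) (by decide +kernel)
  have E' : Nat.card (centralizer ({e} : Set G)) = 43 ∧ Nat.card (normalizer (zpowers e : Set G)) = 602 := by
    rcases E with E | E | E | E
    · exact E
    · have := eb (by rw [E.1]; norm_num)
      rcases B with B | B | B | B
      · omega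
      · omega
      · exact absurd (i3 _ _ B.2 E.2 (by norm_num)) (by decide +kernel)
      · have := bc (by rw [B.1]; norm_num); omega
    · have := ec (by rw [E.1]; norm_num); omega
    · have := ec (by rw [E.1]; norm_num); omega
  have B' : Nat.card (centralizer ({b} : Set G)) = 29 ∧ Nat.card (normalizer (zpowers b : Set G)) = 812 := by
    rcases B with B | B | B | B
    · exact B
    · have := bc (by rw [B.1]; norm_num); omega
    · have := be (by rw [B.1]; norm_num); omega
    · have := be (by rw [B.1]; norm_num); omega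
  refine ⟨?_, B', C', ?_, E'⟩
  · rcases A with A | A | A | A
    · exact A
    · have := ab (by rw [A.1]; norm_num); omega
    · have := ae (by rw [A.1]; norm_num); omega
    · have := ae (by rw [A.1]; norm_num); omega
  · rcases D with D | D | D | D | D | D | D
    · exact D
    · have := de (by rw [D.1]; norm_num); omega
    · have := db (by rw [D.1]; norm_num); omega
    all_goals have := de (by rw [D.1]; norm_num); omega

theorem big {p n : ℕ} (hp : (p, n) ∈ [(23, 23 * 22), (29, 29 * 28), (31, 31 * 10), (37, 37 * 12), (43, 43 * 14)]) {y : G}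
    (oy : orderOf y = p) : centralizer {y} = zpowers y ∧ Nat.card (normalizer (zpowers y : Set G)) = n := by
  have ex : ∀ p, p.Prime → p ∣ 86775571046077562880 → ∃ w : G, orderOf w = p := fun p hp d =>
    (exists_order (K := ⊤) hp (by rwa [card_top, j.hc])).imp fun _ h => h.2
  obtain ⟨a, oa⟩ := ex 23 (by norm_num) (by norm_num)
  obtain ⟨b, ob⟩ := ex 29 (by norm_num) (by norm_num)
  obtain ⟨c, oc⟩ := ex 31 (by norm_num) (by norm_num)
  obtain ⟨d, od⟩ := ex 37 (by norm_num) (by norm_num)
  obtain ⟨e, oe⟩ := ex 43 (by norm_num) (by norm_num)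
  suffices (Nat.card (centralizer ({y} : Set G)), Nat.card (normalizer (zpowers y : Set G))) = (p, n) from
    ⟨(eq_of_le_of_card_ge (zpowers_le.2 (mem_cent.2 rfl)) (by
      rw [(Prod.mk.inj this).1, Nat.card_zpowers, oy])).symm, (Prod.mk.inj this).2⟩
  simp only [List.mem_cons, List.not_mem_nil, or_false, Prod.mk.injEq] at hp
  rcases hp with ⟨rfl, rfl⟩ | ⟨rfl, rfl⟩ | ⟨rfl, rfl⟩ | ⟨rfl, rfl⟩ | ⟨rfl, rfl⟩
  exacts [(big_main j oy ob oc od oe).1, (big_main j oa oy oc od oe).2.1, (big_main j oa ob oy od oe).2.2.1,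
    (big_main j oa ob oc oy oe).2.2.2.1, (big_main j oa ob oc od oy).2.2.2.2]

theorem big_sylow {p n : ℕ} (hp : (p, n) ∈ [(23, 23 * 22), (29, 29 * 28), (31, 31 * 10), (37, 37 * 12), (43, 43 * 14)])
    (P : Sylow p G) : centralizer ((P : Subgroup G) : Set G) = (P : Subgroup G) ∧
      Nat.card (normalizer ((P : Subgroup G) : Set G)) = n := by
  obtain ⟨pp, p2⟩ := (by decide +kernel : ∀ q ∈ [(23, 23 * 22), (29, 29 * 28), (31, 31 * 10), (37, 37 * 12),
    (43, 43 * 14)], q.1.Prime ∧ q.1 ∣ 86775571046077562880 ∧ ¬ q.1 ^ 2 ∣ 86775571046077562880) _ hp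
  have := Fact.mk pp
  obtain ⟨y, oy, e⟩ := exists_gen (S := (P : Subgroup G)) (p := p) (by
    obtain ⟨k, hk⟩ := P.isPGroup'.exists_card_eq
    have a := P.dvd_card_of_dvd_card (j.hc ▸ p2.1)
    have b := card_subgroup_dvd_card (P : Subgroup G)
    rw [hk] at a b ⊢
    rcases k with _ | _ | k
    · exact absurd (Nat.dvd_one.1 a) pp.one_lt.ne'
    · exact pow_one p
    · exact absurd ((pow_dvd_pow p (by omega)).trans (j.hc ▸ b)) p2.2)
  rw [← e, cent_zp]
  exact big j hp oy

end H66.J4
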