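import Cfsg.Agent.Lib.J4L.Five
import Cfsg.Agent.Lib.Inv73.ZStar
import Cfsg.Agent.Lib.ZStar.Main
import Cfsg.Agent.Lib.Mdl.Sylow
/-! General lemmas on centralisers of elements of prime order. -/
set_option autoImplicit false
namespace H66.J4
open Cfsg H75.J4 Subgroup

variable {G : Type*} [Group G]

theorem card_cent_conj (g y : G) : Nat.card (centralizer {g * y * g⁻¹}) = Nat.card (centralizer ({y} : Set G)) := by
  have := MM.card_cent2_conj g y y
  rwa [inf_idem, inf_idem] at this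

theorem card_cent_of_conj {x y : G} (h : IsConj x y) :
    Nat.card (centralizer ({y} : Set G)) = Nat.card (centralizer ({x} : Set G)) := by
  obtain ⟨g, rfl⟩ := isConj_iff.1 h
  exact card_cent_conj g x

theorem card_norm_conj (g y : G) :
    Nat.card (normalizer (zpowers (g * y * g⁻¹) : Set G)) = Nat.card (normalizer (zpowers y : Set G)) := by
  rw [← H1.card_conj_smul g (normalizer (zpowers y : Set G)), ← H1.normalizer_conj_smul, H1.conj_smul_eq_map,
    MonoidHom.map_zpowers]; rfl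

theorem mem_cent {g y : G} : g ∈ centralizer ({y} : Set G) ↔ g * y = y * g := mem_centralizer_singleton_iff

theorem conj_mem_of_norm {O : Subgroup G} {n g : G} (hn : n ∈ normalizer (O : Set G)) (hg : g ∈ O) :
    n * g * n⁻¹ ∈ O := (mem_normalizer_iff.1 hn g).1 hg

theorem cent_le_norm (y : G) : centralizer {y} ≤ normalizer (zpowers y : Set G) :=
  cent_zp y ▸ centralizer_le_normalizer _

theorem comm_zpowers {y c g : G} (hc : c ∈ zpowers y) (hg : g ∈ centralizer {y}) : Commute c g := by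
  obtain ⟨i, rfl⟩ := hc
  exact (Commute.zpow_right (mem_cent.1 hg) i).symm

/-- a central commutator of coprime order is trivial -/
theorem comm_of_coprime {a b c : G} {r n : ℕ} (h : a * b = c * (b * a)) (ca : Commute c a)
    (ha : a ^ r = 1) (hc : c ^ n = 1) (hn : Nat.Coprime r n) : a * b = b * a := by
  have e : b⁻¹ * a * b⁻¹⁻¹ = b⁻¹ * c * b⁻¹⁻¹ * a := by
    rw [inv_inv, mul_assoc, h]; group
  have e2 : b * a * b⁻¹ = c⁻¹ * a := by
    rw [eq_inv_mul_iff_mul_eq, ← mul_assoc, ← h]; group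
  have : c⁻¹ ^ r = 1 := by
    have := congrArg (· ^ r) e2
    simp only [conj_pow, ca.inv_left.mul_pow, ha] at this
    simpa using this.symm
  rw [h, eq_one_of_coprime hn (by simpa using this) hc, one_mul]

variable [Finite G]

theorem sq_dvd_cent {p : ℕ} [hp : Fact p.Prime] {D : Subgroup G} {g : G} (hg : g ∈ D) (o : orderOf g = p)
    (h : p ^ 2 ∣ Nat.card D) : p ^ 2 ∣ Nat.card ↥(D ⊓ centralizer {g}) := by
  obtain ⟨K, c, l⟩ := Sylow.exists_subgroup_card_pow_succ (n := 1) h (H := zpowers (⟨g, hg⟩ : D))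
    (by rw [Nat.card_zpowers, pow_one, ← o, ← orderOf_coe])
  have := IsPGroup.isMulCommutative_of_card_eq_prime_sq c
  rw [← c, ← card_map_of_injective D.subtype_injective]
  refine card_dvd_of_le (le_inf (map_subtype_le _) ?_)
  rintro _ ⟨k, hk, rfl⟩
  exact mem_cent.2 (congrArg (fun x : K => ((x : D) : G))
    (this.is_comm.comm (⟨k, hk⟩ : K) ⟨_, l (mem_zpowers _)⟩))

theorem mem_zpowers_of_comm {p : ℕ} [hp : Fact p.Prime] {D : Subgroup G} (h : ¬ p ^ 2 ∣ Nat.card D) {x y : G}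
    (hx : x ∈ D) (hy : y ∈ D) (ox : orderOf x = p) (oy : orderOf y = p) (c : y * x = x * y) :
    ∃ i : ℕ, y = x ^ i := by
  obtain ⟨k, hk, i, -, e⟩ := exists_conj_prime (p := p) (K := D ⊓ centralizer {x})
    (fun d => h (d.trans (card_dvd_of_le inf_le_left))) ⟨hy, mem_cent.2 c⟩ ⟨hx, mem_cent.2 rfl⟩ oy ox
  refine ⟨i, ?_⟩
  have := (Commute.pow_right (mem_cent.1 hk.2) i).eq
  rw [mul_inv_eq_iff_eq_mul, ← this] at e
  exact mul_left_cancel e

theorem mem_of_card {O D : Subgroup G} (h : O ≤ D) (hn : D ≤ normalizer (O : Set G)) {a : ℕ}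
    (hc : Nat.card D = a * Nat.card O) {w : G} (hw : w ∈ D) (o : Nat.Coprime (orderOf w) a) : w ∈ O := by
  have h1 := H1.card_sup_dvd_of_le_normalizer ((zpowers_le.2 hw).trans hn)
  have h2 := card_dvd_of_le (sup_le (zpowers_le.2 hw) h)
  rw [Nat.card_zpowers] at h1
  have h3 := Nat.dvd_gcd h1 (hc ▸ h2)
  rw [Nat.gcd_mul_right, o, one_mul] at h3
  exact eq_of_le_of_card_ge (le_sup_right : O ≤ zpowers w ⊔ O) (Nat.le_of_dvd Nat.card_pos h3) ▸
    (le_sup_left : zpowers w ≤ _) (mem_zpowers w)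

theorem norm_cent {x : G} {p : ℕ} (hp : p.Prime) (o : orderOf x = p) :
    ∃ k, k ∣ p - 1 ∧ Nat.card (normalizer (zpowers x : Set G)) = Nat.card (centralizer ({x} : Set G)) * k := by
  refine ⟨_, ?_, (H1.card_mul_relIndex_of_le (cent_le_norm x)).symm⟩
  have := (zpowers x).normalizerMonoidHom.range.card_subgroup_dvd_card
  rwa [IsCyclic.card_mulAut, Nat.card_zpowers, o, Nat.totient_prime hp, ← index_ker, normalizerMonoidHom_ker,
    cent_zp] at this

theorem sylow_index {p : ℕ} [hp : Fact p.Prime] (P : Sylow p G) :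
    ∃ r, r ≡ 1 [MOD p] ∧ Nat.card G = r * Nat.card (normalizer ((P : Subgroup G) : Set G)) :=
  ⟨_, P.card_eq_index_normalizer ▸ card_sylow_modEq_one p G, (index_mul_card _).symm⟩

/-- an orbit as large as the set that contains it -/
theorem conj_fill {N : Subgroup G} {y : G} {S : Set G} (hS : ∀ n ∈ N, n * y * n⁻¹ ∈ S)
    (hc : S.ncard * Nat.card ↥(N ⊓ centralizer {y}) ≤ Nat.card N) : ∀ w ∈ S, ∃ n ∈ N, n * y * n⁻¹ = w := by
  let f : N ⧸ (centralizer {y}).subgroupOf N → S := Quotient.lift (fun n : N => ⟨_, hS n n.2⟩) fun a b e => by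
    have := mem_cent.1 (mem_subgroupOf.1 (QuotientGroup.leftRel_apply.1 e))
    refine Subtype.ext ?_
    calc (a : G) * y * (a : G)⁻¹ = a * (y * ((a : G)⁻¹ * b)) * (b : G)⁻¹ := by group
      _ = b * y * (b : G)⁻¹ := by rw [← show ((a : G)⁻¹ * b) * y = y * ((a : G)⁻¹ * b) from this]; group
  have hf : Function.Injective f := by
    rintro ⟨a⟩ ⟨b⟩ e
    have e' : (a : G) * y * (a : G)⁻¹ = b * y * (b : G)⁻¹ := congrArg Subtype.val e
    refine QuotientGroup.eq.2 (mem_subgroupOf.2 (mem_cent.2 ?_))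
    calc ((a : G)⁻¹ * b) * y = (a : G)⁻¹ * (b * y * (b : G)⁻¹) * b := by group
      _ = y * ((a : G)⁻¹ * b) := by rw [← e']; group
  have c := ((centralizer {y}).subgroupOf N).card_mul_index
  rw [H1.card_subgroupOf_eq, inf_comm] at c
  rw [← c, mul_comm] at hc
  have hb := (Nat.bijective_iff_injective_and_card f).2 ⟨hf, le_antisymm (Nat.card_le_card_of_injective f hf)
    (Nat.le_of_mul_le_mul_left hc Nat.card_pos)⟩
  intro w hw
  obtain ⟨⟨n⟩, e⟩ := hb.2 ⟨w, hw⟩
  exact ⟨n, n.2, congrArg Subtype.val e⟩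

/-- the odd core of the centraliser of `y`, with an isolated involution `t` -/
structure OC (y t : G) (O : Subgroup G) : Prop where
  le : O ≤ centralizer {y}
  odd : Odd (Nat.card O)
  mem : y ∈ O
  norm : normalizer (zpowers y : Set G) ≤ normalizer (O : Set G)
  sup : (centralizer {y} ⊓ centralizer {t}) ⊔ O = centralizer {y}
  ty : t ∈ centralizer {y}
  t2 : t * t = 1

theorem exists_OC {y t : G} (oy : Odd (orderOf y)) (ht : orderOf t = 2) (ty : t ∈ centralizer {y})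
    (h : ∀ w ∈ centralizer {y}, w * t = t * w → w * w = 1 → w = 1 ∨ w = t) : ∃ O, OC y t O := by
  have t2 : t * t = 1 := by rw [← pow_two, ← ht, pow_orderOf_eq_one]
  have yy : y ∈ centralizer ({y} : Set G) := mem_cent.2 rfl
  have ho : Odd (Nat.card (pPrimeCore 2 (centralizer ({y} : Set G)))) :=
    Nat.coprime_two_right.1 H1.coprime_card_pPrimeCore
  have ht' : orderOf (⟨t, ty⟩ : centralizer ({y} : Set G)) = 2 := by rw [← orderOf_coe, ht]
  have hs := H73.centralizer_sup_eq_top_of_commutator_mem ht' ho (H41.Isolated.commutator_mem ⟨ht', fun g c => by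
    refine Subtype.ext ((h _ (g * ⟨t, ty⟩ * g⁻¹).2 (congrArg Subtype.val c.eq).symm ?_).resolve_left fun e => ?_)
    · show g * t * (g : G)⁻¹ * (g * t * (g : G)⁻¹) = (1 : G)
      rw [show g * t * (g : G)⁻¹ * (g * t * (g : G)⁻¹) = (g : G) * (t * t) * (g : G)⁻¹ by group, t2]; simp
    · have : (g : G) * t * (g : G)⁻¹ = 1 := e
      rw [conj_eq_one_iff] at this
      rw [this, orderOf_one] at ht; exact absurd ht (by norm_num)⟩)
  refine ⟨(pPrimeCore 2 _).map (centralizer {y}).subtype, map_subtype_le _,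
    by rwa [card_map_of_injective (subtype_injective _)], ⟨⟨y, yy⟩, ?_, rfl⟩, fun n hn => ?_, ?_, ty, t2⟩
  · haveI := H41.normal_zpowers_of_mem_center (w := (⟨y, yy⟩ : centralizer ({y} : Set G)))
      (mem_center_iff.2 fun g => Subtype.ext (mem_cent.1 g.2))
    exact H1.le_pPrimeCore (by rwa [Nat.card_zpowers, ← orderOf_coe, Nat.coprime_two_right]) (mem_zpowers _)
  · refine H1.normalizer_le_normalizer_map_subtype_of_characteristic _ _ (mem_normalizer_iff.2 fun g => ?_)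
    exact ⟨conj_mem_cent hn, fun e => by simpa [mul_assoc] using conj_mem_cent (inv_mem hn) e⟩
  · have := congrArg (map (centralizer ({y} : Set G)).subtype) hs
    rw [Subgroup.map_sup, ← MonoidHom.range_eq_map, range_subtype] at this
    refine le_antisymm (sup_le inf_le_left (map_subtype_le _)) (this.ge.trans (sup_le_sup_right ?_ _))
    rintro _ ⟨g, hg, rfl⟩
    exact ⟨g.2, mem_cent.2 (congrArg Subtype.val (mem_cent.1 hg))⟩

namespace OC
variable {y t : G} {O : Subgroup G} (h : OC y t O)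
include h

theorem cn : centralizer {y} ≤ normalizer (O : Set G) := (cent_le_norm y).trans h.norm

theorem odd_order {g : G} (hg : g ∈ O) : Odd (orderOf g) := h.odd.of_dvd_nat (orderOf_dvd_card_of_mem hg)

theorem eq_one {g : G} {n : ℕ} (hg : g ∈ O) (e : g ^ 2 ^ n = 1) : g = 1 :=
  eq_one_of_coprime ((Nat.coprime_two_left.2 h.odd).pow_left n) e (pow_card_eq_one_of_mem hg)

variable (hC : ∀ g ∈ O, g * t = t * g → g ∈ zpowers y)
include hC

theorem card : Nat.card (centralizer ({y} : Set G)) * orderOf y =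
    Nat.card ↥(centralizer {y} ⊓ centralizer ({t} : Set G)) * Nat.card O := by
  rw [← H1.card_sup_mul_card_inf_of_le_normalizer (inf_le_left.trans h.cn), h.sup, ← Nat.card_zpowers]
  congr 3
  refine le_antisymm (zpowers_le.2 ⟨⟨mem_cent.2 rfl, mem_cent.2 (mem_cent.1 h.ty).symm⟩, h.mem⟩) fun g hg => ?_
  exact hC g hg.2 (mem_cent.1 hg.1.2)

theorem dec {g : G} (hg : g ∈ O) : ∃ e ∈ O, t * e * t⁻¹ = e⁻¹ ∧ ∃ c ∈ zpowers y, g = c * e := by
  have ti : t⁻¹ = t := inv_eq_of_mul_eq_one_right h.t2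
  have hc : g⁻¹ * (t * g * t⁻¹) ∈ O := O.mul_mem (O.inv_mem hg) (conj_mem_of_norm (h.cn h.ty) hg)
  obtain ⟨n, hn⟩ := h.odd_order hc
  have i1 : t * (g⁻¹ * (t * g * t⁻¹)) * t⁻¹ = (g⁻¹ * (t * g * t⁻¹))⁻¹ := by
    rw [show t * (g⁻¹ * (t * g * t⁻¹)) * t⁻¹ = t * g⁻¹ * (t * g) * (t⁻¹ * t⁻¹) by group, ti, h.t2,
      mul_inv_rev, mul_inv_rev, mul_inv_rev, ti]; group
  generalize hd : g⁻¹ * (t * g * t⁻¹) = d at hc hn i1
  have i2 : t * d ^ (n + 1) * t⁻¹ = (d ^ (n + 1))⁻¹ := by rw [← conj_pow, i1, inv_pow]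
  refine ⟨(d ^ (n + 1))⁻¹, O.inv_mem (O.pow_mem hc _), by rw [← conj_inv, i2], g * d ^ (n + 1),
    hC _ (O.mul_mem hg (O.pow_mem hc _)) (mul_inv_eq_iff_eq_mul.1 ?_).symm, by simp⟩
  have : d = d ^ (n + 1) * d ^ (n + 1) := by
    rw [← pow_add, show n + 1 + (n + 1) = 2 * n + 1 + 1 by ring, pow_succ, ← hn, pow_orderOf_eq_one, one_mul]
  calc _ = g * (g⁻¹ * (t * g * t⁻¹)) * (t * d ^ (n + 1) * t⁻¹) := by group
    _ = _ := by rw [hd, i2, mul_assoc, mul_right_inj, mul_inv_eq_iff_eq_mul]; exact this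

theorem comm {a b : G} (ha : a ∈ O) (hb : b ∈ O) : ∃ c ∈ zpowers y, a * b = c * (b * a) := by
  obtain ⟨e, he, i1, c, hc, rfl⟩ := h.dec hC ha
  obtain ⟨f, hf, i2, d, hd, rfl⟩ := h.dec hC hb
  obtain ⟨k, hk, i3, l, hl, e3⟩ := h.dec hC (O.mul_mem he hf)
  have e4 : e⁻¹ * f⁻¹ = l * k⁻¹ := by
    rw [← i1, ← i2, ← i3, show t * e * t⁻¹ * (t * f * t⁻¹) = t * (e * f) * t⁻¹ by group, e3, ← mul_assoc,
      ← (comm_zpowers hl h.ty).eq]; group
  have e5 : f * e = l⁻¹ * k := by
    rw [← (comm_zpowers hl (h.le hk)).inv_left.eq.symm, ← inv_inj, mul_inv_rev, e4]; group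
  refine ⟨l * l, mul_mem hl hl, ?_⟩
  have z := zpowers_le.2 (mem_cent (g := y) (y := y) |>.2 rfl)
  calc c * e * (d * f) = c * d * (e * f) := by
        rw [mul_assoc, mul_assoc, ← mul_assoc e, ← (comm_zpowers hd (h.le he)).eq, mul_assoc]
    _ = l * l * (d * c * (f * e)) := by
        rw [e3, e5, (comm_zpowers hc (z hd)).eq, ← mul_assoc, ← (comm_zpowers hl (z (mul_mem hd hc))).eq,
          ← mul_assoc (d * c), ← (comm_zpowers (inv_mem hl) (z (mul_mem hd hc))).eq]; group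
    _ = _ := by rw [mul_assoc d f, ← mul_assoc f, ← (comm_zpowers hc (h.le hf)).eq]; group

theorem comm' {a b : G} (ha : a ∈ O) (hb : b ∈ O) {r : ℕ} (e : a ^ r = 1) (o : Nat.Coprime r (orderOf y)) :
    a * b = b * a := by
  obtain ⟨c, hc, e'⟩ := h.comm hC ha hb
  exact comm_of_coprime e' (comm_zpowers hc (h.le ha)) e (Nat.card_zpowers y ▸ pow_card_eq_one_of_mem hc) o

end OC
end H66.J4
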