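import Cfsg.Agent.Lib.J4.Six4
import Cfsg.Agent.Lib.Core.CoprimeSylow
import Cfsg.Agent.Lib.Core.CoprimeAbelian
import Cfsg.Agent.Lib.Odd9.SelfNorm

/-!
# An element of order three with centraliser `3·M22` or `6·M22`: general tools
-/

set_option autoImplicit false
set_option linter.unusedSectionVars false

namespace H66.Sev
open Cfsg H15 H95 H68 Subgroup H66.Six
open scoped commutatorElement

variable {G : Type*} [Group G]

/-- `a` is a `2`-element -/
def T2 (a : G) : Prop := ∃ n : ℕ, a ^ 2 ^ n = 1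

theorem T2.of_mem {P : Subgroup G} (hP : IsPGroup 2 P) {a : G} (ha : a ∈ P) : T2 a := isPGroup_iff_forall.1 hP a ha
theorem isP2 {P : Subgroup G} (h : ∀ a ∈ P, T2 a) : IsPGroup 2 P := isPGroup_iff_forall.2 h
theorem T2.of_sq {a : G} (h : a * a = 1) : T2 a := ⟨1, by rw [pow_one, pow_two, h]⟩
theorem T2.one : T2 (1 : G) := ⟨0, one_pow _⟩
theorem T2.conj {a : G} (h : T2 a) (g : G) : T2 (g * a * g⁻¹) := h.imp fun n e => by rw [conj_pow, e]; simp
theorem T2.conj' {a : G} (h : T2 a) (g : G) : T2 (g⁻¹ * a * g) := by simpa using h.conj g⁻¹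
theorem T2.inv {a : G} (h : T2 a) : T2 a⁻¹ := h.imp fun n e => by rw [inv_pow, e, inv_one]
theorem T2.mul {a b : G} (c : Commute a b) (ha : T2 a) (hb : T2 b) : T2 (a * b) := by
  obtain ⟨m, e⟩ := ha
  obtain ⟨n, f⟩ := hb
  exact ⟨m + n, by rw [c.mul_pow, pow_add, pow_mul, e, mul_comm (2 ^ m), pow_mul, f]; simp⟩
theorem T2.eq_one {a : G} (h : T2 a) (h3 : a ^ 3 = 1) : a = 1 := by
  obtain ⟨n, e⟩ := h
  exact (pow_eq_one_iff_of_coprime (Nat.Coprime.pow_right n (by norm_num))).1 ⟨h3, e⟩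
theorem T2.pow (n : ℕ) {a : G} (h : T2 a) : T2 (a ^ n) := h.imp fun m e => by rw [← pow_mul, mul_comm, pow_mul, e, one_pow]
theorem T2.eight {a : G} (h : T2 a) (h3 : a ^ 24 = 1) : a ^ 8 = 1 := (h.pow 8).eq_one (by rw [← pow_mul, h3])
theorem T2.of_pow {a : G} {n : ℕ} (h : T2 (a ^ 2 ^ n)) : T2 a := by
  obtain ⟨m, e⟩ := h
  exact ⟨n + m, by rw [pow_add, pow_mul, e]⟩
theorem T2.coprime {a : G} (h : T2 a) : (orderOf a).Coprime 3 := by
  obtain ⟨m, e⟩ := h
  exact Nat.Coprime.coprime_dvd_left (orderOf_dvd_of_pow_eq_one e) (Nat.Coprime.pow_left m (by norm_num))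

theorem not3 {P : Subgroup G} [Finite P] (hP : IsPGroup 2 P) : ¬ 3 ∣ Nat.card P := by
  have := Fact.mk Nat.prime_two
  obtain ⟨n, e⟩ := hP.exists_card_eq
  rw [e]
  exact fun c => absurd (Nat.prime_three.dvd_of_dvd_pow c) (by norm_num)

theorem conj3 {S : Subgroup G} [Finite S] (h3 : ¬ 3 ∣ Nat.card S) {t e : G} (t3 : t ^ 3 = 1) (e3 : e ^ 3 = 1)
    (ne : e ∈ normalizer (S : Set G)) (h : t * e⁻¹ ∈ S) : ∃ b ∈ S, t = b * e * b⁻¹ := by
  classical
  have := Fact.mk Nat.prime_three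
  have := Fintype.ofFinite S
  let f : Equiv.Perm S :=
    { toFun := fun b => ⟨t * b * e⁻¹, by
        rw [show t * b * e⁻¹ = t * e⁻¹ * (e * b * e⁻¹) by group]
        exact mul_mem h (conj_mem_of_mem_normalizer ne b.2)⟩
      invFun := fun b => ⟨t⁻¹ * b * e, by
        rw [show t⁻¹ * b * e = e⁻¹ * ((t * e⁻¹)⁻¹ * b) * e by group]
        exact conj_mem_of_mem_normalizer' ne (mul_mem (inv_mem h) b.2)⟩
      left_inv := fun b => Subtype.ext (by simp only; group)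
      right_inv := fun b => Subtype.ext (by simp only; group) }
  obtain ⟨b, hb⟩ := Equiv.Perm.exists_fixed_point_of_prime (p := 3) (n := 1) (σ := f)
    (by rwa [← Nat.card_eq_fintype_card]) (Equiv.ext fun b => Subtype.ext (by
      show t * (t * (t * b * e⁻¹) * e⁻¹) * e⁻¹ = b
      rw [show t * (t * (t * b * e⁻¹) * e⁻¹) * e⁻¹ = t ^ 3 * b * (e ^ 3)⁻¹ by rw [pow_three, pow_three]; group, t3, e3]
      simp))
  have : t * b * e⁻¹ = b := congrArg Subtype.val hb
  exact ⟨b, b.2, eq_mul_inv_of_mul_eq (mul_inv_eq_iff_eq_mul.1 this)⟩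

/-- coprime action of an element of order three: `[a, y] ∈ I` gives a fixed point in `a I` -/
theorem fix3 {I : Subgroup G} [Finite I] (h3 : ¬ 3 ∣ Nat.card I) {y a : G} (y3 : y ^ 3 = 1)
    (ny : y ∈ normalizer (I : Set G)) (h : a⁻¹ * y * a * y⁻¹ ∈ I) : ∃ i ∈ I, a * i * y = y * (a * i) := by
  obtain ⟨b, hb, e⟩ := conj3 h3 (t := a⁻¹ * y * a) (by simpa using (conj_pow (a := a⁻¹) (b := y) (i := 3)).trans (by simp [y3]))
    y3 ny h
  refine ⟨b, hb, ?_⟩
  calc a * b * y = a * (b * y * b⁻¹) * b := by group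
    _ = _ := by rw [← e]; group

theorem inv3 {x : G} (h : x ^ 3 = 1) : x⁻¹ = x * x := inv_eq_of_mul_eq_one_right (by rw [← h, pow_three])

theorem zp3 {x c : G} (h3 : x ^ 3 = 1) (hc : c ∈ zpowers x) : c = 1 ∨ c = x ∨ c = x⁻¹ := by
  by_cases e : x = 1
  · subst e; left; simpa using hc
  · have := Fact.mk Nat.prime_three
    exact zpowers_three (orderOf_eq_prime h3 e) hc

theorem cent_inv (a : G) : centralizer {a⁻¹} = centralizer ({a} : Set G) := by
  ext g
  rw [mc, mc]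
  exact ⟨fun h => by simpa using (show Commute g a⁻¹ from h).inv_right.eq, fun h => (show Commute g a from h).inv_right.eq⟩

theorem card9 [Finite G] {x y : G} (x3 : orderOf x = 3) (y3 : y ^ 3 = 1) (c : Commute x y) (hy : y ∉ zpowers x) :
    Nat.card ↥(zpowers x ⊔ zpowers y) = 9 := by
  have := Fact.mk Nat.prime_three
  have oy : orderOf y = 3 := orderOf_eq_prime y3 fun e => hy (e ▸ one_mem _)
  have n : zpowers y ≤ normalizer (zpowers x : Set G) := zpowers_le.2 (H66.J4.cent_le_norm x (mc.2 c.symm.eq))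
  have d := H1.card_sup_dvd_of_le_normalizer n
  rw [sup_comm, Nat.card_zpowers, Nat.card_zpowers, x3, oy] at d
  have d1 : 3 ∣ Nat.card ↥(zpowers x ⊔ zpowers y) := by
    rw [← x3, ← Nat.card_zpowers]; exact card_dvd_of_le le_sup_left
  have ne : Nat.card ↥(zpowers x ⊔ zpowers y) ≠ 3 := fun e => hy
    ((eq_of_le_of_card_ge (le_sup_left : zpowers x ≤ zpowers x ⊔ zpowers y)
      (by rw [e, Nat.card_zpowers, x3])).ge (mem_sup_right (mem_zpowers y)))
  have := Nat.le_of_dvd (by norm_num) d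
  generalize Nat.card ↥(zpowers x ⊔ zpowers y) = m at *
  interval_cases m <;> omega

theorem memE {x y a : G} (x3 : x ^ 3 = 1) (y3 : y ^ 3 = 1) (c : Commute x y) (ha : a ∈ zpowers x ⊔ zpowers y) :
    ∃ b, (b = 1 ∨ b = x ∨ b = y ∨ b = x * y ∨ b = x * (x * y)) ∧ (a = b ∨ a = b⁻¹) := by
  obtain ⟨u, hu, v, hv, rfl⟩ := (mem_sup_of_le_normalizer'
    (zpowers_le.2 (H66.J4.cent_le_norm x (mc.2 c.symm.eq)))).1 ha
  have e1 : (x * y)⁻¹ = x⁻¹ * y⁻¹ := by rw [c.eq, mul_inv_rev]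
  have e2 : x * (x * y) = x⁻¹ * y := by rw [inv3 x3, mul_assoc]
  have e3 : (x⁻¹ * y)⁻¹ = x * y⁻¹ := by rw [mul_inv_rev, inv_inv, c.inv_right.eq]
  rcases zp3 x3 hu with rfl | rfl | rfl <;> rcases zp3 y3 hv with rfl | rfl | rfl
  · exact ⟨1, by simp⟩
  · exact ⟨v, by simp⟩
  · exact ⟨y, by simp⟩
  · exact ⟨u, by simp⟩
  · exact ⟨u * v, by simp⟩
  · exact ⟨u * (u * y), by simp, Or.inr (by rw [e2, e3])⟩
  · exact ⟨x, by simp⟩
  · exact ⟨x * (x * v), by simp, Or.inl e2.symm⟩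
  · exact ⟨x * y, by simp, Or.inr e1.symm⟩

variable [Finite G]

/-- generation by the centralisers of the four lines -/
theorem gen4 {x y : G} (x3 : orderOf x = 3) (y3 : y ^ 3 = 1) (c : Commute x y) (hy : y ∉ zpowers x)
    {K M : Subgroup G} (h3 : ¬ 3 ∣ Nat.card K) (nx : x ∈ normalizer (K : Set G)) (ny : y ∈ normalizer (K : Set G))
    (h1 : K ⊓ centralizer {x} ≤ M) (h2 : K ⊓ centralizer {y} ≤ M) (h4 : K ⊓ centralizer {x * y} ≤ M)
    (h5 : K ⊓ centralizer {x * (x * y)} ≤ M) : K ≤ M := by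
  have x3' : x ^ 3 = 1 := by rw [← x3, pow_orderOf_eq_one]
  have c9 := card9 x3 y3 c hy
  have cm : ∀ a ∈ zpowers x ⊔ zpowers y, Commute a x ∧ Commute a y := fun a ha => by
    obtain ⟨b, hb, e⟩ := memE x3' y3 c ha
    have : Commute b x ∧ Commute b y := by
      rcases hb with rfl | rfl | rfl | rfl | rfl
      exacts [⟨by simp, by simp⟩, ⟨rfl, c⟩, ⟨c.symm, rfl⟩, ⟨(Commute.refl x).mul_left c.symm, c.mul_left rfl⟩,
        ⟨(Commute.refl x).mul_left ((Commute.refl x).mul_left c.symm), c.mul_left (c.mul_left rfl)⟩]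
    rcases e with rfl | rfl
    exacts [this, ⟨this.1.inv_left, this.2.inv_left⟩]
  refine H2.le_of_forall_centralizer_le (A := zpowers x ⊔ zpowers y) ⟨⟨fun a b => Subtype.ext ?_⟩⟩ (fun cy => ?_)
    (sup_le (zpowers_le.2 nx) (zpowers_le.2 ny)) (by rw [c9]; exact Nat.Coprime.pow_left 2 ((Nat.Prime.coprime_iff_not_dvd Nat.prime_three).2 h3))
    fun a ha a1 => ?_
  · exact mc.1 ((sup_le (zpowers_le.2 (mc.2 (cm b b.2).1.symm)) (zpowers_le.2 (mc.2 (cm b b.2).2.symm)) :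
      _ ≤ centralizer {(b : G)}) a.2)
  · obtain ⟨g, hg⟩ := cy.exists_ofOrder_eq_natCard
    have : (g : G) ^ 3 = 1 := by
      obtain ⟨b, hb, e⟩ := memE x3' y3 c g.2
      have : b ^ 3 = 1 := by
        rcases hb with rfl | rfl | rfl | rfl | rfl
        exacts [one_pow _, x3', y3, by rw [c.mul_pow, x3', y3, one_mul],
          by rw [((Commute.refl x).mul_right c).mul_pow, c.mul_pow, x3', y3, one_mul, one_mul]]
      rcases e with e | e <;> rw [e]
      exacts [this, by rw [inv_pow, this, inv_one]]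
    have := orderOf_dvd_of_pow_eq_one this
    rw [orderOf_coe, hg, c9] at this
    norm_num at this
  · obtain ⟨b, hb, e⟩ := memE x3' y3 c ha
    have e' : centralizer {a} = centralizer ({b} : Set G) := by
      rcases e with rfl | rfl
      exacts [rfl, cent_inv b]
    rw [e']
    rcases hb with rfl | rfl | rfl | rfl | rfl
    exacts [absurd (by simpa using e) a1, h1, h2, h4, h5]

theorem two4 {x y : G} (x3 : orderOf x = 3) (y3 : y ^ 3 = 1) (c : Commute x y) (hy : y ∉ zpowers x)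
    {K : Subgroup G} (h3 : ¬ 3 ∣ Nat.card K) (nx : x ∈ normalizer (K : Set G)) (ny : y ∈ normalizer (K : Set G))
    (h : ∀ e, e = x ∨ e = y ∨ e = x * y ∨ e = x * (x * y) → IsPGroup 2 ↥(K ⊓ centralizer {e})) : IsPGroup 2 K := by
  have := Fact.mk Nat.prime_two
  obtain ⟨T, hT⟩ := exists_sylowIn 2 K
  refine hT.isPGroup.to_le (H2.le_of_forall_sylowIn_le fun p hp => ?_)
  by_cases e : p = 2
  · subst e; exact ⟨T, hT, le_rfl⟩
  have := Fact.mk hp
  have := Fact.mk Nat.prime_three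
  obtain ⟨P, hP, hn⟩ := H2.exists_invariant_sylowIn (A := zpowers x ⊔ zpowers y) (K := K)
    (sup_le (zpowers_le.2 nx) (zpowers_le.2 ny))
    (by rw [card9 x3 y3 c hy]; exact Nat.Coprime.pow_left 2 ((Nat.Prime.coprime_iff_not_dvd Nat.prime_three).2 h3))
    (Or.inl (by have := (IsPGroup.of_card (p := 3) (n := 2) (card9 x3 y3 c hy)).isNilpotent; infer_instance)) p
  have key : ∀ e, e = x ∨ e = y ∨ e = x * y ∨ e = x * (x * y) → P ⊓ centralizer {e} ≤ T := fun a ha g hg => by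
    obtain ⟨m, e1⟩ := T2.of_mem (h a ha) ⟨hP.le hg.1, hg.2⟩
    obtain ⟨n, e2⟩ := isPGroup_iff_forall.1 hP.isPGroup g hg.1
    rw [(pow_eq_one_iff_of_coprime (Nat.Coprime.pow _ _ ((Nat.coprime_primes hp Nat.prime_two).2 e))).1 ⟨e2, e1⟩]
    exact one_mem _
  exact ⟨P, hP, gen4 x3 y3 c hy (fun d => h3 (d.trans (card_dvd_of_le hP.le))) (hn (mem_sup_left (mem_zpowers x)))
    (hn (mem_sup_right (mem_zpowers y))) (key _ (by simp)) (key _ (by simp)) (key _ (by simp)) (key _ (by simp))⟩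

theorem not3_of_cent {L : Subgroup G} {x : G} (x3 : x ^ 3 = 1) (nx : x ∈ normalizer (L : Set G))
    (h : ¬ 3 ∣ Nat.card ↥(L ⊓ centralizer {x})) : ¬ 3 ∣ Nat.card L := fun c => by
  have := Fact.mk Nat.prime_three
  exact h ((H4.card_modEq_card_inf_centralizer (q := 3) nx (k := 1) x3).dvd_iff (dvd_refl 3) |>.1 c)

/-- Burnside's theorem for a self-normalising cyclic group of order three -/
theorem burn {R : Subgroup G} {x : G} (hx : orderOf x = 3) (xR : x ∈ R)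
    (h1 : ∀ g ∈ R, g * x = x * g → ∀ k, g ^ 3 ^ k = 1 → g ∈ zpowers x) (h2 : ∀ g ∈ R, g * x * g⁻¹ ≠ x⁻¹) :
    ∃ M ≤ R, ¬ 3 ∣ Nat.card M ∧ (∀ g ∈ R, (orderOf g).Coprime 3 → g ∈ M) ∧
      normalizer (R : Set G) ≤ normalizer (M : Set G) ∧ ∀ g ∈ R, ∃ m ∈ M, ∃ s ∈ zpowers x, g = m * s := by
  have := Fact.mk Nat.prime_three
  have x3 : x ^ 3 = 1 := by rw [← hx, pow_orderOf_eq_one]
  have px : IsPGroup 3 (zpowers x) := isPGroup_zpowers (k := 1) x3
  have nc : ∀ g ∈ R, g ∈ normalizer (zpowers x : Set G) → g * x = x * g := fun g hg hn => by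
    rcases zp3 x3 (conj_mem_of_mem_normalizer hn (mem_zpowers x)) with e | e | e
    · rw [show x = 1 by simpa [mul_inv_eq_one] using e]; simp
    · exact mul_inv_eq_iff_eq_mul.1 e
    · exact absurd e (h2 g hg)
  have syl : SylowIn 3 (zpowers x) R := ⟨zpowers_le.2 xR, px, fun Q hQ l1 l2 => by
    by_contra ne
    obtain ⟨n, i1, i2, i3⟩ := exists_mem_normalizer_of_lt hQ (lt_of_le_of_ne l1 (Ne.symm ne))
    obtain ⟨k, e⟩ := isPGroup_iff_forall.1 hQ n i1
    exact i2 (h1 n (l2 i1) (nc n (l2 i1) i3) k e)⟩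
  obtain ⟨M, m1, m2, m3, m4, m5⟩ := H9.burnside_sub syl.le px syl.not_dvd_relIndex fun g hg hn => by
    rw [zpowers_eq_closure, centralizer_closure]; exact mc.2 (nc g hg hn)
  have n3 : ¬ 3 ∣ Nat.card M := fun d => by
    obtain ⟨g, hg⟩ := exists_prime_orderOf_dvd_card' (G := M) 3 d
    have g3 : (g : G) ^ 3 = 1 := by rw [← hg, ← orderOf_coe, pow_orderOf_eq_one]
    obtain ⟨r, hr, l⟩ := syl.exists_cj_le (isPGroup_zpowers (k := 1) g3) (zpowers_le.2 (m1 g.2))
    have := m4 _ (by simpa using mul_mem (m2 r hr g (m1 g.2)) g.2) (l (conj_mem_cj.2 (mem_zpowers _)))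
    have e : g = 1 := Subtype.ext (by simpa [mul_inv_eq_one] using this)
    rw [e, orderOf_one] at hg
    omega
  refine ⟨M, m1, n3, m3, fun n hn => mem_normalizer_of_finite fun m hm =>
    m3 _ (conj_mem_of_mem_normalizer hn (m1 hm)) ?_, m5⟩
  rw [show orderOf (n * m * n⁻¹) = orderOf m from orderOf_injective (MulAut.conj n).toMonoidHom (MulAut.conj n).injective m]
  exact Nat.Coprime.coprime_dvd_left (orderOf_dvd_natCard (⟨m, hm⟩ : M) |> fun d => by rwa [← orderOf_coe] at d)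
    ((Nat.Prime.coprime_iff_not_dvd Nat.prime_three).2 n3).symm

end H66.Sev
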