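import Cfsg.Agent.Lib.J4.Sev9

/-!
# An element of order three with centraliser `6·M22`: the normaliser of the group of order `2¹³`
-/

set_option autoImplicit false
set_option linter.unusedSectionVars false
set_option maxRecDepth 100000

namespace H66.Sev
open Cfsg H15 H95 H68 H75.J4 Subgroup H66.Six
open H54 (band band_eq_true bimp bimp_eq_true bor bor_eq_true tb)

variable {G : Type*} [Group G] [Finite G]

section L
variable {x z : G} {φ : G → Equiv.Perm GolayPt} (h : Hy x z φ) {Q : Subgroup G} (q : Qs z Q)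
  {y : G} (c : y * x = x * y) (y3 : y ^ 3 = 1) (hy : y ∉ zpowers x) (cQ : Nat.card Q = 2 ^ 13)
include h q c y3 hy cQ

theorem comm_sq' : ∀ a ∈ Q, a * a ∈ zpowers z ∧ ∀ b ∈ Q, a * b * a⁻¹ * b⁻¹ ∈ zpowers z := by
  have := Fact.mk Nat.prime_two
  have zc : ∀ {a g : G}, g * z = z * g → a ∈ zpowers z → g * a * g⁻¹ = a := fun {a g} hg ha => by
    rcases (mem_zpowers_iff_of_sq h.zz).1 ha with rfl | rfl
    · simp
    · rw [hg, mul_inv_cancel_right]
  let R : Subgroup G :=
    { carrier := {a | a ∈ Q ∧ a * a ∈ zpowers z ∧ ∀ b ∈ Q, a * b * a⁻¹ * b⁻¹ ∈ zpowers z}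
      one_mem' := ⟨one_mem _, by simp, by simp⟩
      mul_mem' := fun {a b} ha hb => ⟨mul_mem ha.1 hb.1, by
        have e := zc (q.le a ha.1) (hb.2.2 a ha.1)
        rw [show a * b * (a * b) = a * (b * a * b⁻¹ * a⁻¹) * a⁻¹ * (a * a) * (b * b) by group, e]
        exact mul_mem (mul_mem (hb.2.2 a ha.1) ha.2.1) hb.2.1, fun d hd => by
        have e := zc (q.le a ha.1) (hb.2.2 d hd)
        rw [show a * b * d * (a * b)⁻¹ * d⁻¹ = a * (b * d * b⁻¹ * d⁻¹) * a⁻¹ * (a * d * a⁻¹ * d⁻¹) by group, e]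
        exact mul_mem (hb.2.2 d hd) (ha.2.2 d hd)⟩
      inv_mem' := fun {a} ha => ⟨inv_mem ha.1, by simpa using inv_mem ha.2.1, fun d hd => by
        have e := zc (q.le _ (inv_mem ha.1)) (inv_mem (ha.2.2 d hd))
        rw [show a⁻¹ * d * a⁻¹⁻¹ * d⁻¹ = a⁻¹ * (a * d * a⁻¹ * d⁻¹)⁻¹ * a⁻¹⁻¹ by group, e]
        exact inv_mem (ha.2.2 d hd)⟩ }
  have hR := h.irr q c y3 hy cQ (R := R) (fun _ ha => ha.1)
    ⟨q.z_mem, by rw [h.zz]; exact one_mem _, fun b hb => by rw [← q.le b hb]; simp⟩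
    fun k hk r hr => ⟨q.conj (h.zc k hk) hr.1, by
      rw [show k * r * k⁻¹ * (k * r * k⁻¹) = k * (r * r) * k⁻¹ by group, zc (h.zc k hk) hr.2.1]
      exact hr.2.1, fun b hb => by
      have i := hr.2.2 _ (q.conj (g := k⁻¹) (show Commute k z from h.zc k hk).inv_left.eq hb)
      rw [← zc (h.zc k hk) i] at i
      convert i using 1
      group⟩
  refine fun a ha => (((hR.resolve_left fun e => ?_).ge ha).2 :)
  have hN : ((zpowers z).subgroupOf Q).Normal := ⟨fun n hn g => by
    rw [mem_subgroupOf] at hn ⊢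
    exact (congrArg (· ∈ zpowers z) (zc (q.le g g.2) hn)).mpr hn⟩
  have hp := q.pg.to_quotient ((zpowers z).subgroupOf Q)
  have nt : Nontrivial (Q ⧸ (zpowers z).subgroupOf Q) := by
    rw [QuotientGroup.nontrivial_iff, Ne, subgroupOf_eq_top]
    intro l
    have := card_le_of_le l
    rw [cQ, Nat.card_zpowers, h.z2] at this
    norm_num at this
  have nt2 := hp.center_nontrivial
  obtain ⟨n, hn0, hn⟩ := (hp.to_subgroup (center _)).nontrivial_iff_card.1 nt2
  obtain ⟨g, hg⟩ := exists_prime_orderOf_dvd_card' (G := center (Q ⧸ (zpowers z).subgroupOf Q)) 2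
    (hn ▸ dvd_pow_self 2 hn0.ne')
  obtain ⟨b, hb⟩ := QuotientGroup.mk_surjective g.1
  have b1 : (b : G) ∉ zpowers z := fun i => by
    have : g = 1 := Subtype.ext (hb ▸ (QuotientGroup.eq_one_iff b).2 i)
    rw [this, orderOf_one] at hg
    omega
  refine b1 ((mem_zpowers_iff_of_sq h.zz).2 (e b ⟨b.2, ?_, fun d hd => ?_⟩))
  · refine mem_subgroupOf.1 ((QuotientGroup.eq_one_iff (b * b)).1 ?_)
    rw [QuotientGroup.mk_mul, hb]
    exact congrArg Subtype.val (mul_self_of_orderOf_eq_two hg)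
  · refine mem_subgroupOf.1 ((QuotientGroup.eq_one_iff (N := (zpowers z).subgroupOf Q)
      (b * ⟨d, hd⟩ * b⁻¹ * (⟨d, hd⟩ : Q)⁻¹)).1 ?_)
    rw [QuotientGroup.mk_mul, QuotientGroup.mk_mul, QuotientGroup.mk_mul, QuotientGroup.mk_inv, QuotientGroup.mk_inv,
      hb, ← mem_center_iff.1 g.2]
    group

variable (ne : ¬ ∀ a ∈ Q, a * a = 1)
include ne

theorem nonab' : ∃ a ∈ Q, ∃ b ∈ Q, a * b ≠ b * a := by
  by_contra hn
  push Not at hn
  let R : Subgroup G :=
    { carrier := {a | a ∈ Q ∧ a * a = 1}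
      one_mem' := ⟨one_mem _, by simp⟩
      mul_mem' := fun {a b} ha hb => ⟨mul_mem ha.1 hb.1, by
        rw [mul_assoc, ← mul_assoc b, hn b hb.1 a ha.1, mul_assoc, hb.2, mul_one, ha.2]⟩
      inv_mem' := fun {a} ha => ⟨inv_mem ha.1, by rw [← mul_inv_rev, ha.2, inv_one]⟩ }
  rcases h.irr q c y3 hy cQ (R := R) (fun _ ha => ha.1) ⟨q.z_mem, h.zz⟩
    fun k hk r hr => ⟨q.conj (h.zc k hk) hr.1, by
      rw [show k * r * k⁻¹ * (k * r * k⁻¹) = k * (r * r) * k⁻¹ by group, hr.2]; simp⟩ with e | e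
  · refine h.x_not q (q.cent x h.zx.symm fun a ha => ?_)
    have i := q.conj h.zx.symm ha
    have s : x * (a * a) * x⁻¹ = a * a := by
      rcases (mem_zpowers_iff_of_sq h.zz).1 (comm_sq' h q c y3 hy cQ a ha).1 with e | e <;> rw [e]
      · simp
      · rw [← h.zx, mul_inv_cancel_right]
    rcases e (a⁻¹ * (x * a * x⁻¹)) ⟨mul_mem (inv_mem ha) i, by
      rw [mul_assoc, ← mul_assoc (x * a * x⁻¹), hn _ i _ (inv_mem ha), mul_assoc a⁻¹,
        show x * a * x⁻¹ * (x * a * x⁻¹) = x * (a * a) * x⁻¹ by group, s]; group⟩ with e1 | e1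
    · exact (mul_inv_eq_iff_eq_mul.1 (inv_mul_eq_one.1 e1).symm).symm
    · exfalso
      have e2 : x * a * x⁻¹ = a * z := inv_mul_eq_iff_eq_mul.1 e1
      have e3 : x * z * x⁻¹ = z := by rw [← h.zx, mul_inv_cancel_right]
      have e4 : x * (a * z) * x⁻¹ = a := by
        rw [show x * (a * z) * x⁻¹ = x * a * x⁻¹ * (x * z * x⁻¹) by group, e2, e3, mul_assoc, h.zz, mul_one]
      have e5 : x ^ 3 * a * (x ^ 3)⁻¹ = a * z := by
        rw [show x ^ 3 * a * (x ^ 3)⁻¹ = x * (x * (x * a * x⁻¹) * x⁻¹) * x⁻¹ by rw [pow_three]; group, e2, e4, e2]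
      rw [h.cube] at e5
      exact h.z1 (by simpa using e5)
  · exact ne fun a ha => (e.ge ha).2

theorem l3' : L3 Q z := by
  have na := nonab' h q c y3 hy cQ ne
  have nd : ∀ a ∈ Q, (∀ b ∈ Q, a * b = b * a) → a = 1 ∨ a = z := fun a ha e => by
    rcases h.irr q c y3 hy cQ (R := Q ⊓ centralizer (Q : Set G)) inf_le_left
      ⟨q.z_mem, mem_centralizer_iff.2 q.le⟩ (fun k hk r hr => ⟨q.conj (h.zc k hk) hr.1,
        mem_centralizer_iff.2 fun b hb => conj_comm.2 (mem_centralizer_iff.1 hr.2 _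
          (conj_mem_of_normalizer' (q.norm k (h.zc k hk)) hb))⟩) with e1 | e1
    · exact e1 a ⟨ha, mem_centralizer_iff.2 fun b hb => (e b hb).symm⟩
    · obtain ⟨a, ha, b, hb, e⟩ := na
      exact absurd (mem_centralizer_iff.1 (e1.ge hb).2 a ha) e
  refine ⟨⟨q.z_mem, h.z1, h.zz, q.le, fun a ha b hb => ?_, nd, na⟩, fun g hg => nd g (q.cent g (hg z q.z_mem).symm hg)
    fun b hb => (hg b hb).symm, q.norm⟩
  rcases (mem_zpowers_iff_of_sq h.zz).1 ((comm_sq' h q c y3 hy cQ a ha).2 b hb) with e | e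
  · left
    rwa [mul_inv_eq_one, mul_inv_eq_iff_eq_mul] at e
  · right
    rw [mul_inv_eq_iff_eq_mul, mul_inv_eq_iff_eq_mul] at e
    rw [e, q.le _ (mul_mem hb ha), mul_assoc]

end L

/-- distance to a vector fixed by `X3a` -/
def DT : ℕ := 0x989a67869a66a878ba48809677396688a637556a98768737493a769a779b7998587a73796387686874495646864aa3a89746788984779a9b497857983aa8a898967a758678798659898775688b917847955aa677349a8677788596a5744675a885860986559778a889895758798692655869a8796a56366466887558978989698a78486586687389789179949986258569867379389649965986a7486667a79b595a7668797b698779759789698977368766a997997a9496888338568717959987985768988a7976377958579a9774787588655885898887818756a6836958765a59889aa8895999977874a87798668a6577589a6399778987999748a86a45668979566a95157678879798965678665988623768a8575386608974a8787a684787a8637a773948877496393687897799874b8a8957689758486859788988a5596378a978599958879878a5b856897564998a26958668569a76737253a6a97a88889a37668569829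784674a979a7b6a990888a7ab98678796867687852659886a69789775696886a997187aab66683a6719557479686899848887968889897497a977889969b855687475478797a97987786652895723859976aa58579781758759676a8996398699784844766779688a55785b89695a9888a76a758a98966987677a958a664826687897a8787787866878897a77784775967879776662682858ba587658878785898596086936985ab9859a6783565a6668776598888478a7584889aa745a8788835889896a77967636988985b9a63975562859998a7595877b86377877a56991989756a99b74648b657a9b58959888988a958589999959487b778660875758989488a673477745b981885718778a78a7a4666796a99368746788645896767696396a599788875a848787899336b685bb79767a5767679a958697688979787774ba6a9578668988587963a977888796989a986a77688757997484757778588989686656347765698897aa69a696a579787b825598677678874573763969b74aa89a869738776978598a85798776656a96894785917787589b68737987398258889a889868685756787899938756796a36890867785977496778a872758666348817a88665667a99998697989867767927667679652976757589376a978789781998798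9957896788988b7b967449779a777679896796a8a44797a59597567739859988a8567864595578088719897688673676867a776264a89a97b98996488765888999889a748686a64685288967a868489a8486a8898679998275674968a8877799a8936678a6a6a7778179749777a97999387a287797a89a84977697867697a87779a8a66989657855786964599a66a86827a988489a7884ba8588625886857875a85577485698a867a5949768677486747ab59a947778a1887878751a77789665a9848878a8994648575796757a4b8899a8aab6879b8598697976a66787858a7874788678676991a5787a968397376878a47755669897a597644998a853396648a59a79659987987777a98584988479a88a597496786aa5879698766688579736986976787698797ab6aa98529768a698b3879885656776776478586a0776a4749649765997958748b54884a1288984a7878696789866a89876898b69874253776679a63648877447763765ba87889778968769866777b938692a67879477885877a85a78785a79978367957887a67639996a9684876982a96979a5587777b6c9aa96986096a97869b3779595757798864869758773967875973871978688876747769a9659769998567549776474796ca6667877a788a898872a9aa8b987669a6a97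b935759897187a8758458688229879895878965786977864895998548a142898a657876974589758a89775679359477a78879a88588838a77458897a894a7878aa96798564779769b498868999887978aa287a979944999ab797959349867466839697845869785287657a860a9783867763a756966882a797689889958258684678955873776a969862896685269776478a75a7859377763899a687a63979794587a7869427558789747785a28a7899698b1887a5578788a976b776897a7857a889788596597286884687899655a78598868880878578849995987a58638b5a979abc96a887a866857898796788a84775666448a55a914a266b8998988a94858b66897ab7898967997a866887bb9878b494947875866877875588769459557a98676876a78a7853678a857877447898a7887878863a757898996769847468a7777aa8759689a8878887979884677638896a74a788498789986079876274556587778896b83a7778798696a999986786379867589975594557a9b87a8869a62886884899688879887689b79176758789a484a8a86a8ab69255576865696378971487586283a8789aa77954688a77a6775887569794674788b88a54976688457676a80895a877984757657796a3779845979699918985a98968688aa7b67799896857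8559a257335975945778ba7887759979858289354887968b5887b9647645698888749679956a97a886759487979697498596984a999866739977b88987a7a6774868aa56678877399999398778a27844a4737773687567a829739697b519578767986799856876868986b65863a69956aa72999a78779499766aa4687887a38686938898a9978756798066778286886796a7a9497786a7739777b85777aa4763858489867934a627689966288a8694b7aa8379889578a968b78456589a51739795876885978888995685994599947a9269946657789566628698774897968aa389a579767759889556b68867979788989aaa0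

theorem DT_chk : ∀ v, v < 4096 → mv X3a v = v ∨ ∃ p ∈ [Um, Km, Om], H54.dig 4 DT (mv p v) < H54.dig 4 DT v := fun v hv => by
  have := (H54.allLt_iff _ _).1 (show H54.allLt (fun v => bor (Nat.beq (mv X3a v) v) (H54.anyL (fun p =>
    Nat.blt (H54.dig 4 DT (mv p v)) (H54.dig 4 DT v)) [Um, Km, Om])) 4096 = true by decide +kernel) v hv
  simpa only [bor_eq_true, Nat.beq_eq, H54.anyL_iff, Nat.blt_eq] using this

theorem three_fix {x z : G} {φ : G → Equiv.Perm GolayPt} (h : Hy x z φ) {Q : Subgroup G} (q : Qs z Q) (l : L3 Q z)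
    (cQ : Nat.card Q = 2 ^ 13) {t : G} (ht : t * x * t⁻¹ = x⁻¹) {a : G} (ha : a ∈ Q) :
    ∃ r, r ^ 3 = 1 ∧ r ≠ 1 ∧ r * a = a * r := by
  obtain ⟨H, eH⟩ : ∃ H, H = Q ⊔ h.N0 := ⟨_, rfl⟩
  obtain ⟨π, p1, p2⟩ := h.exists_pi q ht eH
  have QH : Q ≤ H := eH ▸ le_sup_left
  have xH : x ∈ H := eH ▸ mem_sup_right (h.K_le (mc.2 rfl))
  have Hz : ∀ g : H, (g : G) * z = z * g := fun g => mc.1 (h.sup_le_H q (eH.le g.2))
  have NH : Q ⊔ zpowers x ≤ H := sup_le QH (zpowers_le.2 xH)
  have ek : π.ker = (Q ⊔ zpowers x).subgroupOf H := Subgroup.ext p2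
  have cQ' : Nat.card (Q.subgroupOf H) = 2 ^ 13 := by rw [Nat.card_congr (subgroupOfEquivOfLe QH).toEquiv, cQ]
  have A : H31.J4X.HD (⟨z, QH q.z_mem⟩ : H) ⟨x, xH⟩ (Q.subgroupOf H) π :=
    ⟨l.toES.subgroupOf QH, (normal_subgroupOf_iff_le_normalizer QH).2 fun g hg => q.norm g (Hz ⟨g, hg⟩),
      (l.subgroupOf QH).cent, cQ', by rw [← orderOf_coe, h.x3], p1, fun a ha => (p2 a).2 (mem_sup_left ha),
      (p2 _).2 (mem_sup_right (mem_zpowers x)),
      by rw [ek, Nat.card_congr (subgroupOfEquivOfLe NH).toEquiv, h.card_N q cQ],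
      fun a ha c => (h.fix q ha (congrArg Subtype.val c)).imp Subtype.ext Subtype.ext⟩
  obtain ⟨m, m1, m2, m3⟩ := A.exists_Md
  have mQ : m.Q = Q.subgroupOf H := by
    refine eq_of_le_of_card_ge (fun a ha => ?_) (by rw [cQ', m.card_Q]; norm_num)
    refine H66.J4.mem_of_card (le_sup_left : Q ≤ Q ⊔ zpowers x)
      (sup_le le_normalizer (zpowers_le.2 (q.norm x h.zx.symm))) (a := 3) (by rw [h.card_N q cQ, cQ])
      ((p2 a).1 (m3 ▸ m.π_Q ha)) (Nat.Coprime.coprime_dvd_left (orderOf_dvd_of_pow_eq_one (n := 4) ?_) (by norm_num))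
    exact congrArg Subtype.val (m.L3.pow_four ha)
  obtain ⟨v, hv, i, e⟩ := m.mem_Q.1 (mQ.ge (show (⟨a, QH ha⟩ : H) ∈ Q.subgroupOf H from ha))
  obtain ⟨r, -, kr, -, r3, -⟩ := m.exists_a3
  have key : ∀ n v, v < 4096 → H54.dig 4 DT v = n → ∃ r ∈ m.H, r ^ 3 = 1 ∧ r ≠ 1 ∧ r * m.s v = m.s v * r := fun n => by
    induction n using Nat.strong_induction_on with
    | _ n ih =>
    intro v hv e
    rcases DT_chk v hv with i | ⟨p, hp, i⟩
    · have e1 := kr.act0 hv (by rw [show out H96.Geo.M22.c3A = 0 by decide +kernel, zero_mul])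
      rw [i] at e1
      exact ⟨r, kr.memH, r3, fun e => absurd ((e ▸ kr).mat_unique m.KR_one) (by decide +kernel), cjc.1 e1⟩
    obtain ⟨r, r0, r1, r2, r3⟩ := ih _ (e ▸ i) _ (mv_lt _ _) rfl
    obtain ⟨g, g1, g2⟩ : ∃ g ∈ m.H, g * m.s v * g⁻¹ = m.s (mv p v) := by
      simp only [List.mem_cons, List.not_mem_nil, or_false] at hp
      rcases hp with rfl | rfl | rfl
      exacts [⟨_, m.KR_u.memH, m.u_s v hv⟩, ⟨_, m.KR_k.memH, m.k_s v hv⟩, ⟨_, m.ω_mem_H, m.ω_s v hv⟩]
    exact ⟨g⁻¹ * r * g, mul_mem (mul_mem (inv_mem g1) r0) g1, by simpa using cj_cube (s := g⁻¹) r1,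
      fun e => r2 (cj_one'.1 (by rwa [inv_inv])), conj_comm.1 (g2 ▸ r3)⟩
  obtain ⟨r, r0, r1, r2, r3⟩ := key _ v hv rfl
  exact ⟨r, congrArg Subtype.val r1, fun e => r2 (Subtype.ext e), congrArg Subtype.val (e.symm ▸
    ((show Commute r _ from r3).mul_right (m.zpow_comm r0 i)).eq : r * ⟨a, QH ha⟩ = ⟨a, QH ha⟩ * r)⟩

theorem Hw.sub {x z : G} {φ : G → Equiv.Perm GolayPt} (h : Hw x z φ) {H : Subgroup G} (l : centralizer {x} ≤ H) :
    Hw (⟨x, l (mc.2 rfl)⟩ : H) ⟨z, l (mc.2 h.zx)⟩ fun a => φ a where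
  x3 := by rw [← orderOf_coe, h.x3]
  zz := Subtype.ext h.zz
  zx := Subtype.ext h.zx
  zc k hk := Subtype.ext (h.zc k (congrArg Subtype.val hk))
  mul a b ha hb := h.mul a b (congrArg Subtype.val ha) (congrArg Subtype.val hb)
  mem a ha := h.mem a (congrArg Subtype.val ha)
  surj s hs := by
    obtain ⟨a, ha, e⟩ := h.surj s hs
    exact ⟨⟨a, l (mc.2 ha)⟩, Subtype.ext ha, e⟩
  ker a ha := by
    rw [h.ker a (congrArg Subtype.val ha)]
    exact ⟨fun ⟨n, e⟩ => ⟨n, Subtype.ext e⟩, fun ⟨n, e⟩ => ⟨n, congrArg Subtype.val e⟩⟩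
  perf := by
    have e : (centralizer ({⟨x, l (mc.2 rfl)⟩} : Set H)).map H.subtype = centralizer {x} :=
      le_antisymm (by rintro _ ⟨a, ha, rfl⟩; exact mc.2 (congrArg Subtype.val (mc.1 ha)))
        fun a ha => ⟨⟨a, l ha⟩, mc.2 (Subtype.ext (mc.1 ha)), rfl⟩
    rw [← map_le_map_iff_of_injective H.subtype_injective, map_commutator, e]
    exact h.perf

namespace Sq
variable {x z y c k s u : G} {φ : G → Equiv.Perm GolayPt} {Q : Subgroup G} (h : Sq x z φ y c k s u Q)
include h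

theorem KQ {g : G} (hg : g * x = x * g) : g ∈ normalizer (Q : Set G) := h.NQ (h.K_le (mc.2 hg))
theorem xQ : x ∉ Q := fun i => h.x1 ((T2.of_mem h.gd.two i).eq_one h.cube)
theorem uq {L : Subgroup G} (l : L ≤ centralizer {z}) (n : ∀ g, g * x = x * g → g ∈ normalizer (L : Set G))
    (hx : x ∉ L) : L ≤ Q := h.UQ h.z1 (m := 1) (by simp) h.gd h.zQ h.card (by simpa using h.KQ h.cy)
  (h.gd_of h.z1 l (n x rfl) (n y h.cy) (h.kerL n hx)) (by simpa using n y h.cy)

theorem cQ : centralizer (Q : Set G) ≤ Q := h.uq (fun _ hg => mc.2 (hg z h.zQ).symm)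
  (fun _ hg => normalizer_le_normalizer_centralizer _ (h.KQ hg)) fun i => by
    have := card_le_of_le (show Q ≤ zpowers z from fun g hg => h.gd.fix ⟨hg, mc.2 (i g hg)⟩)
    rw [h.card, Nat.card_zpowers, h.z2 h.z1] at this
    omega

theorem R32 : Nat.card ↥(Q ⊓ centralizer {y}) = 32 := by
  simpa using h.Q32 h.z1 (m := 1) (by simp) h.gd h.zQ h.card (by simpa using h.KQ h.cy) 1 (by simp)

theorem gdR : Gd y (z * c) (cj u (Q ⊓ centralizer {y})) ∧ cj u (Q ⊓ centralizer {y}) ≤ centralizer {x} := by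
  have := (h.gd.inf h.xy).cj u
  rw [h.ux, h.uz h.z1] at this
  refine ⟨this, (cj_mono u inf_le_right).trans ?_⟩
  rw [cj_cent, h.uy, cent_inv]

theorem nelem : ¬ ∀ a ∈ Q, a * a = 1 := fun i => by
  obtain ⟨g, l⟩ := h.gdR
  have := card_elem_M22 (E := h.bar (cj u (Q ⊓ centralizer {y}))) (fun s hs => by
    obtain ⟨a, -, i, rfl⟩ := h.mem_bar.1 hs
    exact h.mem a i) fun s hs => by
    obtain ⟨a, i1, i2, rfl⟩ := h.mem_bar.1 hs
    rw [← h.mul _ _ i2 i2, show a * a = 1 by simpa [mul_assoc] using cj_sq (s := u) (i _ (mem_cj.1 i1).1), h.φ_one]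
  rw [h.card_bar l fun a ha e => (h.kerT (mc.1 (l ha)) e (T2.of_mem g.two ha)).elim id fun j => by
    subst j
    rcases (mem_zpowers_iff_of_sq (h.F_sq' (h.D_le (mul_mem h.zD h.cD)))).1 (g.fix ⟨ha, mc.2 (h.zc y h.cy).symm⟩) with
      i | i
    exacts [i, absurd (mul_eq_left.1 i.symm) h.c1], card_cj, h.R32] at this
  omega

theorem loc : (∀ a ∈ Q, a * a ∈ zpowers z ∧ ∀ b ∈ Q, a * b * a⁻¹ * b⁻¹ ∈ zpowers z) ∧
    (∀ g ∈ normalizer (Q : Set G) ⊓ centralizer {z}, ∃ q ∈ Q, ∃ n ∈ h.N0, q * n = g) ∧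
    ∀ a ∈ Q, ∃ r ∈ normalizer (Q : Set G) ⊓ centralizer {z}, r ^ 3 = 1 ∧ r ≠ 1 ∧ r * a = a * r := by
  obtain ⟨H, eH⟩ : ∃ H, H = normalizer (Q : Set G) ⊓ centralizer {z} := ⟨_, rfl⟩
  rw [← eH]
  have NH : h.N0 ≤ H := fun n hn => eH ▸ ⟨h.NQ hn, mc.2 (h.norm_z hn)⟩
  have QH : Q ≤ H := eH ▸ le_inf le_normalizer h.gd.le
  have h1 := (h.sub (h.K_le.trans NH)).toHy fun e => h.z1 (congrArg Subtype.val e)
  have q : Qs (⟨z, NH (h.K_le (mc.2 h.zx))⟩ : H) (Q.subgroupOf H) := ⟨h.gd.two.comap_subtype,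
    fun a ha => Subtype.ext (mc.1 (h.gd.le ha)),
    fun g _ => mem_normalizer_of_finite fun a ha =>
      conj_mem_of_mem_normalizer (x := (a : G)) (mem_inf.1 (eH.le g.2)).1 ha,
    fun g _ i => h.cQ fun a ha => congrArg Subtype.val (i ⟨a, QH ha⟩ ha)⟩
  have cQ : Nat.card (Q.subgroupOf H) = 2 ^ 13 := by rw [Nat.card_congr (subgroupOfEquivOfLe QH).toEquiv, h.card]
  have c1 : (⟨y, NH (h.K_le (mc.2 h.cy))⟩ : H) * ⟨x, NH (h.K_le (mc.2 rfl))⟩ = ⟨x, NH (h.K_le (mc.2 rfl))⟩ *
    ⟨y, NH (h.K_le (mc.2 h.cy))⟩ := Subtype.ext h.cy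
  have c2 : (⟨y, NH (h.K_le (mc.2 h.cy))⟩ : H) ^ 3 = 1 := Subtype.ext h.y3
  have c3 : (⟨y, NH (h.K_le (mc.2 h.cy))⟩ : H) ∉ zpowers ⟨x, NH (h.K_le (mc.2 rfl))⟩ := fun ⟨n, e⟩ =>
    h.hy ⟨n, congrArg Subtype.val e⟩
  have l := l3' h1 q c1 c2 c3 cQ fun i => h.nelem fun a ha => congrArg Subtype.val (i ⟨a, QH ha⟩ ha)
  have ht : (⟨u * u, NH (Or.inr h.uu)⟩ : H) * ⟨x, NH (h.K_le (mc.2 rfl))⟩ * (⟨u * u, NH (Or.inr h.uu)⟩ : H)⁻¹ =
    (⟨x, NH (h.K_le (mc.2 rfl))⟩ : H)⁻¹ := Subtype.ext h.uu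
  have zp : ∀ a : H, a ∈ zpowers (⟨z, NH (h.K_le (mc.2 h.zx))⟩ : H) → (a : G) ∈ zpowers z := fun a ⟨n, e⟩ =>
    ⟨n, congrArg Subtype.val e⟩
  refine ⟨fun a ha => ?_, fun g hg => ?_, fun a ha => ?_⟩
  · have := comm_sq' h1 q c1 c2 c3 cQ ⟨a, QH ha⟩ ha
    exact ⟨zp _ this.1, fun b hb => zp _ (this.2 ⟨b, QH hb⟩ hb)⟩
  · obtain ⟨a, ha, n, hn, e⟩ := (mem_sup_iff_of_norm (h1.N0_le q)).1
      ((h1.cent_eq q l cQ ht).2.le (mc.2 (Subtype.ext (mc.1 (eH.le hg).2) : (⟨g, hg⟩ : H) * _ = _)))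
    exact ⟨a, ha, n, hn.imp (congrArg Subtype.val) (congrArg Subtype.val), congrArg Subtype.val e⟩
  · obtain ⟨r, r1, r2, r3⟩ := three_fix h1 q l cQ ht (a := ⟨a, QH ha⟩) ha
    exact ⟨r, r.2, congrArg Subtype.val r1, fun e => r2 (Subtype.ext e), congrArg Subtype.val r3⟩

end Sq

end H66.Sev
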