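import Cfsg.Agent.Lib.J4.Sev10

/-!
# An element of order three with centraliser `6·M22`: fusion in `C(z)`
-/

set_option autoImplicit false
set_option linter.unusedSectionVars false

namespace H66.Sev
open Cfsg H15 H95 H68 H75.J4 Subgroup H66.Six
open H2 (relCentralizer mem_relCentralizer le_relCentralizer_iff)
open scoped commutatorElement

variable {G : Type*} [Group G] [Finite G]

theorem cop3 {r v z : G} (r3 : r ^ 3 = 1) (zz : z * z = 1) (rz : r * z = z * r) (h : r * v * r⁻¹ * v⁻¹ ∈ zpowers z) :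
    r * v = v * r := by
  rcases (mem_zpowers_iff_of_sq zz).1 h with e | e
  · rwa [mul_inv_eq_one, cjc] at e
  have e1 := mul_inv_eq_iff_eq_mul.1 e
  have := cj3 (a := v) r3
  rw [e1, cjm r z v, cjc.2 rz, e1, ← mul_assoc z z, zz, one_mul] at this
  exact cjc.1 this

theorem rel2 {X Y : Subgroup G} (h : ∀ a ∈ X, ∀ b ∈ X, a ∉ Y → b ∉ Y → a * b ∈ Y) {t : G} (ht : t ∈ X) (nt : t ∉ Y) :
    Y.relIndex X = 2 := relIndex_eq_two_iff.2 ⟨t, ht, fun b hb => by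
  by_cases i : b ∈ Y
  exacts [Or.inr ⟨i, fun j => nt ((mul_mem_cancel_left i).1 j)⟩, Or.inl ⟨h b hb t ht i nt, i⟩]⟩

theorem card_rel (X Y : Subgroup G) : Nat.card X = Y.relIndex X * Nat.card ↥(Y ⊓ X) := by
  rw [← H1.card_subgroupOf_eq, relIndex, index_mul_card]

/-- commutators with `c` modulo `z` -/
def JJ {Q R : Subgroup G} {z c : G} (l : R ≤ Q) (cQ : c ∈ normalizer (Q : Set G)) (zQ : Q ≤ centralizer {z})
    (h : ∀ a ∈ Q, a * a ∈ zpowers z ∧ ∀ b ∈ Q, a * b * a⁻¹ * b⁻¹ ∈ zpowers z) : Subgroup G where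
  carrier := {g | ∃ p ∈ R, ∃ t ∈ zpowers z, g = p * (c * p⁻¹ * c⁻¹) * t}
  one_mem' := ⟨1, one_mem _, 1, one_mem _, by simp⟩
  mul_mem' := by
    rintro _ _ ⟨p, hp, t, ht, rfl⟩ ⟨p', hp', t', ht', rfl⟩
    have i1 := mul_mem (l hp) (conj_mem_of_mem_normalizer cQ (inv_mem (l hp)))
    have i2 := mul_mem (l hp') (conj_mem_of_mem_normalizer cQ (inv_mem (l hp')))
    have ce : ∀ t ∈ zpowers z, ∀ a ∈ Q, t * a = a * t := fun t ht a ha =>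
      mc.1 ((zpowers_le.2 (mc.2 (mc.1 (zQ ha)).symm) : _ ≤ centralizer {a}) ht)
    have i3 := (h _ (l hp')).2 _ i1
    refine ⟨p' * p, mul_mem hp' hp, _, mul_mem (mul_mem (inv_mem i3) ht) ht', ?_⟩
    rw [show p' * p * (c * (p' * p)⁻¹ * c⁻¹) = p' * (p * (c * p⁻¹ * c⁻¹)) * p'⁻¹ * (p * (c * p⁻¹ * c⁻¹))⁻¹ *
      (p * (c * p⁻¹ * c⁻¹) * (p' * (c * p'⁻¹ * c⁻¹))) by group, ce _ i3 _ (mul_mem i1 i2), mul_assoc _ t, ← mul_assoc t,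
      ce t ht _ i2]
    group
  inv_mem' := by
    rintro _ ⟨p, hp, t, ht, rfl⟩
    have i1 := mul_mem (l hp) (conj_mem_of_mem_normalizer cQ (inv_mem (l hp)))
    refine ⟨p, hp, _, mul_mem (inv_mem (h _ i1).1) (inv_mem ht), ?_⟩
    rw [← mc.1 ((zpowers_le.2 (mc.2 (mc.1 (zQ i1)).symm) : _ ≤ centralizer {_}) ht)]
    group

/-- `N(Q) ∩ C(z)` -/
abbrev HH (Q : Subgroup G) (z : G) : Subgroup G := normalizer (Q : Set G) ⊓ centralizer {z}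
/-- `Q C(x)` -/
abbrev KK (Q : Subgroup G) (x : G) : Subgroup G := Q ⊔ centralizer {x}

namespace Sq
variable {x z y c k s u : G} {φ : G → Equiv.Perm GolayPt} {Q : Subgroup G} (h : Sq x z φ y c k s u Q)
include h

local notation "ℋ" => HH Q z
local notation "𝒦" => KK Q x

theorem N1 {g : G} (hg : g ∈ h.N0) : g ∈ ℋ := ⟨h.NQ hg, mc.2 (h.norm_z hg)⟩
theorem K1 {g : G} (hg : g * x = x * g) : g ∈ ℋ := h.N1 (h.K_le (mc.2 hg))
theorem Q1 : Q ≤ ℋ := le_inf le_normalizer h.gd.le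
theorem QK1 : 𝒦 ≤ ℋ := sup_le h.Q1 fun _ hg => h.K1 (mc.1 hg)
theorem mem_QK {g : G} (hg : g ∈ 𝒦) : ∃ q ∈ Q, ∃ a, a * x = x * a ∧ q * a = g := by
  obtain ⟨q, hq, a, ha, e⟩ := (mem_sup_iff_of_norm fun _ hg => h.KQ (mc.1 hg)).1 hg
  exact ⟨q, hq, a, mc.1 ha, e⟩
theorem nQK {g : G} (hg : g ∈ ℋ) : g ∈ normalizer ((𝒦 : Subgroup G) : Set G) := by
  obtain ⟨q, hq, n, hn, rfl⟩ := h.loc.2.1 g hg
  exact mul_mem (le_normalizer (mem_sup_left hq))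
    (nsup (h.NQ hn) (mem_normalizer_of_finite fun a ha => mc.2 (h.conj_K' hn (mc.1 ha))))
theorem outer {g : G} (hg : g ∈ ℋ) (i : g ∉ 𝒦) : ∃ q ∈ Q, ∃ n, n * x * n⁻¹ = x⁻¹ ∧ q * n = g := by
  obtain ⟨q, hq, n, hn, rfl⟩ := h.loc.2.1 g hg
  exact ⟨q, hq, n, hn.resolve_left fun j => i (mul_mem_sup hq (mc.2 (cjc.1 j))), rfl⟩
theorem omul {a b : G} (ha : a ∈ ℋ) (hb : b ∈ ℋ) (i : a ∉ 𝒦) (j : b ∉ 𝒦) : a * b ∈ 𝒦 := by
  obtain ⟨q, hq, n, hn, rfl⟩ := h.outer ha i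
  obtain ⟨q', hq', n', hn', rfl⟩ := h.outer hb j
  rw [show q * n * (q' * n') = q * (n * q' * n⁻¹) * (n * n') by group]
  refine mul_mem_sup (mul_mem hq (conj_mem_of_mem_normalizer (h.NQ (Or.inr hn)) hq')) (mc.2 (cjc.1 ?_))
  rw [show n * n' * x * (n * n')⁻¹ = (n * (n' * x * n'⁻¹)⁻¹ * n⁻¹)⁻¹ by group, hn', inv_inv, hn, inv_inv]
theorem nin {n : G} (hn : n * x * n⁻¹ = x⁻¹) : n ∉ 𝒦 := fun i => by
  obtain ⟨q, hq, a, ha, rfl⟩ := h.mem_QK i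
  refine h.xQ ?_
  have e : q * x * q⁻¹ = x⁻¹ := by rw [← hn, mul_assoc q a, ha]; group
  have := mul_mem hq (conj_mem_of_mem_normalizer h.gd.nx (inv_mem hq))
  rwa [← mul_assoc, ← mul_assoc, e, ← mul_inv_rev, ← h.xinv, inv_inv] at this

theorem cls {b : G} (hb : b ∈ h.S) : ∃ r ∈ cj u (Q ⊓ centralizer {y}), r * y * r⁻¹ = b * y * b⁻¹ :=
  ((h.bd2 h.z1 h.gdR.1 h.gdR.2).2 (by rw [card_cj, h.R32])).2 b hb

theorem hw : ∃ ψ, Hw y (z * c) ψ := ⟨_, h.ux ▸ h.uz h.z1 ▸ h.conj u⟩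

theorem CY {g : G} (c1 : g * y = y * g) (c2 : g * z = z * g) : g ∈ ℋ := by
  obtain ⟨g', eg⟩ : ∃ g', g' = u * g * u⁻¹ := ⟨_, rfl⟩
  have d1 : g' * x = x * g' := by
    have : Commute g' x⁻¹ := by rw [eg, ← h.uy, Commute, SemiconjBy, ← cjm, ← cjm, c1]
    simpa using this.inv_right.eq
  have d2 : g' * (z * c) = z * c * g' := by rw [eg, ← h.uz h.z1, ← cjm, ← cjm, c2]
  have d3 := h.ccj d1 h.cy
  obtain ⟨e0, e1, e2⟩ : ∃ e0 ∈ EE x y, φ (g' * y * g'⁻¹ * e0⁻¹) ∈ Sb := by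
    rcases Sb_conjY (h.mem _ d1) (by rw [← h.φc, ← h.mul _ _ d1 h.cx, ← h.mul _ _ h.cx d1, h.wc d1 d2]) with i | i
    · exact ⟨y, h.yE, by rwa [h.mul _ _ d3 (h.cinv h.cy), h.φ_conj d1 h.cy, h.φ_inv h.cy, h.φy]⟩
    · exact ⟨y⁻¹, inv_mem h.yE, by
        rwa [h.mul _ _ d3 (h.cinv (h.cinv h.cy)), h.φ_conj d1 h.cy, h.φ_inv (h.cinv h.cy), h.φ_inv h.cy, h.φy]⟩
  obtain ⟨b0, b1, b2, b3⟩ := h.liftT (Sb_le e2) (T2.of_mem Sb_two e2)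
  obtain ⟨a, ha, e3⟩ := h.eq_mul (h.cmul d3 (h.cinv (h.cE e1).1)) b1 b2.symm
  obtain ⟨q1, q2⟩ := h.ker_dec ha
  have i1 := mul_mem (mem_sup_left q1 : _ ∈ EE x y) e1
  obtain ⟨b, hb, e4⟩ := conj3 (not3 h.two_S) (cj_cube (s := g') h.y3) (h.E3 i1) (h.ES i1) (by
    rw [mul_inv_rev, ← mul_assoc, e3, show b0 * a * (a ^ 4)⁻¹ = b0 * (a ^ 3)⁻¹ by group]
    exact mul_mem (h.mem_lf.2 ⟨b1, b2 ▸ e2, b3⟩) (inv_mem (h.F_le (h.D_le (zpowers_le.2 h.zD q2)))))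
  generalize a ^ 4 * e0 = e at i1 e4
  obtain ⟨ψ, hw⟩ := h.hw
  have h2 := hw.conj (b⁻¹ * g')
  rw [show b⁻¹ * g' * y * (b⁻¹ * g')⁻¹ = b⁻¹ * (g' * y * g'⁻¹) * b by group, e4, cjc.2
    ((show Commute b _ from h.Sw hb).inv_left.mul_left d2).eq, show b⁻¹ * (b * e * b⁻¹) * b = e by group] at h2
  obtain ⟨r, hr, e5⟩ := h.cls hb
  have i2 : u⁻¹ * y * u = x := by rw [← h.ux]; group
  have i3 : u⁻¹ * (r⁻¹ * g') * u ∈ h.N0 := by
    have : u⁻¹ * (r⁻¹ * g') * u * x * (u⁻¹ * (r⁻¹ * g') * u)⁻¹ = u⁻¹ * r⁻¹ * (b * e * b⁻¹) * r * u := by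
      rw [← e4, ← i2]; group
    refine (h.zline h.z1 h2 i1).imp (fun i => ?_) fun i => ?_ <;> rw [this, i]
    · rw [← e5, ← i2]; group
    · rw [show b * y⁻¹ * b⁻¹ = (b * y * b⁻¹)⁻¹ by group, ← e5, ← i2]; group
  have := mul_mem (h.Q1 (mem_cj.1 hr).1) (h.N1 i3)
  rwa [eg, show u⁻¹ * r * u * (u⁻¹ * (r⁻¹ * (u * g * u⁻¹)) * u) = g by group] at this

theorem rep {r : G} (hr : r ∈ ℋ) (r3 : r ^ 3 = 1) (r1 : r ≠ 1) :
    ∃ n ∈ ℋ, n * r * n⁻¹ = x ∨ n * r * n⁻¹ = x⁻¹ ∨ n * r * n⁻¹ = y := by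
  have := Fact.mk Nat.prime_three
  obtain ⟨P, p1, p2, p3, -⟩ := h.exists_P rfl h.cube
  have hP : SylowIn 3 P (ℋ) := ⟨fun g hg => h.K1 (mc.1 (p1 hg)),
    IsPGroup.of_card (n := 3) p2, fun Q hQ l _ => h.eq_of_le p1 p2 p3 hQ l⟩
  obtain ⟨n, hn, l⟩ := hP.exists_cj_le (isPGroup_zpowers (k := 1) r3) (zpowers_le.2 hr)
  have c1 := mc.1 (p1 (l (conj_mem_cj.2 (mem_zpowers r))))
  by_cases e : φ (n * r * n⁻¹) = 1
  · rcases zp3 h.cube (h.ker_three c1 e (cj_cube r3)) with i | i | i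
    exacts [absurd (cj_one'.1 i) r1, ⟨n, hn, Or.inl i⟩, ⟨n, hn, Or.inr (Or.inl i)⟩]
  · obtain ⟨a, a1, a2⟩ := h.conjY c1 (cj_cube r3) e
    exact ⟨a⁻¹ * n, mul_mem (inv_mem (h.K1 a1)) hn, Or.inr (Or.inr (by
      rw [show a⁻¹ * n * r * (a⁻¹ * n)⁻¹ = a⁻¹ * (n * r * n⁻¹) * a by group, ← a2]; group))⟩

theorem SE {r g : G} (hr : r ∈ ℋ) (r3 : r ^ 3 = 1) (r1 : r ≠ 1) (hg : g * z = z * g) (i : g * r * g⁻¹ ∈ ℋ) : g ∈ ℋ := by
  obtain ⟨n, hn, e⟩ := h.rep hr r3 r1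
  obtain ⟨m, hm, e'⟩ := h.rep i (cj_cube r3) fun j => r1 (cj_one'.1 j)
  have gz : m * g * n⁻¹ * z = z * (m * g * n⁻¹) := mc.1 (mul_mem (mul_mem hm.2 (mc.2 hg)) (inv_mem hn.2))
  rw [show m * (g * r * g⁻¹) * m⁻¹ = m * g * n⁻¹ * (n * r * n⁻¹) * (m * g * n⁻¹)⁻¹ by group] at e'
  rw [← mul_mem_cancel_left hm, ← mul_mem_cancel_right (inv_mem hn)]
  generalize m * g * n⁻¹ = t at gz e'
  obtain ⟨ψ, hw⟩ := h.hw
  have k1 : ∀ t, t * z = z * t → t * x * t⁻¹ ≠ y ∧ t * x⁻¹ * t⁻¹ ≠ y := fun t tz => ⟨fun e => by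
    have := h.conj t
    rw [e, cjc.2 tz] at this
    exact h.c1 (mul_eq_left.1 (hw.zuniq this)), fun e => by
    have := h.toHw.inv.conj t
    rw [e, cjc.2 tz] at this
    exact h.c1 (mul_eq_left.1 (hw.zuniq this))⟩
  have k2 := k1 _ (show Commute t z from gz).inv_left.eq
  have k3 : t * x⁻¹ * t⁻¹ = (t * x * t⁻¹)⁻¹ := by group
  rcases e with e | e | e <;> rw [e] at e' <;> rcases e' with e' | e' | e'
  exacts [h.N1 (Or.inl e'), h.N1 (Or.inr e'), absurd e' (k1 t gz).1, 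
    h.N1 (Or.inr (inv_injective (by rw [← k3, e', inv_inv]))),
    h.N1 (Or.inl (inv_injective (k3 ▸ e'))), absurd e' (k1 t gz).2, absurd (by rw [← e']; group) k2.1,
    absurd (by rw [← e']; group) k2.2, h.CY (cjc.1 e') gz]

theorem FC {a g r r' : G} (hr : r ∈ ℋ) (r3 : r ^ 3 = 1) (r1 : r ≠ 1) (ra : r * a = a * r) (hg : g * z = z * g)
    (hr' : r' ∈ ℋ) (r3' : r' ^ 3 = 1) (r1' : r' ≠ 1) (ra' : r' * (g * a * g⁻¹) = g * a * g⁻¹ * r') :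
    ∃ n ∈ ℋ, n * a * n⁻¹ = g * a * g⁻¹ := by
  have := Fact.mk Nat.prime_three
  obtain ⟨P, hP, l⟩ := exists_sylowIn_ge (H := centralizer {g * a * g⁻¹} ⊓ centralizer {z}) 
    (isPGroup_zpowers (p := 3) (k := 1) r3')
    (zpowers_le.2 ⟨mc.2 ra', hr'.2⟩)
  have PH : P ≤ ℋ := by
    by_contra hn
    obtain ⟨n, n1, n2, n3⟩ := exists_mem_normalizer_of_lt hP.isPGroup (inf_lt_left.2 hn)
    exact n2 ⟨n1, h.SE hr' r3' r1' (mc.1 (hP.le n1).2) (conj_mem_of_mem_normalizer n3 ⟨l (mem_zpowers _), hr'⟩).2⟩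
  obtain ⟨m, hm, l2⟩ := hP.exists_cj_le (isPGroup_zpowers (k := 1) (cj_cube (s := g) r3))
    (zpowers_le.2 ⟨mc.2 (by rw [← cjm, ← cjm, ra]), 
      conj_mem_of_mem_normalizer (nce hg) (mem_inf.1 hr).2⟩)
  refine ⟨m * g, h.SE hr r3 r1 (mc.1 (mul_mem hm.2 (mc.2 hg))) ?_, ?_⟩
  · simpa [mul_assoc] using PH (l2 (conj_mem_cj.2 (mem_zpowers _)))
  · rw [← cjc.2 (mc.1 hm.1)]; group

theorem ntr {m : G} (hm : m = s ∨ m = s * s) : ∃ p ∈ Q ⊓ centralizer {m * y * m⁻¹}, p * (c * p⁻¹ * c⁻¹) ∉ zpowers z := by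
  obtain ⟨d, d1, d2, j, d3, d4⟩ : ∃ d ∈ h.D, m * d * m⁻¹ = c ∧ ∃ j, (j = 4 ∨ j = 5) ∧ φ d = FF j := by
    rcases hm with rfl | rfl
    exacts [⟨_, mul_mem h.cD h.c2D, h.sc3, 5, by simp, h.φc3⟩, ⟨_, h.c2D, by
      nth_rewrite 2 [← cj3 (a := c) h.s3]; group, 4, by simp, h.φc2⟩]
  have mx : m * x = x * m := by
    rcases hm with rfl | rfl
    exacts [h.sx, h.cmul h.sx h.sx]
  have ud : u * d * u⁻¹ = d := by
    have i1 : Commute u c := h.uc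
    have i2 : Commute u (s * c * s⁻¹) := h.uc2
    rw [cjc, show d = m⁻¹ * c * m by rw [← d2]; group]
    rcases hm with rfl | rfl
    · rw [show m⁻¹ * c * m = c * (m * c * m⁻¹) by nth_rewrite 1 [← h.sc3]; group]; exact (i1.mul_right i2).eq
    · rw [show (s * s)⁻¹ * c * (s * s) = s * c * s⁻¹ by nth_rewrite 1 [← cj3 (a := c) h.s3]; group]; exact i2.eq
  obtain ⟨b, i1, i2, i3⟩ := h.liftT (Sb_le B_facts.1) (T2.of_mem Sb_two B_facts.1)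
  have hb : b ∈ h.S := h.mem_lf.2 ⟨i1, i2 ▸ B_facts.1, i3⟩
  obtain ⟨r, hr, e⟩ := h.cls hb
  have rS := h.bd1 h.gdR.1.two h.gdR.2 h.gdR.1.le h.gdR.1.nx hr
  have δ := mul_mem (inv_mem rS) hb
  have e2 := h.F_comm (h.D_le (h.mem_D.2 ⟨h.Sx δ, cjc.1 (by
    rw [show r⁻¹ * b * y * (r⁻¹ * b)⁻¹ = r⁻¹ * (b * y * b⁻¹) * r by group, ← e]; group), T2.of_mem h.two_S δ⟩)) (h.D_le d1)
  have dx := (h.mem_D.1 d1).1
  refine ⟨m * (u⁻¹ * r * u) * m⁻¹, ⟨conj_mem_of_mem_normalizer (h.KQ mx) (mem_cj.1 hr).1,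
    (cj_cent m y).le (conj_mem_cj.2 (mem_cj.1 hr).2)⟩, fun i => ?_⟩
  have i4 : b * d * b⁻¹ * d⁻¹ ∈ zpowers (z * c) := by
    rw [← h.cjz mx, ← cj_zp, ← d2, show m * (u⁻¹ * r * u) * m⁻¹ * (m * d * m⁻¹ * (m * (u⁻¹ * r * u) * m⁻¹)⁻¹ *
      (m * d * m⁻¹)⁻¹) = m * (u⁻¹ * (r * (u * d * u⁻¹) * r⁻¹ * (u * d * u⁻¹)⁻¹) * u) * m⁻¹ by group,
      conj_mem_cj, ud, ← mem_cj, cj_zp, h.uz h.z1] at i
    rwa [show b * d * b⁻¹ = r * (r⁻¹ * b * d) * b⁻¹ by group, e2, show r * (d * (r⁻¹ * b)) * b⁻¹ = r * d * r⁻¹ by group]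
  have i5 : φ (b * d * b⁻¹ * d⁻¹) = B0 * FF j * B0⁻¹ * (FF j)⁻¹ := by
    rw [h.mul _ _ (h.ccj i1 dx) (h.cinv dx), h.φ_conj i1 dx, h.φ_inv dx, i2, d4]
  rcases (mem_zpowers_iff_of_sq (h.F_sq' (h.D_le (mul_mem h.zD h.cD)))).1 i4 with l | l <;> rw [l] at i5
  · rw [h.φ_one, eq_comm, mul_inv_eq_one, cjc] at i5
    exact (B4 d3).1 i5
  · rw [h.φz_mul h.cx, h.φc, eq_comm, mul_inv_eq_iff_eq_mul, mul_inv_eq_iff_eq_mul] at i5
    exact (B4 d3).2 i5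

theorem CM0 {q : G} (hq : q ∈ Q) (e : q * c * (q * c) ∈ zpowers z) : ∃ p ∈ Q, p * y * p⁻¹ * (q * c) = q * c * (p * y * p⁻¹) := by
  have := Fact.mk Nat.prime_three
  have := Fact.mk Nat.prime_two
  have cQ := h.KQ h.cx
  have lz := h.loc.1
  have ci := inv_eq_of_mul_eq_one_right h.cc
  have ce : ∀ t ∈ zpowers z, ∀ a, a * z = z * a → a * t = t * a := fun t ht a ha =>
    (mc.1 ((zpowers_le.2 (mc.2 ha.symm) : _ ≤ centralizer {a}) ht)).symm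
  have zQ : zpowers z ≤ Q := zpowers_le.2 h.zQ
  have Qz : ∀ a ∈ Q, a * z = z * a := fun a ha => mc.1 (h.gd.le ha)
  obtain ⟨X, eX⟩ : ∃ X, X = Q ⊓ relCentralizer (zpowers c) (zpowers z) := ⟨_, rfl⟩
  have mX : ∀ g, g ∈ X ↔ g ∈ Q ∧ g * (c * g⁻¹ * c⁻¹) ∈ zpowers z := fun g => by
    rw [eX]
    refine ⟨fun i => ⟨i.1, by simpa [commutatorElement_def, mul_assoc] using i.2.2 c (mem_zpowers c)⟩,
      fun i => ⟨i.1, nzp (Qz g i.1), fun t ht => ?_⟩⟩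
    rcases (mem_zpowers_iff_of_sq h.cc).1 ht with rfl | rfl
    exacts [by simp, by simpa [commutatorElement_def, mul_assoc] using i.2]
  have nX : ∀ g ∈ EE x y, g ∈ normalizer (X : Set G) := fun g hg => eX ▸ ninf (h.KQ (h.cE hg).1)
    (rc_norm (nzp (mem_YY.1 (h.EY hg)).1) (nzp (h.zc g (h.cE hg).1)))
  have XQ : X ≤ Q := eX ▸ inf_le_left
  have JQ : ∀ R (l : R ≤ Q), JJ l cQ h.gd.le lz ≤ Q := by
    rintro R l _ ⟨p, hp, t, ht, rfl⟩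
    exact mul_mem (mul_mem (l hp) (conj_mem_of_mem_normalizer cQ (inv_mem (l hp)))) (zQ ht)
  have zJ : ∀ R (l : R ≤ Q), zpowers z ≤ JJ l cQ h.gd.le lz := fun R l t ht => ⟨1, one_mem _, t, ht, by simp⟩
  have cd : ∀ Y ≤ Q, zpowers z ≤ Y → x ∈ normalizer (Y : Set G) → ∃ n, Nat.card Y = 2 ^ n ∧ n % 2 = 1 := fun Y l1 l2 n => by
    obtain ⟨m, hm⟩ := (h.gd.two.to_le l1).exists_card_eq
    have := H4.card_modEq_card_inf_centralizer (q := 3) n (k := 1) h.cube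
    rw [(h.fixz h.z1 ⟨h.gd.two.to_le l1, l1.trans h.gd.le, n, (inf_le_inf_right _ l1).trans h.gd.fix⟩
      (l2 (mem_zpowers z)) rfl).1, hm, ← Nat.div_add_mod m 2, pow_add, pow_mul] at this
    refine ⟨m, hm, (Nat.mod_two_eq_zero_or_one m).resolve_left fun e => ?_⟩
    rw [e] at this
    exact absurd ((((show 2 ^ 2 ≡ 1 [MOD 3] by decide).pow _).mul_right _).symm.trans this) (by simp; decide)
  have key : ∀ m, m = s ∨ m = s * s → m * y * m⁻¹ ∈ EE x y →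
      X ⊓ centralizer {m * y * m⁻¹} ≤ JJ le_rfl cQ h.gd.le lz ⊔ Q ⊓ centralizer {y} := fun m hm he => by
    obtain ⟨p, hp, np⟩ := h.ntr hm
    have c32 := h.Q32 h.z1 (m := 1) (by simp) h.gd h.zQ h.card (by simpa using h.KQ h.cy) m (by simpa using Or.inr hm)
    generalize m * y * m⁻¹ = e at he hp c32
    have ec : c * e = e * c := (mem_YY.1 (h.EY he)).1.symm
    have ze : zpowers z ≤ centralizer {e} := zpowers_le.2 (mc.2 (h.zc e (h.cE he).1).symm)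
    have l1 : JJ (inf_le_left : Q ⊓ centralizer {e} ≤ Q) cQ h.gd.le lz ≤ X ⊓ centralizer {e} := by
      rintro _ ⟨p, hp, t, ht, rfl⟩
      have j1 := conj_mem_of_mem_normalizer cQ (inv_mem hp.1)
      refine ⟨mul_mem ((mX _).2 ⟨mul_mem hp.1 j1, ?_⟩) ((mX _).2 ⟨zQ ht, ?_⟩),
        mul_mem (mul_mem hp.2 (conj_mem_of_mem_normalizer (nce ec) (inv_mem hp.2))) (ze ht)⟩
      · rw [show p * (c * p⁻¹ * c⁻¹) * (c * (p * (c * p⁻¹ * c⁻¹))⁻¹ * c⁻¹) = p * (c * p⁻¹ * c⁻¹) * (c * c * p * (c * c)⁻¹) *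
          (c * p⁻¹ * c⁻¹) by group, h.cc, one_mul, inv_one, mul_one]
        have := mul_mem ((lz _ hp.1).2 _ j1) (mul_mem (conj_mem_of_mem_normalizer (nzp (Qz _ j1)) (lz _ hp.1).1) (lz _ j1).1)
        convert this using 1
        group
      · rw [cjc.2 (ce _ (inv_mem ht) c (h.zc c h.cx))]; simp
    obtain ⟨a, a1, a2⟩ := cd _ (JQ _ inf_le_left) (zJ _ inf_le_left) (mem_normalizer_of_finite (by
      rintro _ ⟨p, hp, t, ht, rfl⟩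
      refine ⟨x * p * x⁻¹, conj_mem_of_mem_normalizer (ninf h.gd.nx (nce (h.cE he).1.symm)) hp, t, ht, ?_⟩
      rw [cjm, cjc.2 (ce t ht x h.zx.symm)]
      nth_rewrite 3 4 [← cjc.2 h.cx.symm]
      group))
    obtain ⟨b, b1, b2⟩ := cd _ (inf_le_left.trans XQ) (le_inf (fun t ht => (mX t).2 ⟨zQ ht, by
      rw [cjc.2 (ce _ (inv_mem ht) c (h.zc c h.cx))]; simp⟩) ze) (ninf (nX x h.xE) (nce (h.cE he).1.symm))
    have b3 : Nat.card ↥(X ⊓ centralizer {e}) < 32 := c32 ▸ lt_of_le_of_ne (card_le_of_le (inf_le_inf_right _ XQ)) fun i =>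
      np ((mX p).1 ((eq_of_le_of_card_ge (inf_le_inf_right _ XQ) i.ge).ge hp).1).2
    have a3 : 2 < Nat.card (JJ (inf_le_left : Q ⊓ centralizer {e} ≤ Q) cQ h.gd.le lz) := by
      by_contra i
      exact np ((eq_of_le_of_card_ge (zJ _ inf_le_left) (by rw [Nat.card_zpowers, h.z2 h.z1]; omega)).ge
        ⟨p, hp, 1, one_mem _, (mul_one _).symm⟩)
    rw [b1, show 32 = 2 ^ 5 from rfl, Nat.pow_lt_pow_iff_right (by norm_num)] at b3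
    rw [a1, show 2 < 2 ^ a ↔ 2 ^ 1 < 2 ^ a from Iff.rfl, Nat.pow_lt_pow_iff_right (by norm_num)] at a3
    refine (eq_of_le_of_card_ge l1 (by rw [a1, b1]; exact Nat.pow_le_pow_right (by norm_num) (by omega))).ge.trans
      (le_sup_left.trans' ?_)
    rintro _ ⟨p, hp, t, ht, rfl⟩
    exact ⟨p, hp.1, t, ht, rfl⟩
  have fin := gen4 h.x3 h.y3 h.xy h.hy (not3 (h.gd.two.to_le XQ)) (nX x h.xE) (nX y h.yE)
    (((inf_le_inf_right _ XQ).trans h.gd.fix).trans ((zJ _ le_rfl).trans le_sup_left))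
    ((inf_le_inf_right _ XQ).trans le_sup_right) (h.sy ▸ key s (by simp) (h.sy ▸ h.xyE)) (by
      have := key (s * s) (by simp)
      rw [show s * s * y * (s * s)⁻¹ = s * (s * y * s⁻¹) * s⁻¹ by group, h.sy, h.sxy] at this
      exact this h.x2yE) ((mX q).2 ⟨hq, by
      have := mul_mem e (inv_mem (conj_mem_of_mem_normalizer (nzp (h.zc c h.cx)) (lz q hq).1))
      nth_rewrite 2 [← ci] at this
      convert this using 1
      group⟩)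
  obtain ⟨_, ⟨p, hp, t, ht, rfl⟩, r, hr, rfl⟩ := (mem_sup_iff_of_norm fun g hg => mem_normalizer_of_finite fun a ha => by
    simpa [mul_assoc] using mul_mem (zJ _ le_rfl ((lz g hg.1).2 a (JQ _ le_rfl ha))) ha).1 fin
  have j1 := conj_mem_of_mem_normalizer cQ (inv_mem hp)
  refine ⟨p, hp, (conj_comm.2 ?_).symm⟩
  have j2 := (lz _ j1).2 r hr.1
  rw [show p⁻¹ * (p * (c * p⁻¹ * c⁻¹) * t * r * c) * p = c * p⁻¹ * c⁻¹ * t * (c * p⁻¹ * c⁻¹)⁻¹ *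
    (c * p⁻¹ * c⁻¹ * r * (c * p⁻¹ * c⁻¹)⁻¹ * r⁻¹) * r * c by group, cjc.2 (ce t ht _ (Qz _ j1))]
  exact ((((show Commute y t from ce t ht y (h.zc y h.cy)).mul_right (ce _ j2 y (h.zc y h.cy))).mul_right
    (mc.1 hr.2).symm).mul_right h.yc).symm.eq

theorem CM {a : G} (ha : a ∈ 𝒦) (e : a * a ∈ zpowers z) : ∃ r ∈ ℋ, r ^ 3 = 1 ∧ r ≠ 1 ∧ r * a = a * r := by
  obtain ⟨q, hq, b, hb, rfl⟩ := h.mem_QK ha
  have i : b * b ∈ zpowers z := h.gd.fix ⟨by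
    have := mul_mem (inv_mem (mul_mem hq (conj_mem_of_mem_normalizer (h.KQ hb) hq))) (zpowers_le.2 h.zQ e)
    rwa [show (q * (b * q * b⁻¹))⁻¹ * (q * b * (q * b)) = b * b by group] at this, mc.2 (h.cmul hb hb)⟩
  have t : T2 b := T2.of_pow (n := 1) (by
    rw [pow_one, pow_two]; exact T2.of_mem (isPGroup_zpowers (k := 1) (by rw [pow_one, pow_two, h.zz])) i)
  by_cases b1 : φ b = 1
  · refine h.loc.2.2 _ (mul_mem hq ?_)
    rcases h.kerT hb b1 t with rfl | rfl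
    exacts [one_mem _, h.zQ]
  obtain ⟨-, m, hm, i2⟩ := M22_invol (h.mem b hb) b1 (by
    rw [← h.mul _ _ hb hb]
    rcases h.mz.1 i with j | j <;> rw [j]
    exacts [h.φ_one, h.φ_z])
  obtain ⟨l, l1, rfl⟩ := h.surj m hm
  obtain ⟨q', hq', e'⟩ : ∃ q' ∈ Q, q * b = l * (q' * c) * l⁻¹ := by
    have j := conj_mem_of_mem_normalizer' (h.KQ l1) hq
    rcases h.eqT hb (h.ccj l1 h.cx) (by rw [h.φ_conj l1 h.cx, h.φc, ← i2, ← PA_one]) t (T2.of_sq (cj_sq h.cc)) with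
      rfl | rfl
    · exact ⟨_, j, by group⟩
    · exact ⟨_, mul_mem j h.zQ, by rw [mul_assoc l c, mul_assoc l, h.zc _ (h.cmul h.cx (h.cinv l1))]; group⟩
  rw [e'] at e ⊢
  obtain ⟨p, hp, e2⟩ := h.CM0 hq' (by
    rw [← cjm] at e
    simpa [mul_assoc] using conj_mem_of_mem_normalizer' (nzp (h.zc l l1)) e)
  exact ⟨l * (p * y * p⁻¹) * l⁻¹, conj_mem_of_mem_normalizer (le_normalizer (h.K1 l1))
    (conj_mem_of_mem_normalizer (le_normalizer (h.Q1 hp)) (h.K1 h.cy)), cj_cube (cj_cube h.y3),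
    fun j => h.hy (cj_one'.1 (cj_one'.1 j) ▸ one_mem _), by rw [← cjm, ← cjm, e2]⟩

theorem FQ {a g : G} (ha : a ∈ Q) (hg : g * z = z * g) (i : g * a * g⁻¹ ∈ 𝒦) : g * a * g⁻¹ ∈ Q := by
  obtain ⟨r, r0, r1, r2, r3⟩ := h.loc.2.2 a ha
  obtain ⟨r', s0, s1, s2, s3⟩ := h.CM i (by rw [← cjm]; exact conj_mem_of_mem_normalizer (nzp hg) (h.loc.1 a ha).1)
  obtain ⟨n, hn, e⟩ := h.FC r0 r1 r2 r3 hg s0 s1 s2 s3
  exact e ▸ conj_mem_of_mem_normalizer hn.1 ha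

theorem syl {T : Subgroup G} (hT : SylowIn 2 T (ℋ)) (l : Q ≤ T) : SylowIn 2 T (centralizer {z}) := by
  have := Fact.mk Nat.prime_two
  refine ⟨hT.le.trans inf_le_right, hT.isPGroup, fun P hP l1 l2 => ?_⟩
  by_contra ne
  obtain ⟨n, n1, n2, n3⟩ := exists_mem_normalizer_of_lt hP (lt_of_le_of_ne l1 (Ne.symm ne))
  have nz := mc.1 (l2 n1)
  have l3 : cj n Q ≤ ℋ := (cj_mono n l).trans ((cj_eq_of_mem_normalizer n3).le.trans hT.le)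
  have fq : ∀ a ∈ cj n Q, a ∈ 𝒦 → a ∈ Q := fun a ha i => by
    simpa [mul_assoc] using h.FQ (mem_cj.1 ha) nz (by simpa [mul_assoc] using i)
  obtain ⟨t, t1, t2⟩ : ∃ t ∈ cj n Q, t ∉ 𝒦 := by
    by_contra hn
    push Not at hn
    exact n2 ((hT.eq_of_le (hP.to_inf_left (K := ℋ)) (le_inf l1 hT.le) inf_le_right).le
      ⟨n1, mem_normalizer_of_cj_le fun a ha => fq a ha (hn a ha), l2 n1⟩)
  obtain ⟨B, eB⟩ : ∃ B, B = 𝒦 ⊓ cj n Q := ⟨_, rfl⟩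
  have BQ : B ≤ Q := fun a ha => fq a (eB.le ha).2 (eB.le ha).1
  have c1 := card_rel (cj n Q) (𝒦)
  rw [rel2 (fun a ha b hb => h.omul (l3 ha) (l3 hb)) t1 t2, card_cj, h.card, ← eB] at c1
  have BQ' : cj x B ≤ Q := (cj_mono x BQ).trans (cj_eq_of_mem_normalizer h.gd.nx).le
  have c2 := card_rel Q (cj x B)
  rw [inf_eq_left.2 BQ', card_cj, h.card] at c2
  have c3 := card_rel B (cj x B)
  have c4 : (cj x B).relIndex B ≤ (cj x B).relIndex Q := relIndex_le_of_le_right BQ (by rintro e; simp [e] at c2)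
  have tB : ∀ v ∈ B, ⁅t, v⁆ ∈ zpowers z := fun v hv => by
    have := conj_mem_of_mem_normalizer (nzp nz) ((h.loc.1 _ (mem_cj.1 t1)).2 _ (mem_cj.1 (eB.le hv).2))
    rw [commutatorElement_def]
    convert this using 1
    group
  have tz := mc.1 (l3 t1).2
  have i1 : t ∈ relCentralizer (cj x B ⊓ B) (zpowers z) := ⟨nzp tz, fun v hv => tB v hv.2⟩
  have i2 : x * t * x⁻¹ ∈ relCentralizer (cj x B ⊓ B) (zpowers z) :=
    ⟨conj_mem_of_mem_normalizer (le_normalizer (nzp h.zx.symm)) (nzp tz), fun v hv => by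
      have := conj_mem_of_mem_normalizer (nzp h.zx.symm) (tB _ (mem_cj.1 hv.1))
      rw [commutatorElement_def] at this ⊢
      convert this using 1
      group⟩
  have i3 : Q ≤ relCentralizer (cj x B ⊓ B) (zpowers z) := fun g hg =>
    ⟨nzp (mc.1 (h.gd.le hg)), fun v hv => (h.loc.1 g hg).2 v (BQ hv.2)⟩
  obtain ⟨q, hq, m, hm, rfl⟩ := h.outer (l3 t1) t2
  have i4 : m ∈ relCentralizer (cj x B ⊓ B) (zpowers z) := (mul_mem_cancel_left (i3 hq)).1 i1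
  rw [cjm] at i2
  have i5 := mul_mem ((mul_mem_cancel_left (i3 (conj_mem_of_mem_normalizer h.gd.nx hq))).1 i2) (inv_mem i4)
  rw [show x * m * x⁻¹ * m⁻¹ = x * (m * x * m⁻¹)⁻¹ by group, hm, inv_inv, ← h.xinv, inv_mem_iff] at i5
  have c5 := card_le_of_le (show cj x B ⊓ B ≤ zpowers z from fun v hv =>
    h.gd.fix ⟨BQ hv.2, mc.2 (cop3 h.cube h.zz h.zx.symm (i5.2 v hv)).symm⟩)
  rw [Nat.card_zpowers, h.z2 h.z1] at c5
  have c6 : (cj x B).relIndex Q = 2 := by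
    have : Nat.card B = 2 ^ 12 := by omega
    rw [this] at c2
    omega
  have := Nat.mul_le_mul c4 c5
  omega

end Sq

end H66.Sev
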