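import Cfsg.Agent.Lib.J4.Sev1

/-!
# An element of order three with centraliser `3·M22` or `6·M22`: the `3`-local facts
-/

set_option autoImplicit false
set_option linter.unusedSectionVars false

namespace H66.Sev
open Cfsg H15 H95 H68 H75.J4 Subgroup H66.Six
open scoped commutatorElement

variable {G : Type*} [Group G]

/-- `C(x)` is a perfect central extension of `M22` by `⟨x z⟩` with `z² = 1`, `φ` is the projection -/
structure Hw (x z : G) (φ : G → Equiv.Perm GolayPt) : Prop where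
  x3 : orderOf x = 3
  zz : z * z = 1
  zx : z * x = x * z
  zc : ∀ k, k * x = x * k → k * z = z * k
  mul : ∀ a b, a * x = x * a → b * x = x * b → φ (a * b) = φ a * φ b
  mem : ∀ a, a * x = x * a → φ a ∈ Spor.M22
  surj : ∀ s ∈ Spor.M22, ∃ a, a * x = x * a ∧ φ a = s
  ker : ∀ a, a * x = x * a → (φ a = 1 ↔ a ∈ zpowers (x * z))
  perf : centralizer {x} ≤ ⁅centralizer ({x} : Set G), centralizer ({x} : Set G)⁆

theorem ofHy {x z : G} {φ : G → Equiv.Perm GolayPt} (h : Hy x z φ) : Hw x z φ :=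
  ⟨h.x3, h.zz, h.zx, h.zc, h.mul, h.mem, h.surj, h.ker, h.perf⟩

namespace Hw
variable {x z : G} {φ : G → Equiv.Perm GolayPt} (h : Hw x z φ)
include h

theorem toHy (z1 : z ≠ 1) : Hy x z φ :=
  ⟨h.x3, orderOf_eq_prime (by rw [pow_two, h.zz]) z1, h.zx, h.zc, h.mul, h.mem, h.surj, h.ker, h.perf⟩

theorem cube : x ^ 3 = 1 := by rw [← h.x3, pow_orderOf_eq_one]
theorem x1 : x ≠ 1 := fun c => by have := h.x3; rw [c, orderOf_one] at this; omega
theorem xinv : x⁻¹ = x * x := inv_eq_of_mul_eq_one_right (by rw [← h.cube, pow_three])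
theorem x_ne_inv : x ≠ x⁻¹ := fun c => h.x1 (by
  have := h.xinv
  rw [← c] at this
  exact (mul_eq_left.1 this.symm))
theorem oz : orderOf z = 1 ∨ orderOf z = 2 :=
  (Nat.dvd_prime Nat.prime_two).1 (orderOf_dvd_of_pow_eq_one (by rw [pow_two, h.zz]))
theorem mz {a : G} : a ∈ zpowers z ↔ a = 1 ∨ a = z := mem_zpowers_iff_of_sq h.zz

theorem conj (g : G) : Hw (g * x * g⁻¹) (g * z * g⁻¹) fun a => φ (g⁻¹ * a * g) where
  x3 := by rw [← h.x3]; exact orderOf_injective (MulAut.conj g).toMonoidHom (MulAut.conj g).injective x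
  zz := by rw [show g * z * g⁻¹ * (g * z * g⁻¹) = g * (z * z) * g⁻¹ by group, h.zz]; simp
  zx := conj_comm.2 (by simpa [mul_assoc] using h.zx)
  zc k hk := conj_comm.2 (h.zc _ (conj_comm.1 hk))
  mul a b ha hb := by
    rw [← h.mul _ _ (conj_comm.1 ha) (conj_comm.1 hb)]; congr 1; group
  mem a ha := h.mem _ (conj_comm.1 ha)
  surj s hs := by
    obtain ⟨a, ha, e⟩ := h.surj s hs
    exact ⟨g * a * g⁻¹, conj_comm.2 (by simpa [mul_assoc] using ha), by simpa [mul_assoc] using e⟩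
  ker a ha := by
    rw [h.ker _ (conj_comm.1 ha), ← H95.mem_map_conj, MonoidHom.map_zpowers]
    simp
  perf := by
    rw [cent_conj, ← map_commutator]
    exact map_mono h.perf

/-- the projection as a homomorphism -/
def φh : centralizer ({x} : Set G) →* Equiv.Perm GolayPt :=
  MonoidHom.mk' (fun a => φ a) fun a b => h.mul a b (mc.1 a.2) (mc.1 b.2)

theorem φh_apply (a : centralizer ({x} : Set G)) : h.φh a = φ a := rfl
theorem φ_one : φ 1 = 1 := h.φh.map_one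
theorem φ_inv {a : G} (ha : a * x = x * a) : φ a⁻¹ = (φ a)⁻¹ := h.φh.map_inv ⟨a, mc.2 ha⟩
theorem φ_pow {a : G} (ha : a * x = x * a) (n : ℕ) : φ (a ^ n) = φ a ^ n := h.φh.map_pow ⟨a, mc.2 ha⟩ n
theorem φ_conj {a b : G} (ha : a * x = x * a) (hb : b * x = x * b) : φ (a * b * a⁻¹) = φ a * φ b * (φ a)⁻¹ := by
  have : h.φh (⟨a, mc.2 ha⟩ * ⟨b, mc.2 hb⟩ * (⟨a, mc.2 ha⟩)⁻¹) = h.φh ⟨a, mc.2 ha⟩ * h.φh ⟨b, mc.2 hb⟩ *
    (h.φh ⟨a, mc.2 ha⟩)⁻¹ := by rw [map_mul, map_mul, map_inv]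
  exact this

theorem order6 : orderOf (x * z) = 3 * orderOf z := by
  rw [(show Commute x z from h.zx.symm).orderOf_mul_eq_mul_orderOf_of_coprime
    (by rcases h.oz with e | e <;> rw [h.x3, e] <;> norm_num), h.x3]

theorem xz4 : (x * z) ^ 4 = x := by
  rw [(show Commute x z from h.zx.symm).mul_pow, show z ^ 4 = (z * z) ^ 2 by rw [← pow_two, ← pow_mul], h.zz, one_pow, mul_one,
    pow_succ, h.cube, one_mul]

theorem xz3 : (x * z) ^ 3 = z := by
  rw [(show Commute x z from h.zx.symm).mul_pow, h.cube, one_mul, pow_three, h.zz, mul_one]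

theorem φ_x : φ x = 1 := (h.ker x rfl).2 (by have := pow_mem (mem_zpowers (x * z)) 4; rwa [h.xz4] at this)
theorem φ_z : φ z = 1 := (h.ker z h.zx).2 (by have := pow_mem (mem_zpowers (x * z)) 3; rwa [h.xz3] at this)

theorem ker_dec {a : G} (ha : a ∈ zpowers (x * z)) : a ^ 4 ∈ zpowers x ∧ a ^ 3 ∈ zpowers z := by
  obtain ⟨n, rfl⟩ := ha
  refine ⟨⟨n, ?_⟩, ⟨n, ?_⟩⟩
  · show x ^ n = ((x * z) ^ n) ^ 4
    rw [← zpow_natCast, ← zpow_mul, mul_comm, zpow_mul, zpow_natCast, h.xz4]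
  · show z ^ n = ((x * z) ^ n) ^ 3
    rw [← zpow_natCast, ← zpow_mul, mul_comm, zpow_mul, zpow_natCast, h.xz3]

theorem ker_comm {a k : G} (ha : a ∈ zpowers (x * z)) (hk : k * x = x * k) : k * a = a * k := by
  obtain ⟨n, rfl⟩ := ha
  exact (((show Commute k x from hk).mul_right (h.zc k hk)).zpow_right n).eq

theorem ker_three {a : G} (ha : a * x = x * a) (e : φ a = 1) (h3 : a ^ 3 = 1) : a ∈ zpowers x := by
  have := (h.ker_dec ((h.ker a ha).1 e)).1
  rwa [pow_succ, h3, one_mul] at this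

theorem ker_two {a : G} (ha : a * x = x * a) (e : φ a = 1) {k : ℕ} (h2 : a ^ 2 ^ k = 1) : a = 1 ∨ a = z := by
  have h6 : a ^ 6 = 1 := by
    have := orderOf_dvd_of_mem_zpowers ((h.ker a ha).1 e)
    rw [h.order6] at this
    exact orderOf_dvd_iff_pow_eq_one.1 (this.trans (by rcases h.oz with e | e <;> rw [e]; norm_num))
  have h2' : a ^ 2 = 1 := by
    have h3 : (a ^ 2) ^ 3 = 1 := by rw [← pow_mul, h6]
    have h4 : (a ^ 2) ^ 2 ^ k = 1 := by rw [← pow_mul, mul_comm, pow_mul, h2, one_pow]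
    exact (pow_eq_one_iff_of_coprime (Nat.Coprime.pow_right k (by norm_num))).1 ⟨h3, h4⟩
  have := (h.ker_dec ((h.ker a ha).1 e)).2
  rw [pow_succ, h2', one_mul] at this
  exact (H95.mem_zpowers_iff_of_sq h.zz).1 this

theorem range_φh : h.φh.range = Spor.M22 := by
  ext s
  constructor
  · rintro ⟨a, rfl⟩; exact h.mem a (mc.1 a.2)
  · intro hs
    obtain ⟨a, ha, e⟩ := h.surj s hs
    exact ⟨⟨a, mc.2 ha⟩, e⟩

theorem ker_le : zpowers (x * z) ≤ centralizer {x} := fun _ ha => mc.2 (h.ker_comm ha rfl).symm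

theorem ker_φh : h.φh.ker = (zpowers (x * z)).subgroupOf (centralizer {x}) := by
  ext a
  exact h.ker a (mc.1 a.2)

theorem card_K : Nat.card (centralizer ({x} : Set G)) = 1330560 * orderOf z := by
  have := h.φh.ker.card_mul_index
  rw [index_ker, h.range_φh, card_M22, h.ker_φh, Nat.card_congr (subgroupOfEquivOfLe h.ker_le).toEquiv,
    Nat.card_zpowers, h.order6] at this
  omega

/-- a subgroup normalised by `K = C(x)` and containing a non-central element of `K` contains `K` -/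
theorem le_of_norm {N : Subgroup G} (hN : ∀ k, k * x = x * k → ∀ n ∈ N, k * n * k⁻¹ ∈ N) {n : G} (hn : n ∈ N)
    (c : n * x = x * n) (h1 : φ n ≠ 1) : centralizer {x} ≤ N := by
  have := isSimple_M22
  have hN' : (((N.subgroupOf _).map h.φh).subgroupOf Spor.M22).Normal := ⟨by
    rintro ⟨_, hx⟩ ⟨a, ha, rfl⟩ ⟨y, hy⟩
    obtain ⟨k, hk, rfl⟩ := h.surj y hy
    exact ⟨⟨k, mc.2 hk⟩ * a * (⟨k, mc.2 hk⟩)⁻¹, hN k hk a ha, h.φ_conj hk (mc.1 a.2)⟩⟩
  have dec : ∀ a, a * x = x * a → ∃ n ∈ N, n * x = x * n ∧ ∃ c ∈ zpowers (x * z), a = n * c := by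
    rcases hN'.eq_bot_or_eq_top with c' | c'
    · exact absurd (congrArg Subtype.val (mem_bot.1 (c'.le (show (⟨_, h.mem n c⟩ : Spor.M22) ∈ _ from
        ⟨⟨n, mc.2 c⟩, hn, rfl⟩)))) h1
    · intro a ha
      obtain ⟨b, hb, e⟩ := subgroupOf_eq_top.1 c' (h.mem a ha)
      have hb' := mc.1 b.2
      have hc : (b : G)⁻¹ * a ∈ centralizer {x} := mul_mem (inv_mem b.2) (mc.2 ha)
      refine ⟨b, hb, hb', (b : G)⁻¹ * a, (h.ker _ (mc.1 hc)).1 ?_, by group⟩
      rw [h.mul _ _ (mc.1 (inv_mem b.2)) ha, h.φ_inv hb', ← e, φh_apply, inv_mul_cancel]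
  refine h.perf.trans (commutator_le.2 fun a ha b hb => ?_)
  obtain ⟨n1, i1, j1, c1, k1, rfl⟩ := dec a (mc.1 ha)
  obtain ⟨n2, i2, j2, c2, k2, rfl⟩ := dec b (mc.1 hb)
  have e1 : Commute n2 c1 := h.ker_comm k1 j2
  have e2 : Commute n1 c2 := h.ker_comm k2 j1
  have e3 : Commute n2 c2 := h.ker_comm k2 j2
  have e4 : Commute c1 c2 := h.ker_comm k2 (mc.1 (h.ker_le k1))
  have : ⁅n1 * c1, n2 * c2⁆ = n1 * n2 * n1⁻¹ * n2⁻¹ := by
    rw [commutatorElement_def]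
    calc n1 * c1 * (n2 * c2) * (n1 * c1)⁻¹ * (n2 * c2)⁻¹
        = n1 * (c1 * (n2 * c2)) * c1⁻¹ * n1⁻¹ * c2⁻¹ * n2⁻¹ := by group
      _ = n1 * n2 * (c2 * n1⁻¹) * c2⁻¹ * n2⁻¹ := by rw [(e1.symm.mul_right e4).eq]; group
      _ = _ := by rw [e2.symm.inv_right.eq]; group
  rw [this]
  exact mul_mem (mul_mem (mul_mem i1 i2) (inv_mem i1)) (inv_mem i2)

theorem conj_K {n k : G} (hn : n * x * n⁻¹ = x ∨ n * x * n⁻¹ = x⁻¹) (hk : k * x = x * k) :
    n⁻¹ * k * n * x = x * (n⁻¹ * k * n) := by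
  rw [← conj_comm]
  rcases hn with e | e <;> rw [e]
  exacts [hk, (show Commute k x from hk).inv_right.eq]

theorem inv_N {n : G} (hn : n * x * n⁻¹ = x ∨ n * x * n⁻¹ = x⁻¹) :
    n⁻¹ * x * n⁻¹⁻¹ = x ∨ n⁻¹ * x * n⁻¹⁻¹ = x⁻¹ := by
  have := h.x1
  rcases hn with e | e
  · left
    calc n⁻¹ * x * n⁻¹⁻¹ = n⁻¹ * (n * x * n⁻¹) * n⁻¹⁻¹ := by rw [e]
      _ = x := by group
  · right
    calc n⁻¹ * x * n⁻¹⁻¹ = (n⁻¹ * x⁻¹ * n⁻¹⁻¹)⁻¹ := by group
      _ = (n⁻¹ * (n * x * n⁻¹) * n⁻¹⁻¹)⁻¹ := by rw [e]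
      _ = x⁻¹ := by group

theorem conj_K' {n k : G} (hn : n * x * n⁻¹ = x ∨ n * x * n⁻¹ = x⁻¹) (hk : k * x = x * k) :
    n * k * n⁻¹ * x = x * (n * k * n⁻¹) := by
  simpa using h.conj_K (h.inv_N hn) hk

theorem central {a : G} (ha : ∀ k, k * x = x * k → k * a = a * k) : φ a = 1 := by
  have hx := (ha x rfl).symm
  refine center_M22 (h.mem a hx).1.1 fun y hy => ?_
  obtain ⟨k, hk, rfl⟩ := h.surj y hy
  rw [← h.mul _ _ hx hk, ← h.mul _ _ hk hx, ha k hk]

/-- `N(⟨x⟩)` centralises `z` -/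
theorem norm_z {n : G} (hn : n * x * n⁻¹ = x ∨ n * x * n⁻¹ = x⁻¹) : n * z = z * n := by
  have hc : ∀ k, k * x = x * k → k * (n * z * n⁻¹) = n * z * n⁻¹ * k := fun k hk =>
    conj_comm.2 (h.zc _ (h.conj_K hn hk))
  rcases h.ker_two (hc x rfl).symm (h.central hc) (k := 1) (by rw [pow_one, conj_pow, pow_two, h.zz]; simp) with e | e
  · rw [show z = 1 by simpa [mul_inv_eq_one] using e]; simp
  · exact mul_inv_eq_iff_eq_mul.1 e

variable [Finite G]

theorem card_three {P : Subgroup G} (hP : IsPGroup 3 P) (hK : P ≤ centralizer {x}) : Nat.card P ∣ 27 := by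
  have := Fact.mk Nat.prime_three
  obtain ⟨n, hn⟩ := hP.exists_card_eq
  have := card_dvd_of_le hK
  rw [h.card_K, hn, show 1330560 * orderOf z = 3 ^ 3 * (49280 * orderOf z) by ring] at this
  rw [hn]
  exact (Nat.Coprime.pow_left n (by rcases h.oz with e | e <;> rw [e] <;> norm_num)).dvd_of_dvd_mul_right this

theorem exists_P {y : G} (c : y * x = x * y) (h3 : y ^ 3 = 1) :
    ∃ P : Subgroup G, P ≤ centralizer {x} ∧ Nat.card P = 27 ∧ x ∈ P ∧ y ∈ P := by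
  have := Fact.mk Nat.prime_three
  let x' : centralizer ({x} : Set G) := ⟨x, mc.2 rfl⟩
  let y' : centralizer ({x} : Set G) := ⟨y, mc.2 c⟩
  have pg : ∀ a : centralizer ({x} : Set G), a ^ 3 = 1 → IsPGroup 3 (zpowers a) := fun a ha =>
    IsPGroup.of_card_dvd_pow (n := 1) (by rw [Nat.card_zpowers]; exact orderOf_dvd_of_pow_eq_one ha)
  have hn : (zpowers x').Normal := ⟨fun a ha g => by
    obtain ⟨n, rfl⟩ := ha
    rw [((show Commute g x' from Subtype.ext (mc.1 g.2)).zpow_right n).eq, mul_inv_cancel_right]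
    exact ⟨n, rfl⟩⟩
  obtain ⟨R, hR⟩ := ((pg x' (Subtype.ext h.cube)).to_sup_of_normal_left (pg y' (Subtype.ext h3))).exists_le_sylow
  refine ⟨(R : Subgroup _).map (centralizer {x}).subtype, map_subtype_le _, ?_,
    ⟨x', hR (mem_sup_left (mem_zpowers _)), rfl⟩, ⟨y', hR (mem_sup_right (mem_zpowers _)), rfl⟩⟩
  rw [card_map_of_injective (subtype_injective _), R.card_eq_multiplicity, h.card_K,
    show 1330560 * orderOf z = 3 ^ 3 * (49280 * orderOf z) by ring,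
    Nat.factorization_mul_apply_of_coprime (by rcases h.oz with e | e <;> rw [e] <;> norm_num),
    Nat.factorization_pow_self Nat.prime_three,
    Nat.factorization_eq_zero_of_not_dvd (by rcases h.oz with e | e <;> rw [e] <;> norm_num)]
  rfl

theorem P_facts {P : Subgroup G} (hK : P ≤ centralizer {x}) (c : Nat.card P = 27) (hx : x ∈ P) :
    (∀ a ∈ P, (∀ b ∈ P, b * a = a * b) → a ∈ zpowers x) ∧ ∀ a ∈ P, ∀ b ∈ P, a * b * a⁻¹ * b⁻¹ ∈ zpowers x := by
  have := Fact.mk Nat.prime_three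
  have na : commutator P ≠ ⊥ := fun e => by
    let x' : centralizer ({x} : Set G) := ⟨x, mc.2 rfl⟩
    have i1 : x' ∈ center (centralizer ({x} : Set G)) := mem_center_iff.2 fun g => Subtype.ext (mc.1 g.2)
    have i2 : x' ∈ commutator (centralizer ({x} : Set G)) := by
      have := h.perf x'.2
      rw [← map_subtype_commutator] at this
      obtain ⟨a, ha, e⟩ := this
      exact (show a = x' from Subtype.ext e) ▸ ha
    have i3 := mem_map_of_mem (centralizer ({x} : Set G)).subtype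
      (H60.pow_index_mem_commutator (P.subgroupOf (centralizer {x})) i1 i2)
    rw [map_commutator, subgroupOf_map_subtype, inf_eq_left.2 hK, ← map_subtype_commutator, e, Subgroup.map_bot,
      mem_bot, map_pow] at i3
    have i4 := (P.subgroupOf (centralizer {x})).card_mul_index
    rw [Nat.card_congr (subgroupOfEquivOfLe hK).toEquiv, c, h.card_K] at i4
    have i5 := orderOf_dvd_of_pow_eq_one i3
    rw [show (P.subgroupOf (centralizer {x})).index = 49280 * orderOf z by omega] at i5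
    exact absurd (h.x3 ▸ i5 : 3 ∣ 49280 * orderOf z) (by rcases h.oz with e | e <;> rw [e] <;> norm_num)
  obtain ⟨⟨-, -, e1⟩, e2⟩ := H93.isExtraspecial_of_card_cube (p := 3) (G := P) c na
  have e3 : zpowers (⟨x, hx⟩ : P) = center P := eq_of_le_of_card_ge
    (zpowers_le.2 (mem_center_iff.2 fun g => Subtype.ext (mc.1 (hK g.2))))
    (by rw [e2, Nat.card_zpowers, ← orderOf_coe, h.x3])
  have e4 : ∀ a : P, a ∈ center P → (a : G) ∈ zpowers x := fun a ha => by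
    rw [← e3] at ha
    obtain ⟨n, rfl⟩ := ha
    exact ⟨n, by simp⟩
  exact ⟨fun a ha hc => e4 ⟨a, ha⟩ (mem_center_iff.2 fun g => Subtype.ext (hc g g.2)),
    fun a ha b hb => e4 ⁅(⟨a, ha⟩ : P), (⟨b, hb⟩ : P)⁆ (e1.le (commutator_mem_commutator (mem_top _) (mem_top _)))⟩

theorem shear {y : G} (c : y * x = x * y) (h3 : y ^ 3 = 1) (hy : y ∉ zpowers x) :
    ∃ s, s * x = x * s ∧ s * y * s⁻¹ = x * y := by
  obtain ⟨P, hK, cP, hx, hyP⟩ := h.exists_P c h3
  obtain ⟨f1, f2⟩ := h.P_facts hK cP hx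
  obtain ⟨a, ha, e⟩ : ∃ a ∈ P, a * y ≠ y * a := by
    by_contra hn
    push Not at hn
    exact hy (f1 y hyP hn)
  have ca := mc.1 (hK ha)
  rcases zpowers_three h.x3 (f2 a ha y hyP) with e1 | e1 | e1
  · exact absurd (by rw [mul_inv_eq_one, mul_inv_eq_iff_eq_mul] at e1; exact e1) e
  · exact ⟨a, ca, mul_inv_eq_iff_eq_mul.1 e1⟩
  · have e2 : a * y * a⁻¹ = x⁻¹ * y := mul_inv_eq_iff_eq_mul.1 e1
    refine ⟨a⁻¹, (show Commute a x from ca).inv_left.eq, ?_⟩
    calc a⁻¹ * y * a⁻¹⁻¹ = a⁻¹ * x * (x⁻¹ * y) * a := by group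
      _ = x * y := by rw [← e2, (show Commute a x from ca).inv_left.eq]; group

theorem eq_of_le {P T : Subgroup G} (hK : P ≤ centralizer {x}) (c : Nat.card P = 27) (hx : x ∈ P)
    (hT : IsPGroup 3 T) (hle : P ≤ T) : T = P := by
  have := Fact.mk Nat.prime_three
  by_contra hne
  obtain ⟨n, hn, hn1, hn2⟩ := H9.exists_mem_normalizer_of_lt hT (lt_of_le_of_ne hle (Ne.symm hne))
  have e : T ⊓ centralizer {x} = P := (eq_of_le_of_card_ge (le_inf hle hK)
    (c ▸ Nat.le_of_dvd (by norm_num) (h.card_three (hT.to_inf_left) inf_le_right))).symm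
  refine hn1 (e ▸ ⟨hn, mc.2 ?_⟩)
  have i1 := (h.P_facts hK c hx).1 _ (H95.conj_mem_of_normalizer hn2 hx) fun b hb =>
    conj_comm.2 (mc.1 (hK (H95.conj_mem_of_normalizer' hn2 hb)))
  rcases zpowers_three h.x3 i1 with e1 | e1 | e1
  · exact absurd (by simpa [mul_inv_eq_one] using e1) h.x1
  · exact mul_inv_eq_iff_eq_mul.1 e1
  · have c2 : Commute (n ^ 2) x := by
      refine mul_inv_eq_iff_eq_mul.1 ?_
      calc n ^ 2 * x * (n ^ 2)⁻¹ = n * (n * x * n⁻¹) * n⁻¹ := by rw [pow_two]; group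
        _ = n * x⁻¹ * n⁻¹ := by rw [e1]
        _ = (n * x * n⁻¹)⁻¹ := by group
        _ = x := by rw [e1, inv_inv]
    obtain ⟨k, hk⟩ := hT ⟨n, hn⟩
    have hk' : n ^ 3 ^ k = 1 := congrArg Subtype.val hk
    obtain ⟨m, hm⟩ : Odd (3 ^ k) := Odd.pow (by norm_num)
    have : n = (n ^ 2) ^ (m + 1) := by
      rw [← pow_mul, show 2 * (m + 1) = 3 ^ k + 1 by omega, pow_succ, hk', one_mul]
    rw [this]
    exact (c2.pow_left _).eq

theorem exists_in (S : Sylow 3 G) : ∃ x z φ, Hw x z φ ∧ x ∈ (S : Subgroup G) ∧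
    (S : Subgroup G) ≤ centralizer {x} ∧ Nat.card (S : Subgroup G) = 27 := by
  have := Fact.mk Nat.prime_three
  obtain ⟨P, hK, cP, hx, -⟩ := h.exists_P rfl h.cube
  obtain ⟨T, hT⟩ := (IsPGroup.of_card (p := 3) (n := 3) cP).exists_le_sylow
  have e := h.eq_of_le hK cP hx T.isPGroup' hT
  obtain ⟨g, rfl⟩ := MulAction.exists_smul_eq G T S
  have e' : ((g • T : Sylow 3 G) : Subgroup G) = P.map (MulAut.conj g).toMonoidHom := by rw [← e]; rfl
  refine ⟨_, _, _, h.conj g, ?_, ?_, ?_⟩ <;> rw [e']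
  · exact ⟨x, hx, rfl⟩
  · rw [cent_conj]; exact map_mono hK
  · rw [card_map_of_injective (MulAut.conj g).injective, cP]

theorem not_81 : ¬ 81 ∣ Nat.card G := fun c => by
  have := Fact.mk Nat.prime_three
  obtain ⟨S⟩ : Nonempty (Sylow 3 G) := inferInstance
  obtain ⟨-, -, -, -, -, -, e⟩ := h.exists_in S
  have := (S.pow_dvd_card_of_pow_dvd_card (n := 4) c)
  rw [e] at this
  norm_num at this

/-- the image in `M22` -/
def bar (P : Subgroup G) : Subgroup (Equiv.Perm GolayPt) := (P.subgroupOf (centralizer {x})).map h.φh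

theorem mem_bar {P : Subgroup G} {s : Equiv.Perm GolayPt} : s ∈ h.bar P ↔ ∃ a ∈ P, a * x = x * a ∧ φ a = s :=
  ⟨fun ⟨a, ha, e⟩ => ⟨a, ha, mc.1 a.2, e⟩, fun ⟨a, ha, c, e⟩ => ⟨⟨a, mc.2 c⟩, ha, e⟩⟩

theorem card_bar {P : Subgroup G} (hP : P ≤ centralizer {x}) (inj : ∀ a ∈ P, φ a = 1 → a = 1) :
    Nat.card (h.bar P) = Nat.card P := by
  rw [← Nat.card_congr (subgroupOfEquivOfLe hP).toEquiv]
  exact (Nat.card_congr (Equiv.ofBijective (h.φh.subgroupMap (P.subgroupOf (centralizer {x}))) ⟨(injective_iff_map_eq_one _).2 fun a ha =>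
    Subtype.ext (Subtype.ext (inj _ a.2 (congrArg Subtype.val ha :))), h.φh.subgroupMap_surjective _⟩)).symm

/-- the normaliser of `⟨x⟩` -/
def N0 : Subgroup G where
  carrier := {n | n * x * n⁻¹ = x ∨ n * x * n⁻¹ = x⁻¹}
  one_mem' := Or.inl (by simp)
  inv_mem' := h.inv_N
  mul_mem' {a b} ha hb := by
    have e : a * b * x * (a * b)⁻¹ = a * (b * x * b⁻¹) * a⁻¹ := by group
    have e' : a * x⁻¹ * a⁻¹ = (a * x * a⁻¹)⁻¹ := by group
    rcases hb with i | i <;> rcases ha with j | j <;> simp only [Set.mem_ofPred_eq, e, i, e', j] <;> simp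

theorem K_le : centralizer {x} ≤ h.N0 := fun a ha => Or.inl (by rw [mc.1 ha, mul_inv_cancel_right])

theorem wd {n k k' : G} (hn : n ∈ h.N0) (hk : k * x = x * k) (hk' : k' * x = x * k') (e : φ k = φ k') :
    φ (n * k * n⁻¹) = φ (n * k' * n⁻¹) := by
  have hc : k⁻¹ * k' ∈ centralizer {x} := mul_mem (inv_mem (mc.2 hk)) (mc.2 hk')
  have e1 : φ (k⁻¹ * k') = 1 := by rw [h.mul _ _ (mc.1 (inv_mem (mc.2 hk))) hk', h.φ_inv hk, e, inv_mul_cancel]
  have e2 : φ (n * (k⁻¹ * k') * n⁻¹) = 1 := h.central fun a ha =>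
    conj_comm.2 (h.ker_comm ((h.ker _ (mc.1 hc)).1 e1) (h.conj_K hn ha))
  rw [show n * k' * n⁻¹ = n * k * n⁻¹ * (n * (k⁻¹ * k') * n⁻¹) by group,
    h.mul _ _ (h.conj_K' hn hk) (h.conj_K' hn (mc.1 hc)), e2, mul_one]

theorem ex_s {n : G} (hn : n ∈ h.N0) : ∃ s ∈ M22ext, ∀ k, k * x = x * k → φ (n * k * n⁻¹) = s * φ k * s⁻¹ := by
  choose L hL eL using fun s : Spor.M22 => h.surj s s.2
  let a : Spor.M22 →* Spor.M22 := MonoidHom.mk' (fun s => ⟨φ (n * L s * n⁻¹), h.mem _ (h.conj_K' hn (hL s))⟩)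
    fun s t => Subtype.ext (by
      have c : L s * L t * x = x * (L s * L t) := mc.1 (mul_mem (mc.2 (hL s)) (mc.2 (hL t)))
      show φ (n * L (s * t) * n⁻¹) = φ (n * L s * n⁻¹) * φ (n * L t * n⁻¹)
      rw [← h.mul _ _ (h.conj_K' hn (hL s)) (h.conj_K' hn (hL t)),
        h.wd hn (hL _) c (by rw [h.mul _ _ (hL s) (hL t), eL, eL, eL]; rfl)]
      congr 1
      group)
  have inj : Function.Injective a := (injective_iff_map_eq_one a).2 fun s hs => Subtype.ext (by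
    have := h.wd (inv_mem hn) (h.conj_K' hn (hL s)) (k' := 1) (by simp)
      ((congrArg Subtype.val hs).trans h.φ_one.symm)
    simpa [mul_assoc, eL, h.φ_one] using this)
  obtain ⟨s, hs, e⟩ := aut_M22 (MulEquiv.ofBijective a (Finite.injective_iff_bijective.1 inj))
  exact ⟨s, hs, fun k hk => (h.wd hn hk (hL ⟨φ k, h.mem k hk⟩) (eL ⟨φ k, h.mem k hk⟩).symm).trans (e ⟨φ k, h.mem k hk⟩)⟩

theorem cent_of_triv {n : G} (c : ∀ k, k * x = x * k → n * k * n⁻¹ * k⁻¹ ∈ zpowers (x * z)) : n * x = x * n := by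
  refine (mc.1 ((h.perf.trans (commutator_le.2 fun a ha b hb => ?_) : _ ≤ centralizer {n}) (mc.2 rfl))).symm
  have i1 := c a (mc.1 ha)
  have i2 := c b (mc.1 hb)
  obtain ⟨c1, e1⟩ : ∃ c1, c1 = n * a * n⁻¹ * a⁻¹ := ⟨_, rfl⟩
  obtain ⟨c2, e2⟩ : ∃ c2, c2 = n * b * n⁻¹ * b⁻¹ := ⟨_, rfl⟩
  rw [← e1] at i1
  rw [← e2] at i2
  have f1 : Commute b c1 := h.ker_comm i1 (mc.1 hb)
  have f2 : Commute a c2 := h.ker_comm i2 (mc.1 ha)
  have f3 : Commute a c1 := h.ker_comm i1 (mc.1 ha)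
  have f4 : Commute c1 c2 := h.ker_comm i2 (mc.1 (h.ker_le i1))
  refine mc.2 (mul_inv_eq_iff_eq_mul.1 ?_).symm
  rw [commutatorElement_def]
  calc n * (a * b * a⁻¹ * b⁻¹) * n⁻¹ = c1 * a * (c2 * b) * (c1 * a)⁻¹ * (c2 * b)⁻¹ := by rw [e1, e2]; group
    _ = c1 * (a * c2 * b * a⁻¹) * c1⁻¹ * b⁻¹ * c2⁻¹ := by group
    _ = c2 * (a * b * a⁻¹ * b⁻¹) * c2⁻¹ := by
      rw [(((f3.symm.mul_right f4).mul_right f1.symm).mul_right f3.symm.inv_right).eq, f2.eq]; group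
    _ = _ := by
      rw [← h.ker_comm i2 (mc.1 (mul_mem (mul_mem (mul_mem ha hb) (inv_mem ha)) (inv_mem hb)))]; group

theorem zuniq {z' : G} {φ' : G → Equiv.Perm GolayPt} (h' : Hw x z' φ') : z = z' := by
  rcases h.ker_two h'.zx (h.central h'.zc) (k := 1) (by rw [pow_one, pow_two, h'.zz]) with e | e
  · rcases h'.ker_two h.zx (h'.central h.zc) (k := 1) (by rw [pow_one, pow_two, h.zz]) with e' | e'
    exacts [e'.trans e.symm, e']
  · exact e.symm

theorem inv : Hw x⁻¹ z φ := by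
  have e : ∀ a, a * x⁻¹ = x⁻¹ * a ↔ a * x = x * a := fun a => by rw [← mc, ← mc, cent_inv]
  refine ⟨by rw [orderOf_inv, h.x3], h.zz, (e _).2 h.zx, fun k hk => h.zc k ((e _).1 hk),
    fun a b ha hb => h.mul a b ((e _).1 ha) ((e _).1 hb), fun a ha => h.mem a ((e _).1 ha), fun s hs => ?_,
    fun a ha => ?_, by rw [cent_inv]; exact h.perf⟩
  · simpa only [e] using h.surj s hs
  · rw [h.ker a ((e _).1 ha), ← zpowers_inv, mul_inv_rev, inv_eq_of_mul_eq_one_right h.zz, (e _).2 h.zx]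

theorem twist {m : Equiv.Perm GolayPt} (hm : m ∈ Spor.M22) : Hw x z fun a => m * φ a * m⁻¹ :=
  ⟨h.x3, h.zz, h.zx, h.zc, fun a b ha hb => by rw [h.mul a b ha hb]; group,
    fun a ha => mul_mem (mul_mem hm (h.mem a ha)) (inv_mem hm), fun s hs => by
      obtain ⟨a, ha, e⟩ := h.surj _ (mul_mem (mul_mem (inv_mem hm) hs) hm)
      exact ⟨a, ha, by rw [e]; group⟩, fun a ha => by rw [← h.ker a ha]; simp [mul_inv_eq_one], h.perf⟩

theorem kerT {a : G} (ha : a * x = x * a) (e : φ a = 1) (t : T2 a) : a = 1 ∨ a = z := by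
  obtain ⟨k, hk⟩ := t
  exact h.ker_two ha e hk

theorem φT {a : G} (ha : a * x = x * a) (t : T2 a) : T2 (φ a) := t.imp fun n e => by rw [← h.φ_pow ha, e, h.φ_one]

/-- elements with the same image differ by a central element -/
theorem eq_mul {a b : G} (ha : a * x = x * a) (hb : b * x = x * b) (e : φ a = φ b) :
    ∃ c ∈ zpowers (x * z), a = b * c := by
  have i := inv_mem (mc.2 hb)
  refine ⟨b⁻¹ * a, (h.ker _ (mc.1 (mul_mem i (mc.2 ha)))).1 ?_, by group⟩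
  rw [h.mul _ _ (mc.1 i) ha, h.φ_inv hb, e, inv_mul_cancel]

theorem eqT {a b : G} (ha : a * x = x * a) (hb : b * x = x * b) (e : φ a = φ b) (ta : T2 a) (tb : T2 b) :
    a = b ∨ a = b * z := by
  obtain ⟨c, hc, rfl⟩ := h.eq_mul ha hb e
  have cc := mc.1 (h.ker_le hc)
  have : T2 c := by
    have := T2.mul (a := b⁻¹) (b := b * c)
      (((Commute.refl b).mul_right (h.ker_comm hc hb)).inv_left) tb.inv ta
    simpa using this
  rcases h.kerT cc ((h.ker c cc).2 hc) this with rfl | rfl <;> simp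

theorem eq3 {a b : G} (ha : a * x = x * a) (hb : b * x = x * b) (e : φ a = φ b) (ta : a ^ 3 = 1) (tb : b ^ 3 = 1) :
    a = b ∨ a = x * b ∨ a = x * (x * b) := by
  obtain ⟨c, hc, rfl⟩ := h.eq_mul ha hb e
  have cc := mc.1 (h.ker_le hc)
  rw [(show Commute b c from h.ker_comm hc hb).mul_pow, tb, one_mul] at ta
  rcases zp3 h.cube (h.ker_three cc ((h.ker c cc).2 hc) ta) with rfl | rfl | rfl
  · simp
  · exact Or.inr (Or.inl hb)
  · exact Or.inr (Or.inr (by rw [h.xinv, ← mul_assoc, hb, mul_assoc, hb]))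

theorem card_eq {P : Subgroup G} (hP : P ≤ centralizer {x}) :
    Nat.card P = Nat.card ↥(zpowers (x * z) ⊓ P) * Nat.card (h.bar P) := by
  let f := h.φh.comp (inclusion hP)
  have e1 : f.ker = (zpowers (x * z)).subgroupOf P := Subgroup.ext fun a => h.ker a (mc.1 (hP a.2))
  have e2 : f.range = h.bar P := Subgroup.ext fun s =>
    ⟨fun ⟨a, e⟩ => h.mem_bar.2 ⟨a, a.2, mc.1 (hP a.2), e⟩, fun i => by
      obtain ⟨a, ha, -, e⟩ := h.mem_bar.1 i
      exact ⟨⟨a, ha⟩, e⟩⟩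
  rw [← f.ker.card_mul_index, index_ker, e1, e2, H1.card_subgroupOf_eq]

theorem card_two {P : Subgroup G} (hP : P ≤ centralizer {x}) (p2 : IsPGroup 2 P) (hz : z ∈ P) :
    Nat.card P = orderOf z * Nat.card (h.bar P) := by
  rw [h.card_eq hP, ← Nat.card_zpowers]
  congr 3
  exact le_antisymm (fun a ha => h.mz.2 (h.kerT (mc.1 (hP ha.2)) ((h.ker a (mc.1 (hP ha.2))).2 ha.1) (T2.of_mem p2 ha.2)))
    (zpowers_le.2 ⟨(h.ker z h.zx).1 h.φ_z, hz⟩)

/-- the `2`-part of the preimage of a `2`-subgroup -/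
theorem lift {B : Subgroup (Equiv.Perm GolayPt)} (hB : B ≤ Spor.M22) (p2 : IsPGroup 2 B) :
    ∃ T : Subgroup G, (∀ g, g ∈ T ↔ g * x = x * g ∧ φ g ∈ B ∧ T2 g) ∧ Nat.card T = orderOf z * Nat.card B ∧
      ∀ b ∈ B, ∃ g ∈ T, φ g = b := by
  have := Fact.mk Nat.prime_two
  obtain ⟨T, hT⟩ := exists_sylowIn 2 (B.comap h.φh)
  have e1 : (B.comap h.φh).map h.φh = B := map_comap_eq_self (h.range_φh ▸ hB)
  have s := hT.map h.φh
  rw [e1] at s
  have e2 := s.eq_of_le p2 s.le le_rfl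
  have key : ∀ g, g ∈ T.map (centralizer {x}).subtype ↔ g * x = x * g ∧ φ g ∈ B ∧ T2 g := fun g => by
    constructor
    · rintro ⟨a, ha, rfl⟩
      exact ⟨mc.1 a.2, hT.le ha, (T2.of_mem hT.isPGroup ha).imp fun n e => congrArg Subtype.val e⟩
    · rintro ⟨c, i, n, e⟩
      obtain ⟨l, hl, le⟩ := hT.exists_cj_le (Q := zpowers ⟨g, mc.2 c⟩) (isPGroup_zpowers (k := n) (Subtype.ext e))
        (zpowers_le.2 i)
      obtain ⟨t, ht, e3⟩ := e2.le hl
      obtain ⟨u, hu, e4⟩ := h.eq_mul (mc.1 l.2) (mc.1 t.2) e3.symm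
      refine ⟨_, mul_mem (mul_mem (inv_mem ht) (le (conj_mem_cj.2 (mem_zpowers _)))) ht, ?_⟩
      show (t : G)⁻¹ * (l * g * (l : G)⁻¹) * t = g
      rw [e4, show (t : G)⁻¹ * (t * u * g * (t * u)⁻¹) * t = u * g * u⁻¹ by group, ← h.ker_comm hu c, mul_inv_cancel_right]
  have sj : ∀ b ∈ B, ∃ g ∈ T.map (centralizer {x}).subtype, φ g = b := fun b hb => by
    obtain ⟨t, ht, e⟩ := e2.le hb
    exact ⟨t, ⟨t, ht, rfl⟩, e⟩
  refine ⟨_, key, ?_, sj⟩
  rw [h.card_two (map_subtype_le _) (hT.isPGroup.map _) ((key z).2 ⟨h.zx, h.φ_z ▸ one_mem _, T2.of_sq h.zz⟩)]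
  congr 3
  refine le_antisymm (fun s hs => ?_) fun b hb => ?_
  · obtain ⟨a, ha, -, rfl⟩ := h.mem_bar.1 hs
    exact ((key a).1 ha).2.1
  · obtain ⟨g, hg, e⟩ := sj b hb
    exact h.mem_bar.2 ⟨g, hg, ((key g).1 hg).1, e⟩

theorem liftT {s : Equiv.Perm GolayPt} (hs : s ∈ Spor.M22) (t : T2 s) : ∃ g, g * x = x * g ∧ φ g = s ∧ T2 g := by
  obtain ⟨n, e⟩ := t
  obtain ⟨T, h1, -, h2⟩ := h.lift (zpowers_le.2 hs) (isPGroup_zpowers e)
  obtain ⟨g, hg, e⟩ := h2 s (mem_zpowers s)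
  exact ⟨g, ((h1 g).1 hg).1, e, ((h1 g).1 hg).2.2⟩

/-- the fusion hypothesis in terms of elements -/
theorem fusion (S : Sylow 3 G) (g : G)
    (hng : ((center (S : Subgroup G)).map (S : Subgroup G).subtype).map (MulAut.conj g).toMonoidHom ≤ (S : Subgroup G))
    (hne : ((center (S : Subgroup G)).map (S : Subgroup G).subtype).map (MulAut.conj g).toMonoidHom ≠
      (center (S : Subgroup G)).map (S : Subgroup G).subtype) :
    ∃ x z φ, Hw x z φ ∧ g * x * g⁻¹ * x = x * (g * x * g⁻¹) ∧ g * x * g⁻¹ ∉ zpowers x := by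
  obtain ⟨x, z, φ, h, hx, hK, c⟩ := h.exists_in S
  have e : (center (S : Subgroup G)).map (S : Subgroup G).subtype = zpowers x := by
    refine le_antisymm (fun a ha => ?_) (zpowers_le.2 (mem_center_map_iff.2 ⟨hx, fun y hy => mc.1 (hK hy)⟩))
    rw [mem_center_map_iff] at ha
    exact (h.P_facts hK c hx).1 a ha.1 ha.2
  rw [e, MonoidHom.map_zpowers] at hng hne
  refine ⟨x, z, φ, h, mc.1 (hK (hng (mem_zpowers _))), fun i => hne (eq_of_le_of_card_ge (zpowers_le.2 i) ?_)⟩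
  rw [Nat.card_zpowers, Nat.card_zpowers, h.x3]
  exact (h.conj g).x3.ge

end Hw

theorem exists_Hw [Finite G] {x : G} (hx : orderOf x = 3)
    (hperf : ⁅(⊤ : Subgroup (centralizer ({x} : Set G))), (⊤ : Subgroup (centralizer ({x} : Set G)))⁆ = ⊤)
    (hZc : Nat.card (center (centralizer ({x} : Set G))) = 3 ∨ Nat.card (center (centralizer ({x} : Set G))) = 6)
    (e : centralizer ({x} : Set G) ⧸ center (centralizer ({x} : Set G)) ≃* Spor.M22) : ∃ z φ, Hw x z φ := by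
  classical
  have := Fact.mk Nat.prime_two
  obtain ⟨z, hz, hc⟩ : ∃ z : center (centralizer ({x} : Set G)), (orderOf z = 1 ∨ orderOf z = 2) ∧
      Nat.card (center (centralizer ({x} : Set G))) = 3 * orderOf z := by
    rcases hZc with c | c
    · exact ⟨1, Or.inl orderOf_one, by rw [c, orderOf_one]⟩
    · obtain ⟨z, hz⟩ := exists_prime_orderOf_dvd_card' (G := center (centralizer ({x} : Set G))) 2 (by rw [c]; norm_num)
      exact ⟨z, Or.inr hz, by rw [c, hz]⟩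
  have z2 : orderOf ((z : centralizer ({x} : Set G)) : G) = orderOf z := by rw [orderOf_coe, orderOf_coe]
  let x' : center (centralizer ({x} : Set G)) := ⟨⟨x, mc.2 rfl⟩, mem_center_iff.2 fun g => Subtype.ext (mc.1 g.2)⟩
  have zx := mc.1 z.1.2
  have e6 : zpowers (x' * z) = ⊤ := by
    refine eq_top_of_card_eq _ ?_
    rw [hc, Nat.card_zpowers, ← orderOf_coe, ← orderOf_coe]
    exact ((show Commute x _ from zx.symm).orderOf_mul_eq_mul_orderOf_of_coprime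
      (by rcases hz with c | c <;> rw [hx, z2, c] <;> norm_num)).trans (by rw [hx, z2])
  let f : centralizer ({x} : Set G) →* Equiv.Perm GolayPt :=
    Spor.M22.subtype.comp (e.toMonoidHom.comp (QuotientGroup.mk' _))
  have fk : ∀ m, f m = 1 ↔ m ∈ center _ := fun m =>
    ((OneMemClass.coe_eq_one (x := e m)).trans (MulEquiv.map_eq_one_iff _)).trans (QuotientGroup.eq_one_iff _)
  let φ : G → Equiv.Perm GolayPt := fun a => if ha : a ∈ centralizer {x} then f ⟨a, ha⟩ else 1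
  have hφ : ∀ a (ha : a * x = x * a), φ a = f ⟨a, mc.2 ha⟩ := fun a ha => dif_pos (mc.2 ha)
  refine ⟨z, φ, hx, by
    rw [← pow_two]
    exact orderOf_dvd_iff_pow_eq_one.1 (by rcases hz with c | c <;> rw [z2, c]; norm_num), zx, fun k hk => congrArg Subtype.val (mem_center_iff.1 z.2 ⟨k, mc.2 hk⟩),
    fun a b ha hb => ?_, fun a ha => ?_, fun s hs => ?_, fun a ha => ?_, ?_⟩
  · rw [hφ a ha, hφ b hb, hφ _ (mc.1 (mul_mem (mc.2 ha) (mc.2 hb))), ← map_mul]; rfl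
  · rw [hφ a ha]; exact (e _).2
  · obtain ⟨a, ha⟩ := e.surjective ⟨s, hs⟩
    obtain ⟨m, rfl⟩ := QuotientGroup.mk_surjective a
    exact ⟨m, mc.1 m.2, (hφ m (mc.1 m.2)).trans (congrArg Subtype.val ha)⟩
  · rw [hφ a ha, fk]
    constructor
    · intro c
      obtain ⟨n, hn⟩ := e6.ge (mem_top ⟨_, c⟩)
      exact ⟨n, by simpa using congrArg (fun t : center (centralizer ({x} : Set G)) => ((t : centralizer ({x} : Set G)) : G)) hn⟩
    · rintro ⟨n, hn⟩
      have : (⟨a, mc.2 ha⟩ : centralizer ({x} : Set G)) = ((x' * z) ^ n : center _) := Subtype.ext (by simpa using hn.symm)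
      rw [this]
      exact SetLike.coe_mem _
  · rw [← map_subtype_commutator, _root_.commutator, hperf, ← MonoidHom.range_eq_map, range_subtype]

end H66.Sev
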