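import Cfsg.Agent.Lib.J4.Sev2

/-!
# An element of order three with centraliser `3·M22` or `6·M22`: computations in `M22`
-/

set_option autoImplicit false
set_option linter.unusedSectionVars false
set_option maxRecDepth 100000

namespace H66.Sev
open Cfsg H15 H95 H68 H75.J4 H96.Geo Subgroup H66.Six
open H54 (band band_eq_true bimp bimp_eq_true bor bor_eq_true allL allL_iff anyL anyL_iff nth)
open scoped Pointwise

/-- product of a list of codes -/
noncomputable def wd (L : List ℕ) : ℕ :=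
  List.rec (motive := fun _ => ℕ) idP (fun a _ ih => H54.force ih fun x => H54.force a fun y => mulP y x) L

theorem wd_spec : ∀ {L : List ℕ}, (∀ a ∈ L, okP a = true) →
    okP (wd L) = true ∧ wd L < 32 ^ 24 ∧ permOf (wd L) = (L.map permOf).prod
  | [], _ => ⟨okP_idP, by decide +kernel, permOf_idP⟩
  | a :: L, h => by
    have e : wd (a :: L) = mulP a (wd L) := by simp only [wd, H54.force_eq]
    obtain ⟨i1, -, i2⟩ := wd_spec fun b hb => h b (List.mem_cons_of_mem _ hb)
    have i3 := h a List.mem_cons_self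
    rw [e, permOf_mulP i3 i1, i2]
    exact ⟨okP_mulP i3 i1, mulP_lt _ _, rfl⟩

/-- equality of two products -/
noncomputable def weq (L L' : List ℕ) : Bool := Nat.beq (wd L) (wd L')

theorem weq_iff {L L' : List ℕ} (h : ∀ a ∈ L, okP a = true) (h' : ∀ a ∈ L', okP a = true) :
    weq L L' = true ↔ (L.map permOf).prod = (L'.map permOf).prod := by
  obtain ⟨i1, i2, i3⟩ := wd_spec h
  obtain ⟨j1, j2, j3⟩ := wd_spec h'
  rw [← i3, ← j3, weq, Nat.beq_eq]
  exact ⟨fun e => by rw [e], permOf_inj i1 j1 i2 j2⟩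

theorem okPow {a : ℕ} (n : ℕ) (h : okP a = true) : okP (powP a n) = true := (powP_spec h n).1
theorem pPow {a : ℕ} (n : ℕ) (h : okP a = true) : permOf (powP a n) = permOf a ^ n := (powP_spec h n).2

/-- membership in `M22` -/
noncomputable def gM (c : ℕ) : Bool := band (inM24 c) (band (Nat.beq (ap c 23) 23) (Nat.beq (ap c 0) 0))

theorem gM_good {c : ℕ} (h : gM c = true) : Good Spor.M22 c := by
  simp only [gM, band_eq_true, Nat.beq_eq] at h
  exact good_M22 h.1 h.2.1 h.2.2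

def yC : ℕ := 967250419134823001829528525558856960
def sC : ℕ := 973660373849168986503330792975407136
def mC : ℕ := 965377510518151442611474131300226080
def mI : ℕ := 983339808445248740933005763180506144
def kC : ℕ := 968735425333754444325127388791948640
def aC : ℕ := 957182305903938877696287816369178912
def jC : ℕ := 973771501256562028186416545792113696
def bC : ℕ := 980252272282723697483369785688870944
def n1 : ℕ := 984206834562723621382756156859535616
def n2 : ℕ := 967817581634075169702422528953816672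

noncomputable abbrev FF (j : ℕ) : Equiv.Perm GolayPt := permOf (PA j)
noncomputable abbrev Y0 : Equiv.Perm GolayPt := permOf yC
noncomputable abbrev S0 : Equiv.Perm GolayPt := permOf sC
noncomputable abbrev K0 : Equiv.Perm GolayPt := permOf kC
noncomputable abbrev J0 : Equiv.Perm GolayPt := permOf jC
noncomputable abbrev B0 : Equiv.Perm GolayPt := permOf bC

theorem gF (j : ℕ) (h : j < 16) : Good Spor.M22 (PA j) :=
  gM_good ((H54.allLt_iff _ _).1 (by decide +kernel : H54.allLt (fun j => gM (PA j)) 16 = true) j h)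
theorem gL : ∀ c ∈ [yC, sC, mC, mI, kC, aC, jC, bC, n1, n2], Good Spor.M22 c := fun c hc =>
  gM_good ((allL_iff _ _).1 (by decide +kernel : allL gM [yC, sC, mC, mI, kC, aC, jC, bC, n1, n2] = true) c hc)
theorem okF (j : ℕ) (h : j < 16) : okP (PA j) = true := (gF j h).1
theorem oky : okP yC = true := (gL _ (by simp)).1
theorem oks : okP sC = true := (gL _ (by simp)).1
theorem okm : okP mC = true := (gL _ (by simp)).1
theorem okmI : okP mI = true := (gL _ (by simp)).1
theorem okk : okP kC = true := (gL _ (by simp)).1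
theorem oka : okP aC = true := (gL _ (by simp)).1
theorem okj : okP jC = true := (gL _ (by simp)).1
theorem okb : okP bC = true := (gL _ (by simp)).1
theorem okn1 : okP n1 = true := (gL _ (by simp)).1
theorem okn2 : okP n2 = true := (gL _ (by simp)).1
theorem ok3 : okP M22.c3A = true := by decide +kernel
theorem mY : Y0 ∈ Spor.M22 := (gL _ (by simp)).2
theorem mS : S0 ∈ Spor.M22 := (gL _ (by simp)).2
theorem mK : K0 ∈ Spor.M22 := (gL _ (by simp)).2
theorem mJ : J0 ∈ Spor.M22 := (gL _ (by simp)).2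

theorem xor16 {i j : ℕ} (hi : i < 16) (hj : j < 16) : i ^^^ j < 16 := Nat.xor_lt_two_pow (n := 4) hi hj

theorem eaF : EA 4 FF := ⟨fun a b ha hb => by
    have := (H54.allLt_iff _ _).1 ((H54.allLt_iff _ _).1 (by decide +kernel :
      H54.allLt (fun a => H54.allLt (fun b => weq [PA (Nat.xor a b)] [PA a, PA b]) 16) 16 = true) a ha) b hb
    have i : a ^^^ b < 16 := xor16 ha hb
    rw [weq_iff (by simp [okF, i]) (by simp [okF, show a < 16 from ha, show b < 16 from hb])] at this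
    simpa using this, fun a ha e => by
    have := (H54.allLt_iff _ _).1 (by decide +kernel :
      H54.allLt (fun a => bimp (weq [PA a] []) (Nat.beq a 0)) 16 = true) a ha
    rw [bimp_eq_true, weq_iff (by simp [okF, show a < 16 from ha]) (by simp), Nat.beq_eq] at this
    exact this (by simpa using e)⟩

/-- the hexad group -/
noncomputable def Fb : Subgroup (Equiv.Perm GolayPt) := eaF.sub
theorem mem_Fb {g : Equiv.Perm GolayPt} : g ∈ Fb ↔ ∃ j, j < 16 ∧ g = FF j := Iff.rfl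
theorem F_mem (j : ℕ) (h : j < 16) : FF j ∈ Fb := ⟨j, h, rfl⟩
theorem Fb_le : Fb ≤ Spor.M22 := by rintro _ ⟨j, h, rfl⟩; exact (gF j h).2
theorem card_Fb : Nat.card Fb = 16 := eaF.card
theorem Fb_two : IsPGroup 2 Fb := eaF.isPGroup
theorem F0 : FF 0 = 1 := eaF.zero
theorem F_mul {i j : ℕ} (hi : i < 16) (hj : j < 16) : FF i * FF j = FF (i ^^^ j) := (eaF.add i j hi hj).symm
theorem F_inj {i j : ℕ} (hi : i < 16) (hj : j < 16) : FF i = FF j ↔ i = j := eaF.eq_iff hi hj
theorem F_ne {i : ℕ} (hi : i < 16) (h : i ≠ 0) : FF i ≠ 1 := fun e => h (eaF.inj i hi e)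
theorem F_sq {g : Equiv.Perm GolayPt} (h : g ∈ Fb) : g * g = 1 := eaF.sq h

theorem eaD : EA 2 fun j => FF (j % 2 + 4 * (j / 2)) := ⟨fun a b ha hb => by
    rw [F_mul (by omega) (by omega)]
    congr 2
    exact (by decide : ∀ a < 4, ∀ b < 4, (a ^^^ b) % 2 + 4 * ((a ^^^ b) / 2) =
      (a % 2 + 4 * (a / 2)) ^^^ (b % 2 + 4 * (b / 2))) a ha b hb, fun a ha e => by have := eaF.inj _ (by omega) e; omega⟩

/-- the four-group centralised by `Y0` -/
noncomputable def Db : Subgroup (Equiv.Perm GolayPt) := eaD.sub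
theorem mem_Db {g : Equiv.Perm GolayPt} : g ∈ Db ↔ g = 1 ∨ g = FF 1 ∨ g = FF 4 ∨ g = FF 5 := by
  constructor
  · rintro ⟨j, h, rfl⟩
    have : j < 4 := h
    interval_cases j <;> simp [F0]
  · rintro (rfl | rfl | rfl | rfl)
    exacts [one_mem _, ⟨1, by norm_num, rfl⟩, ⟨2, by norm_num, rfl⟩, ⟨3, by norm_num, rfl⟩]
theorem Db_le : Db ≤ Fb := by rintro _ ⟨j, h, rfl⟩; exact F_mem _ (by omega)
theorem card_Db : Nat.card Db = 4 := eaD.card
theorem Db_two : IsPGroup 2 Db := eaD.isPGroup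

theorem rels : Y0 ^ 3 = 1 ∧ S0 ^ 3 = 1 ∧ S0 * Y0 = Y0 * S0 ∧ Y0 * FF 1 = FF 1 * Y0 ∧ Y0 * FF 4 = FF 4 * Y0 ∧
    S0 * FF 1 = FF 4 * S0 ∧ S0 * FF 4 = FF 5 * S0 ∧ S0 * FF 5 = FF 1 * S0 ∧ Y0 * FF 2 = FF 13 * Y0 ∧
    Y0 * FF 13 = FF 15 * Y0 ∧ Y0 * FF 15 = FF 2 * Y0 ∧ K0 * Y0 = S0 * K0 ∧ J0 * J0 = 1 ∧ J0 * FF 1 = FF 1 * J0 ∧
    J0 * Y0 = Y0 * (Y0 * J0) ∧ permOf mC * permOf M22.c3A = Y0 * permOf mC ∧ permOf mC * permOf mI = 1 ∧
    permOf aC * FF 1 = FF 15 * permOf aC ∧ permOf aC * FF 4 = FF 13 * permOf aC := by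
  have : allL (fun p : List ℕ × List ℕ => weq p.1 p.2) [([powP yC 3], []), ([powP sC 3], []), ([sC, yC], [yC, sC]),
    ([yC, PA 1], [PA 1, yC]), ([yC, PA 4], [PA 4, yC]), ([sC, PA 1], [PA 4, sC]), ([sC, PA 4], [PA 5, sC]),
    ([sC, PA 5], [PA 1, sC]), ([yC, PA 2], [PA 13, yC]), ([yC, PA 13], [PA 15, yC]), ([yC, PA 15], [PA 2, yC]),
    ([kC, yC], [sC, kC]), ([jC, jC], []), ([jC, PA 1], [PA 1, jC]), ([jC, yC], [yC, yC, jC]),
    ([mC, M22.c3A], [yC, mC]), ([mC, mI], []), ([aC, PA 1], [PA 15, aC]), ([aC, PA 4], [PA 13, aC])] = true := by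
    decide +kernel
  simpa [allL_iff, weq_iff, okF, oky, oks, okk, okj, okm, okmI, oka, ok3, okPow, pPow] using this

theorem Y3 : Y0 ^ 3 = 1 := rels.1
theorem Y1 : Y0 ≠ 1 := permOf_ne_one oky (i := 1) (by norm_num) (by decide +kernel)

theorem three_conj {g : Equiv.Perm GolayPt} (hg : g ∈ Spor.M22) (h3 : g ^ 3 = 1) (h1 : g ≠ 1) :
    ∃ k ∈ Spor.M22, k * g * k⁻¹ = Y0 := by
  obtain ⟨e, he, i1, -, k, hk, i3⟩ := M22.table.data hg
  have := Fact.mk Nat.prime_three
  rw [orderOf_eq_prime h3 h1] at i1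
  have : ∀ e ∈ M22.cls, 3 = e.o → e.c = M22.c3A := by decide
  rw [this e he i1] at i3
  refine ⟨permOf mC * k⁻¹, mul_mem (gL _ (by simp)).2 (inv_mem hk), ?_⟩
  rw [← i3, show permOf mC * k⁻¹ * (k * permOf M22.c3A * k⁻¹) * (permOf mC * k⁻¹)⁻¹ =
    permOf mC * permOf M22.c3A * (permOf mC)⁻¹ by group, rels.2.2.2.2.2.2.2.2.2.2.2.2.2.2.2.1, mul_inv_cancel_right]

theorem centY {g : Equiv.Perm GolayPt} (hg : g ∈ Spor.M22) (c : g * Y0 = Y0 * g) :
    (T2 g → g ∈ Db) ∧ ∃ a b : ℕ, ∃ δ ∈ Db, g = Y0 ^ a * (S0 ^ b * δ) := by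
  have r1 := rels.2.2.2.2.2.2.2.2.2.2.2.2.2.2.2.1
  have r2 := rels.2.2.2.2.2.2.2.2.2.2.2.2.2.2.2.2.1
  have m := (gL mC (by simp)).2
  obtain ⟨d, ok, e, i⟩ := forall_elts M22.cent3A.1 (P := fun c => H54.force (wd [mC, c, mI]) fun c =>
      band (weq [powP c 24] []) (band (bimp (weq [powP c 8] []) (anyL (fun j => weq [c] [PA j]) [0, 1, 4, 5]))
      (anyL (fun a => anyL (fun b => anyL (fun j => weq [c] [powP yC a, powP sC b, PA j]) [0, 1, 4, 5]) [0, 1, 2])
        [0, 1, 2]))) (by decide +kernel) ((permOf mC)⁻¹ * g * permOf mC)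
    (mem_inf.2 ⟨mul_mem (mul_mem (inv_mem m) hg) m, mc.2 (by
      rw [mul_assoc, r1, ← mul_assoc, mul_assoc _ g, c, show permOf M22.c3A = (permOf mC)⁻¹ * (Y0 * permOf mC) by
        rw [← r1]; group]; group)⟩)
  obtain ⟨o, -, e2⟩ := wd_spec (L := [mC, d, mI]) (by simp [ok, okm, okmI])
  have e3 : permOf (wd [mC, d, mI]) = g := by
    rw [e2]; simp [e, eq_inv_of_mul_eq_one_right r2, mul_assoc]
  rw [H54.force_eq] at i
  generalize wd [mC, d, mI] = c at o e3 i
  simp only [band_eq_true, bimp_eq_true, anyL_iff] at i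
  obtain ⟨i1, i2, a, -, b, -, j, hj, i3⟩ := i
  have dj : ∀ j ∈ [0, 1, 4, 5], j < 16 ∧ FF j ∈ Db := by simp [mem_Db, F0]
  rw [weq_iff (by simp [okPow, o]) (by simp)] at i1 i2
  rw [weq_iff (by simp [o]) (by simp [okPow, oky, oks, okF, (dj j hj).1])] at i3
  refine ⟨fun t => ?_, a, b, _, (dj j hj).2, by simpa [e3, pPow, oky, oks] using i3⟩
  obtain ⟨j, hj, i4⟩ := i2 (by simpa [pPow, o, e3] using t.eight (by simpa [pPow, o, e3] using i1))
  rw [weq_iff (by simp [o]) (by simp [okF, (dj j hj).1])] at i4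
  have : g = FF j := by simpa [e3] using i4
  exact this ▸ (dj j hj).2

/-- elements centralising `d` and moving each `a ∈ L` within `{a, d a}` -/
def Tr2 {G : Type*} [Group G] {d : G} (dd : d * d = 1) (L : List G) : Subgroup G where
  carrier := {g | g * d = d * g ∧ ∀ a ∈ L, g * a = a * g ∨ g * a = d * a * g}
  one_mem' := ⟨by simp, fun a _ => by simp⟩
  mul_mem' {g h} hg hh := ⟨((show Commute g d from hg.1).mul_left hh.1).eq, fun a ha => by
    rcases hh.2 a ha with e | e <;> rcases hg.2 a ha with f | f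
    · left; rw [mul_assoc, e, ← mul_assoc, f, mul_assoc]
    · right; rw [mul_assoc, e, ← mul_assoc, f, mul_assoc]
    · right; rw [mul_assoc, e, ← mul_assoc, ← mul_assoc, hg.1, mul_assoc d, f]; group
    · left; rw [mul_assoc, e, ← mul_assoc, ← mul_assoc, hg.1, mul_assoc d, f, ← mul_assoc, ← mul_assoc, dd]; group⟩
  inv_mem' {g} hg := ⟨(show Commute g d from hg.1).inv_left.eq, fun a ha => by
    rcases hg.2 a ha with e | e
    · exact Or.inl (show Commute g a from e).inv_left.eq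
    · right
      calc g⁻¹ * a = g⁻¹ * (d * d * a * g) * g⁻¹ := by rw [dd]; group
        _ = g⁻¹ * (d * g) * a * g⁻¹ := by rw [mul_assoc d d, mul_assoc d, ← e]; group
        _ = _ := by rw [← hg.1]; group⟩

/-- `O₂` of the centraliser of `FF 1` -/
noncomputable def Sb : Subgroup (Equiv.Perm GolayPt) :=
  Spor.M22 ⊓ Tr2 (F_sq (F_mem 1 (by norm_num))) [FF 2, FF 13, FF 15]

theorem mem_Sb {g : Equiv.Perm GolayPt} : g ∈ Sb ↔ g ∈ Spor.M22 ∧ g * FF 1 = FF 1 * g ∧
    ∀ j ∈ [2, 13, 15], g * FF j = FF j * g ∨ g * FF j = FF 1 * FF j * g := by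
  simp [Sb, Tr2, ← SetLike.mem_coe]

/-- test for `Sb` -/
noncomputable def sbT (c : ℕ) : Bool :=
  allL (fun j => bor (weq [c, PA j] [PA j, c]) (weq [c, PA j] [PA 1, PA j, c])) [2, 13, 15]

theorem sbT_iff {c : ℕ} (o : okP c = true) : sbT c = true ↔
    ∀ j ∈ [2, 13, 15], permOf c * FF j = FF j * permOf c ∨ permOf c * FF j = FF 1 * FF j * permOf c := by
  simp [sbT, allL_iff, weq_iff, okF, o, mul_assoc]

/-- test for `Fb` -/
noncomputable def fbT (c : ℕ) : Bool := H54.force (wd [c]) fun c => anyLt 16 fun j => Nat.beq c (PA j)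

theorem fbT_spec {c : ℕ} (o : okP c = true) (h : fbT c = true) : permOf c ∈ Fb := by
  rw [fbT, H54.force_eq, anyLt_iff] at h
  obtain ⟨j, hj, e⟩ := h
  have := (wd_spec (L := [c]) (by simp [o])).2.2
  rw [Nat.eq_of_beq_eq_true e] at this
  exact ⟨j, hj, by simpa using this.symm⟩

theorem allD {P : ℕ → Bool} (h : H54.allElts cfg24 P M22.z2A cfg24.one = true) {g : Equiv.Perm GolayPt}
    (hg : g ∈ Spor.M22) (c : g * FF 1 = FF 1 * g) : ∃ d, okP d = true ∧ permOf d = g ∧ P d = true :=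
  forall_elts M22.cent2A.1 h g ⟨hg, mc.2 (by rwa [← PA_one])⟩

theorem D24 {g : Equiv.Perm GolayPt} (hg : g ∈ Spor.M22) (c : g * FF 1 = FF 1 * g) : g ^ 24 = 1 := by
  obtain ⟨d, o, rfl, i⟩ := allD (P := fun c => weq [powP c 24] []) (by decide +kernel) hg c
  simpa [weq_iff, okPow, o, pPow] using i

theorem norm_Fb {d : ℕ} (o : okP d = true)
    (i : allL (fun j => anyLt 16 fun k => weq [d, PA j] [PA k, d]) [1, 2, 4, 8] = true) :
    permOf d ∈ normalizer (Fb : Set (Equiv.Perm GolayPt)) := by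
  have key : ∀ j ∈ [1, 2, 4, 8], permOf d * FF j * (permOf d)⁻¹ ∈ Fb := fun j hj => by
    obtain ⟨k, hk, e⟩ := anyLt_iff.1 ((allL_iff _ _).1 i j hj)
    have : j < 16 := by simp at hj; omega
    rw [weq_iff (by simp [o, okF, this]) (by simp [o, okF, hk])] at e
    exact ⟨k, hk, mul_inv_eq_iff_eq_mul.2 (by simpa using e)⟩
  refine mem_normalizer_of_finite ?_
  rintro _ ⟨j, hj, rfl⟩
  revert j
  refine xor_induction (n := 4) (by simp [F0]) (fun i hi => key _ (by interval_cases i <;> simp)) fun a b ha hb i1 i2 => ?_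
  rw [← F_mul ha hb]
  simpa [mul_assoc] using mul_mem i1 i2

theorem D_norm {g : Equiv.Perm GolayPt} (hg : g ∈ Spor.M22) (c : g * FF 1 = FF 1 * g) :
    g ∈ normalizer (Fb : Set (Equiv.Perm GolayPt)) := by
  obtain ⟨d, o, rfl, i⟩ := allD (P := fun d => allL (fun j => anyLt 16 fun k => weq [d, PA j] [PA k, d]) [1, 2, 4, 8])
    (by decide +kernel) hg c
  exact norm_Fb o i

theorem nS : S0 ∈ normalizer (Fb : Set (Equiv.Perm GolayPt)) := norm_Fb oks (by decide +kernel)
theorem nA : permOf aC ∈ normalizer (Fb : Set (Equiv.Perm GolayPt)) := norm_Fb oka (by decide +kernel)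

theorem D_two {g : Equiv.Perm GolayPt} (hg : g ∈ Spor.M22) (c : g * FF 1 = FF 1 * g) (c' : g * FF 4 = FF 4 * g)
    (t : T2 g) : g ∈ Fb := by
  have := t.eight (D24 hg c)
  obtain ⟨d, o, rfl, i⟩ := allD (P := fun d => bimp (weq [d, PA 4] [PA 4, d]) (bimp (weq [powP d 8] []) (fbT d)))
    (by decide +kernel) hg c
  simp only [bimp_eq_true] at i
  exact fbT_spec o (i (by simpa [weq_iff, o, okF] using c') (by simpa [weq_iff, o, okPow, pPow] using this))

theorem D_cent {g : Equiv.Perm GolayPt} (hg : g ∈ Spor.M22) (c : g * FF 1 = FF 1 * g) (c' : g * FF 4 = FF 4 * g)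
    {j : ℕ} (hj : j ∈ [2, 13, 15]) (c2 : g * FF j = FF j * g) : g ∈ Fb := by
  obtain ⟨d, o, rfl, i⟩ := allD (P := fun d => bimp (weq [d, PA 4] [PA 4, d])
    (allL (fun j => bimp (weq [d, PA j] [PA j, d]) (fbT d)) [2, 13, 15])) (by decide +kernel) hg c
  have : j < 16 := by simp at hj; omega
  simp only [bimp_eq_true, allL_iff] at i
  exact fbT_spec o (i (by simpa [weq_iff, o, okF] using c') j hj (by simpa [weq_iff, o, okF, this] using c2))

theorem A_two {g : Equiv.Perm GolayPt} (hg : g ∈ Spor.M22) (c : g * FF 15 = FF 15 * g) (c' : g * FF 13 = FF 13 * g)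
    (t : T2 g) : g ∈ Fb := by
  have m := (gL aC (by simp)).2
  have key : ∀ i j, permOf aC * FF i = FF j * permOf aC → g * FF j = FF j * g →
      (permOf aC)⁻¹ * g * permOf aC * FF i = FF i * ((permOf aC)⁻¹ * g * permOf aC) := fun i j e c => by
    rw [← conj_comm, e, mul_inv_cancel_right, c]
  exact (mem_normalizer_iff''.1 nA g).2 (D_two (mul_mem (mul_mem (inv_mem m) hg) m)
    (key _ _ rels.2.2.2.2.2.2.2.2.2.2.2.2.2.2.2.2.2.1 c) (key _ _ rels.2.2.2.2.2.2.2.2.2.2.2.2.2.2.2.2.2.2 c') (t.conj' _))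

theorem Sb_facts {g : Equiv.Perm GolayPt} (hg : g ∈ Sb) : g ^ 4 = 1 ∧ (g * Y0) ^ 3 ∈ Fb ∧
    ∃ f ∈ Fb, g * FF 4 = f * FF 4 * g ∧ ((f * Y0) ^ 3 = 1 ∨ (f * Y0) ^ 3 = FF 1) := by
  obtain ⟨i1, i2, i3⟩ := mem_Sb.1 hg
  obtain ⟨d, o, rfl, i⟩ := allD (P := fun d => bimp (sbT d) (band (weq [powP d 4] []) (band (fbT (powP (mulP d yC) 3))
    (anyLt 16 fun k => band (weq [d, PA 4] [PA k, PA 4, d]) (bor (weq [powP (mulP (PA k) yC) 3] [])
      (weq [powP (mulP (PA k) yC) 3] [PA 1])))))) (by decide +kernel) i1 i2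
  simp only [bimp_eq_true, band_eq_true, anyLt_iff, bor_eq_true] at i
  obtain ⟨j1, j2, k, hk, j3, j4⟩ := i ((sbT_iff o).2 i3)
  have o2 := okP_mulP (okF k hk) oky
  refine ⟨by simpa [weq_iff, o, okPow, pPow] using j1, ?_, FF k, F_mem k hk,
    by simpa [weq_iff, o, okF, hk, mul_assoc] using j3, ?_⟩
  · simpa [pPow, okP_mulP o oky, permOf_mulP o oky] using fbT_spec (okPow 3 (okP_mulP o oky)) j2
  · simpa [weq_iff, okPow, pPow, o2, okF, permOf_mulP (okF k hk) oky] using j4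

theorem Sb_le : Sb ≤ Spor.M22 := inf_le_left
theorem Sb_two : IsPGroup 2 Sb := isP2 fun _ hg => ⟨2, (Sb_facts hg).1⟩

theorem Sb_of {g : Equiv.Perm GolayPt} (hg : g ∈ Spor.M22) (c : g * FF 1 = FF 1 * g) (t : T2 g)
    (t' : T2 (g * (Y0 * g * Y0⁻¹))) : g ∈ Sb := by
  have e1 := t.eight (D24 hg c)
  have e2 := t'.eight (D24 (mul_mem hg (mul_mem (mul_mem mY hg) (inv_mem mY)))
    ((show Commute g _ from c).mul_left (((show Commute Y0 _ from rels.2.2.2.1).mul_left c).mul_left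
      (show Commute Y0 _ from rels.2.2.2.1).inv_left)).eq)
  rw [inv3 Y3] at e2
  obtain ⟨d, o, rfl, i⟩ := allD (P := fun d => bimp (weq [powP d 8] []) (bimp (weq [powP (wd [d, yC, d, yC, yC]) 8] [])
    (sbT d))) (by decide +kernel) hg c
  obtain ⟨o2, -, e⟩ := wd_spec (L := [d, yC, d, yC, yC]) (by simp [o, oky])
  simp only [bimp_eq_true] at i
  exact mem_Sb.2 ⟨hg, c, (sbT_iff o).1 (i (by simpa [weq_iff, o, okPow, pPow] using e1)
    (by simpa [weq_iff, o2, okPow, pPow, e, mul_assoc] using e2))⟩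

theorem Sb_conjY {g : Equiv.Perm GolayPt} (hg : g ∈ Spor.M22) (c : g * FF 1 = FF 1 * g) :
    g * Y0 * g⁻¹ * Y0⁻¹ ∈ Sb ∨ g * Y0 * g⁻¹ * Y0⁻¹⁻¹ ∈ Sb := by
  have e := D24 hg c
  have cy : Commute Y0 (FF 1) := rels.2.2.2.1
  have cg : Commute (g * Y0 * g⁻¹) (FF 1) := ((show Commute g _ from c).mul_left cy).mul_left (show Commute g _ from c).inv_left
  have mg := mul_mem (mul_mem hg mY) (inv_mem hg)
  have gi : g⁻¹ = g ^ 23 := inv_eq_of_mul_eq_one_right (by rw [← pow_succ', e])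
  obtain ⟨d, o, rfl, i⟩ := allD (P := fun d => H54.force (wd [d, yC, powP d 23, yC]) fun t =>
    bor (H54.force (mulP t yC) sbT) (sbT t)) (by decide +kernel) hg c
  obtain ⟨o2, -, e⟩ := wd_spec (L := [d, yC, powP d 23, yC]) (by simp [o, oky, okPow])
  simp only [H54.force_eq, bor_eq_true, sbT_iff o2, sbT_iff (okP_mulP o2 oky), permOf_mulP o2 oky, e] at i
  refine i.imp (fun i => mem_Sb.2 ⟨mul_mem mg (inv_mem mY), (cg.mul_left cy.inv_left).eq, ?_⟩)
    fun i => mem_Sb.2 ⟨mul_mem mg (inv_mem (inv_mem mY)), (cg.mul_left cy.inv_left.inv_left).eq, ?_⟩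
  · simpa [gi, inv3 Y3, pPow, o, mul_assoc] using i
  · simpa [gi, pPow, o, mul_assoc] using i

theorem Fb_le_Sb : Fb ≤ Sb := fun g hg => mem_Sb.2 ⟨Fb_le hg, eaF.comm' hg (F_mem 1 (by norm_num)), fun j hj =>
  Or.inl (eaF.comm' hg (F_mem j (by simp at hj; omega)))⟩

theorem B_facts : B0 ∈ Sb ∧ B0 ∉ Fb ∧ permOf n1 ∈ normalizer (Fb : Set (Equiv.Perm GolayPt)) ∧
    permOf n2 ∈ normalizer (Fb : Set (Equiv.Perm GolayPt)) ∧
    permOf n1 * B0 * (permOf n1)⁻¹ * (permOf n2 * B0 * (permOf n2)⁻¹) = Y0 * FF 1 := by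
  refine ⟨mem_Sb.2 ⟨(gL _ (by simp)).2, ?_, (sbT_iff okb).1 (by decide +kernel)⟩, fun i => ?_,
    norm_Fb okn1 (by decide +kernel), norm_Fb okn2 (by decide +kernel), ?_⟩
  · simpa [weq_iff, okb, okF] using (by decide +kernel : weq [bC, PA 1] [PA 1, bC] = true)
  · have : weq [bC, PA 2] [PA 2, bC] = true := by
      simpa [weq_iff, okb, okF] using eaF.comm' i (F_mem 2 (by norm_num))
    exact absurd this (by decide +kernel)
  · have o1 : okP 984145955898224257781652527201464768 = true := by decide +kernel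
    have o2 : okP 967677631548944687450613297713681664 = true := by decide +kernel
    rw [permOf_inv_of_mul okn1 o1 (by decide +kernel), permOf_inv_of_mul okn2 o2 (by decide +kernel)]
    simpa [weq_iff, okb, okF, okn1, okn2, oky, o1, o2, mul_assoc] using (by decide +kernel : weq [n1, bC,
      984145955898224257781652527201464768, n2, bC, 967677631548944687450613297713681664] [yC, PA 1] = true)

theorem A_cases {f : Equiv.Perm GolayPt} (hf : f ∈ Fb) (e : (f * Y0) ^ 3 = 1) :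
    f = 1 ∨ f = FF 2 ∨ f = FF 13 ∨ f = FF 15 := by
  obtain ⟨j, hj, rfl⟩ := mem_Fb.1 hf
  have := (H54.allLt_iff _ _).1 (by decide +kernel : H54.allLt (fun j => bimp (weq [powP (mulP (PA j) yC) 3] [])
    (anyL (Nat.beq j) [0, 2, 13, 15])) 16 = true) j hj
  simp only [bimp_eq_true, anyL_iff, Nat.beq_eq] at this
  obtain ⟨k, hk, rfl⟩ := this (by simpa [weq_iff, okPow, pPow, okP_mulP (okF j hj) oky, permOf_mulP (okF j hj) oky] using e)
  simp only [List.mem_cons, List.not_mem_nil, or_false] at hk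
  rcases hk with rfl | rfl | rfl | rfl <;> simp [F0]

theorem S_fpf {f : Equiv.Perm GolayPt} (hf : f ∈ Fb) (e : S0 * f = f * S0) : f = 1 := by
  obtain ⟨j, hj, rfl⟩ := mem_Fb.1 hf
  have := (H54.allLt_iff _ _).1 (by decide +kernel : H54.allLt (fun j => bimp (weq [sC, PA j] [PA j, sC])
    (Nat.beq j 0)) 16 = true) j hj
  simp only [bimp_eq_true, Nat.beq_eq] at this
  rw [this (by simpa [weq_iff, oks, okF, hj] using e), F0]

theorem K_ti {f : Equiv.Perm GolayPt} (hf : f ∈ Fb) (e : K0⁻¹ * f * K0 ∈ Fb) : f = 1 := by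
  obtain ⟨j, hj, rfl⟩ := mem_Fb.1 hf
  obtain ⟨i, hi, e⟩ := mem_Fb.1 e
  have := (H54.allLt_iff _ _).1 ((H54.allLt_iff _ _).1 (by decide +kernel : H54.allLt (fun j => H54.allLt (fun i =>
    bimp (weq [PA j, kC] [kC, PA i]) (Nat.beq j 0)) 16) 16 = true) j hj) i hi
  simp only [bimp_eq_true, Nat.beq_eq] at this
  rw [this (by simpa [weq_iff, okk, okF, hj, hi] using (by rw [← e]; group : FF j * K0 = K0 * FF i)), F0]

/-- an element of order three normalising a hyperplane of `Fb` -/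
theorem hyp {a : ℕ} (ha : a ∈ [2, 13, 15]) : ∃ r ∈ Spor.M22, r ^ 3 = 1 ∧ r ≠ 1 ∧
    r ∈ normalizer (Fb : Set (Equiv.Perm GolayPt)) ∧ ∃ W : List ℕ, (∀ j ∈ W, j < 16 ∧ ∃ i ∈ [0, 1, 4, 5], j = i ∨ j = a ^^^ i) ∧
      (∀ j ∈ [1, 4, a], ∃ k ∈ W, FF j * r = r * FF k) ∧ ∃ f d, f < 16 ∧ (∀ j, j < 16 → j ∈ W ∨ j ^^^ f ∈ W) ∧ d ∈ W ∧ d ≠ 0 ∧
        r * FF f = FF f * r ∧ r * FF d = FF d * r := by
  have key : ∀ (r : ℕ) (W : List ℕ) (f d : ℕ), band (gM r) (band (weq [powP r 3] [])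
      (band (allL (fun j => anyLt 16 fun k => weq [r, PA j] [PA k, r]) [1, 2, 4, 8])
      (band (allL (fun j => anyL (fun k => weq [PA j, r] [r, PA k]) W) [1, 4, a])
      (band (weq [r, PA f] [PA f, r]) (weq [r, PA d] [PA d, r]))))) = true → ap r 1 ≠ 1 →
      (∀ j ∈ W, j < 16 ∧ ∃ i ∈ [0, 1, 4, 5], j = i ∨ j = a ^^^ i) → f < 16 → (∀ j, j < 16 → j ∈ W ∨ j ^^^ f ∈ W) →
      d ∈ W → d ≠ 0 → _ := fun r W f d h h1 h2 h3 h4 h5 h6 => by
    simp only [band_eq_true] at h
    obtain ⟨i1, i2, i3, i4, i5, i6⟩ := h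
    have o := (gM_good i1).1
    have a16 : a < 16 := by simp at ha; omega
    exact (⟨permOf r, (gM_good i1).2, by simpa [weq_iff, okPow, pPow, o] using i2, permOf_ne_one o (by norm_num) h1,
      norm_Fb o i3, W, h2, fun j hj => by
        obtain ⟨k, hk, e⟩ := (anyL_iff _ _).1 ((allL_iff _ _).1 i4 j hj)
        have : j < 16 := by simp at hj; omega
        exact ⟨k, hk, by simpa [weq_iff, o, okF, this, (h2 k hk).1] using e⟩, f, d, h3, h4, h5, h6,
      by simpa [weq_iff, o, okF, h3] using i5, by simpa [weq_iff, o, okF, (h2 d h5).1] using i6⟩ :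
      ∃ r ∈ Spor.M22, r ^ 3 = 1 ∧ r ≠ 1 ∧ r ∈ normalizer (Fb : Set (Equiv.Perm GolayPt)) ∧ ∃ W : List ℕ,
      (∀ j ∈ W, j < 16 ∧ ∃ i ∈ [0, 1, 4, 5], j = i ∨ j = a ^^^ i) ∧ (∀ j ∈ [1, 4, a], ∃ k ∈ W, FF j * r = r * FF k) ∧
      ∃ f d, f < 16 ∧ (∀ j, j < 16 → j ∈ W ∨ j ^^^ f ∈ W) ∧ d ∈ W ∧ d ≠ 0 ∧ r * FF f = FF f * r ∧ r * FF d = FF d * r)
  simp only [List.mem_cons, List.not_mem_nil, or_false] at ha
  rcases ha with rfl | rfl | rfl
  · exact key 973692633517811849810739245368289536 [0, 1, 2, 3, 4, 5, 6, 7] 13 2 (by decide +kernel) (by decide +kernel)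
      (by decide) (by decide) (by decide) (by decide) (by decide)
  · exact key 980494843057268936939454006968108736 [0, 1, 4, 5, 8, 9, 12, 13] 7 13 (by decide +kernel) (by decide +kernel)
      (by decide) (by decide) (by decide) (by decide) (by decide)
  · exact key 980780575203181226744757132830574880 [0, 1, 4, 5, 10, 11, 14, 15] 7 15 (by decide +kernel)
      (by decide +kernel) (by decide) (by decide) (by decide) (by decide) (by decide)

theorem gen_M22 {L : Subgroup (Equiv.Perm GolayPt)} (hY : Y0 ∈ L)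
    (h : ∀ m ∈ Spor.M22, m⁻¹ * Y0 * m ∈ L → m ∈ L) : Spor.M22 ≤ L := by
  have key : ∀ p : ℕ × ℕ, band (gM p.1) (band (gM p.2) (band (weq [yC, p.1] [p.1, p.2]) (weq [yC, p.2] [p.2, yC]))) = true →
      Good L p.1 := fun p hp => by
    simp only [band_eq_true] at hp
    obtain ⟨i1, i2, i3, i4⟩ := hp
    have o1 := gM_good i1
    have o2 := gM_good i2
    have e1 : Y0 * permOf p.1 = permOf p.1 * permOf p.2 := by simpa [weq_iff, oky, o1.1, o2.1] using i3
    have e2 : Y0 * permOf p.2 = permOf p.2 * Y0 := by simpa [weq_iff, oky, o2.1] using i4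
    refine ⟨o1.1, h _ o1.2 ?_⟩
    rw [mul_assoc, e1, inv_mul_cancel_left]
    exact h _ o2.2 (by rwa [mul_assoc, e2, inv_mul_cancel_left])
  refine M22_le_of_gens fun c hc => ?_
  simp only [gensM22, List.mem_cons, List.not_mem_nil, or_false] at hc
  rcases hc with rfl | rfl
  · have := (key (982211715465430980757818342581675360, 974272641976892884260886845382016032) (by decide +kernel)).mul
      ((key (971662429370166140423143586003552608, 973965867511211917863819511905529888) (by decide +kernel)).mul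
      (key (965936711517308955775099200795483584, 967283669121533928708412042007120480) (by decide +kernel)))
    rw [show mulP 982211715465430980757818342581675360 (mulP 971662429370166140423143586003552608 (965936711517308955775099200795483584)) =
      957393200131973007945984882150749856 by decide +kernel] at this
    exact this.2
  · have := (key (964525128714775123692093203081253056, 984106637096726504893470388001479264) (by decide +kernel)).mul
      ((key (957182305903938877696287816369178912, 973783900073874899862433206629994752) (by decide +kernel)).mul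
      ((key (960157047923142180294349512879976672, 967322132881652848478085874783245344) (by decide +kernel)).mul
      (key (966200062048914057304042082725936832, 973692633517811849810739245368289536) (by decide +kernel))))
    rw [show mulP 964525128714775123692093203081253056 (mulP 957182305903938877696287816369178912 (mulP 960157047923142180294349512879976672 (966200062048914057304042082725936832))) =
      971186602010631450166525792484525312 by decide +kernel] at this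
    exact this.2

theorem ext_cent {s : Equiv.Perm GolayPt} (hs : s ∈ M22ext) (h : ∀ f ∈ Fb, s * f = f * s) : s ∈ Spor.M22 := by
  have e : s • ofMask 13124355 = ofMask 13124355 := by
    have := Fix_conj s (FF 1)
    rw [h _ (F_mem 1 (by norm_num)), mul_inv_cancel_right, Fix_permOf (okF 1 (by norm_num)),
      show fixM (PA 1) = 13124355 by decide +kernel] at this
    exact this.symm
  obtain ⟨d, o, rfl, i⟩ := forall_elts chN_good.1 (P := fun d => bimp (Nat.beq (mulP d M22.c2A) (mulP M22.c2A d))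
    (bimp (weq [d, PA 2] [PA 2, d]) (bimp (weq [d, PA 4] [PA 4, d]) (bimp (weq [d, PA 8] [PA 8, d])
    (Nat.beq (out d) 0))))) (by decide +kernel) s (mem_inf.2 ⟨hs, e⟩)
  simp only [bimp_eq_true, Nat.beq_eq] at i
  have o2 : okP M22.c2A = true := by decide +kernel
  refine mem_M22_of_ext hs ((out_eq_zero o).1 (i ((mulP_eq_iff o o2 o2 o).2 ?_) ?_ ?_ ?_))
  · exact PA_one ▸ h _ (F_mem 1 (by norm_num))
  all_goals simpa [weq_iff, o, okF] using h _ (F_mem _ (by norm_num))

end H66.Sev
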