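import Cfsg.Agent.Lib.J4.Sev3

/-!
# An element of order three with centraliser `3·M22` or `6·M22`: the standard configuration
-/

set_option autoImplicit false
set_option linter.unusedSectionVars false

namespace H66.Sev
open Cfsg H15 H95 H68 H75.J4 Subgroup H66.Six

variable {G : Type*} [Group G]

theorem cj3 {s a : G} (h : s ^ 3 = 1) : s * (s * (s * a * s⁻¹) * s⁻¹) * s⁻¹ = a := by
  rw [show s * (s * (s * a * s⁻¹) * s⁻¹) * s⁻¹ = s ^ 3 * a * (s ^ 3)⁻¹ by rw [pow_three]; group, h]; simp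

theorem cjm (s a b : G) : s * (a * b) * s⁻¹ = s * a * s⁻¹ * (s * b * s⁻¹) := by group

theorem cjc {s a : G} : s * a * s⁻¹ = a ↔ s * a = a * s := mul_inv_eq_iff_eq_mul

theorem cj_inj {s a b : G} : s * a * s⁻¹ = s * b * s⁻¹ ↔ a = b := by simp

theorem cj_one' {s a : G} : s * a * s⁻¹ = 1 ↔ a = 1 := by simp [mul_inv_eq_one]

theorem cj_sq {s a : G} (h : a * a = 1) : s * a * s⁻¹ * (s * a * s⁻¹) = 1 := by rw [← cjm, h]; simp

theorem cj_cube {s a : G} (h : a ^ 3 = 1) : (s * a * s⁻¹) ^ 3 = 1 := by rw [conj_pow, h]; simp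

/-- two automorphisms of order three of a four-group commute -/
theorem klein {s r a b c : G} (r3 : r ^ 3 = 1) (e1 : s * a * s⁻¹ = b) (e2 : s * b * s⁻¹ = c) (e3 : s * c * s⁻¹ = a)
    (ab : a * b = c) (aa : a * a = 1) (bb : b * b = 1) (cc : c * c = 1) (a1 : a ≠ 1) (b1 : b ≠ 1) (c1 : c ≠ 1)
    (ha : ∀ g, g = a ∨ g = b → r * g * r⁻¹ = 1 ∨ r * g * r⁻¹ = a ∨ r * g * r⁻¹ = b ∨ r * g * r⁻¹ = c) :
    ∀ g, g = a ∨ g = b → s * r * s⁻¹ * r⁻¹ * g = g * (s * r * s⁻¹ * r⁻¹) := by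
  have ba : b * a = c := by
    rw [← inv_eq_of_mul_eq_one_right aa, ← inv_eq_of_mul_eq_one_right bb, ← mul_inv_rev, ab,
      inv_eq_of_mul_eq_one_right cc]
  have ac : a * c = b := by rw [← ab, ← mul_assoc, aa, one_mul]
  have ca : c * a = b := by rw [← ba, mul_assoc, aa, mul_one]
  have bc : b * c = a := by rw [← ba, ← mul_assoc, bb, one_mul]
  have cb : c * b = a := by rw [← ab, mul_assoc, bb, mul_one]
  have nab : a ≠ b := fun e => c1 (by rw [← ab, ← e, aa])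
  have nac : a ≠ c := fun e => b1 (by rw [← ac, ← e, aa])
  have nbc : b ≠ c := fun e => a1 (by rw [← bc, ← e, bb])
  have key : (∀ g, g = a ∨ g = b ∨ g = c → s * (r * g * r⁻¹) * s⁻¹ = r * (s * g * s⁻¹) * r⁻¹) →
      (∀ g, g = a ∨ g = b → ∃ g', (g' = a ∨ g' = b ∨ g' = c) ∧ r * (s * g' * s⁻¹) * r⁻¹ = g) →
      ∀ g, g = a ∨ g = b → s * r * s⁻¹ * r⁻¹ * g = g * (s * r * s⁻¹ * r⁻¹) := fun h1 h2 g hg => by
    obtain ⟨g', i, e⟩ := h2 g hg
    refine cjc.1 ?_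
    calc s * r * s⁻¹ * r⁻¹ * g * (s * r * s⁻¹ * r⁻¹)⁻¹
        = s * r * s⁻¹ * r⁻¹ * (r * (s * g' * s⁻¹) * r⁻¹) * (s * r * s⁻¹ * r⁻¹)⁻¹ := by rw [e]
      _ = s * (r * g' * r⁻¹) * s⁻¹ := by group
      _ = g := by rw [h1 g' i, e]
  have ra := cj3 (a := a) r3
  have rb := cj3 (a := b) r3
  have rc := cjm r a b
  rw [ab] at rc
  rcases ha a (Or.inl rfl) with i | i | i | i
  · exact absurd (cj_one'.1 i) a1
  all_goals rcases ha b (Or.inr rfl) with j | j | j | j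
  all_goals first
    | exact absurd (cj_one'.1 j) b1
    | exact absurd (cj_inj.1 (i.trans j.symm)) nab
    | rw [i, j] at rc
  · rw [ab] at rc
    exact key (by rintro _ (rfl | rfl | rfl) <;> simp only [e1, e2, e3, i, j, rc]) (by
      rintro _ (rfl | rfl)
      exacts [⟨c, by simp, by rw [e3, i]⟩, ⟨a, by simp, by rw [e1, j]⟩])
  · rw [j, rc, ac, j] at rb
    exact absurd rb.symm nbc
  · rw [i, j, i] at ra
    exact absurd ra.symm nab
  · rw [bc] at rc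
    exact key (by rintro _ (rfl | rfl | rfl) <;> simp only [e1, e2, e3, i, j, rc]) (by
      rintro _ (rfl | rfl)
      exacts [⟨b, by simp, by rw [e2, rc]⟩, ⟨c, by simp, by rw [e3, i]⟩])
  · rw [ca] at rc
    exact key (by rintro _ (rfl | rfl | rfl) <;> simp only [e1, e2, e3, i, j, rc]) (by
      rintro _ (rfl | rfl)
      exacts [⟨_, Or.inl rfl, by rw [e1, j]⟩, ⟨_, Or.inr (Or.inl rfl), by rw [e2, rc]⟩])
  · rw [i, rc, cb, i] at ra
    exact absurd ra.symm nac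

variable [Finite G]

namespace Hw
variable {x z : G} {φ : G → Equiv.Perm GolayPt} (h : Hw x z φ)
include h

theorem cmul {a b : G} (ha : a * x = x * a) (hb : b * x = x * b) : a * b * x = x * (a * b) :=
  ((show Commute a x from ha).mul_left hb).eq
theorem cinv {a : G} (ha : a * x = x * a) : a⁻¹ * x = x * a⁻¹ := (show Commute a x from ha).inv_left.eq
theorem ccj {a b : G} (ha : a * x = x * a) (hb : b * x = x * b) : a * b * a⁻¹ * x = x * (a * b * a⁻¹) :=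
  h.cmul (h.cmul ha hb) (h.cinv ha)
theorem cjz {a : G} (ha : a * x = x * a) : a * z * a⁻¹ = z := cjc.2 (h.zc a ha)

theorem comm3 {a b : G} (ha : a * x = x * a) (hb : b * x = x * b) (t : T2 a) (b3 : b ^ 3 = 1)
    (e : φ b * φ a = φ a * φ b) : b * a = a * b := by
  rcases h.eqT (h.ccj hb ha) ha (by rw [h.φ_conj hb ha, e, mul_inv_cancel_right]) (t.conj b) t with i | i
  · exact cjc.1 i
  · have := cj3 (a := a) b3
    rw [i, cjm b a z, i, h.cjz hb, mul_assoc a, h.zz, mul_one, i] at this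
    rw [this] at i
    exact cjc.1 i

theorem φ_ne {y : G} (c : y * x = x * y) (y3 : y ^ 3 = 1) (hy : y ∉ zpowers x) : φ y ≠ 1 :=
  fun e => hy (h.ker_three c e y3)

/-- the `2`-part of the preimage -/
noncomputable def lf {B : Subgroup (Equiv.Perm GolayPt)} (hB : B ≤ Spor.M22) (p2 : IsPGroup 2 B) : Subgroup G :=
  (h.lift hB p2).choose

theorem mem_lf {B : Subgroup (Equiv.Perm GolayPt)} {hB : B ≤ Spor.M22} {p2 : IsPGroup 2 B} {g : G} :
    g ∈ h.lf hB p2 ↔ g * x = x * g ∧ φ g ∈ B ∧ T2 g := (h.lift hB p2).choose_spec.1 g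

theorem card_lf {B : Subgroup (Equiv.Perm GolayPt)} (hB : B ≤ Spor.M22) (p2 : IsPGroup 2 B) :
    Nat.card (h.lf hB p2) = orderOf z * Nat.card B := (h.lift hB p2).choose_spec.2.1

theorem norm_lf {B : Subgroup (Equiv.Perm GolayPt)} {hB : B ≤ Spor.M22} {p2 : IsPGroup 2 B} {g : G}
    (c : g * x = x * g) (n : φ g ∈ normalizer (B : Set (Equiv.Perm GolayPt))) : g ∈ normalizer (h.lf hB p2 : Set G) :=
  mem_normalizer_of_finite fun a ha => by
    obtain ⟨i1, i2, i3⟩ := h.mem_lf.1 ha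
    exact h.mem_lf.2 ⟨h.ccj c i1, h.φ_conj c i1 ▸ conj_mem_of_mem_normalizer n i2, i3.conj g⟩

end Hw

/-- a normalised pair -/
structure Fy (x z : G) (φ : G → Equiv.Perm GolayPt) (y : G) : Prop extends Hw x z φ where
  cy : y * x = x * y
  y3 : y ^ 3 = 1
  φy : φ y = Y0

theorem Hw.exists_Fy {x z : G} {φ : G → Equiv.Perm GolayPt} (h : Hw x z φ) {y : G} (c : y * x = x * y) (y3 : y ^ 3 = 1)
    (hy : φ y ≠ 1) : ∃ m ∈ Spor.M22, Fy x z (fun a => m * φ a * m⁻¹) y := by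
  obtain ⟨m, hm, e⟩ := three_conj (h.mem y c) (by rw [← h.φ_pow c, y3, h.φ_one]) hy
  exact ⟨m, hm, h.twist hm, c, y3, e⟩

namespace Fy
variable {x z y : G} {φ : G → Equiv.Perm GolayPt} (h : Fy x z φ y)
include h

theorem hy : y ∉ zpowers x := fun e => Y1 (by
  rw [← h.φy]
  rcases zp3 h.cube e with rfl | rfl | rfl
  exacts [h.φ_one, h.φ_x, by rw [h.φ_inv rfl, h.φ_x, inv_one]])

theorem inv : Fy x⁻¹ z φ y := ⟨h.toHw.inv, (show Commute y x from h.cy).inv_right.eq, h.y3, h.φy⟩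

theorem φD {g : G} (c : g * x = x * g) (c' : g * y = y * g) (t : T2 g) : φ g ∈ Db :=
  (centY (h.mem g c) (by rw [← h.φy, ← h.mul _ _ c h.cy, ← h.mul _ _ h.cy c, c'])).1 (h.φT c t)

theorem ofD {g : G} (c : g * x = x * g) (e : φ g ∈ Db) (t : T2 g) : g * y = y * g := by
  refine (h.comm3 c h.cy t h.y3 ?_).symm
  rw [h.φy]
  rcases mem_Db.1 e with i | i | i | i <;> rw [i]
  exacts [by simp, rels.2.2.2.1, rels.2.2.2.2.1, by
    rw [show FF 5 = FF 1 * FF 4 from (F_mul (i := 1) (j := 4) (by norm_num) (by norm_num)).symm]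
    exact ((show Commute Y0 (FF 1) from rels.2.2.2.1).mul_right rels.2.2.2.2.1).eq]

theorem shear1 {k : G} (c : k * x = x * k) (e : φ k = K0) :
    k * y * k⁻¹ * y * (k * y * k⁻¹)⁻¹ = x * y ∨ k * y * k⁻¹ * y * (k * y * k⁻¹)⁻¹ = x⁻¹ * y := by
  have cs := h.ccj c h.cy
  have es : φ (k * y * k⁻¹) = S0 := by
    rw [h.φ_conj c h.cy, e, h.φy, rels.2.2.2.2.2.2.2.2.2.2.2.1, mul_inv_cancel_right]
  generalize k * y * k⁻¹ = s at cs es
  rcases h.eq3 (h.ccj cs h.cy) h.cy (by rw [h.φ_conj cs h.cy, es, h.φy, rels.2.2.1, mul_inv_cancel_right])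
    (cj_cube h.y3) h.y3 with i | i | i
  · exfalso
    obtain ⟨t, t1, t2⟩ := h.shear h.cy h.y3 h.hy
    obtain ⟨a, b, δ, hδ, e⟩ := (centY (h.mem t t1) (by
      rw [← h.φy, ← cjc, ← h.φ_conj t1 h.cy, t2, h.mul _ _ rfl h.cy, h.φ_x, one_mul])).2
    obtain ⟨d, d1, rfl, d2⟩ := h.liftT (Fb_le (Db_le hδ)) (T2.of_mem Db_two hδ)
    have c1 := ((show Commute y x from h.cy).pow_left a).eq
    have c2 := ((show Commute s x from cs).pow_left b).eq
    obtain ⟨v, hv, rfl⟩ := h.eq_mul t1 (h.cmul c1 (h.cmul c2 d1)) (by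
      rw [h.mul _ _ c1 (h.cmul c2 d1), h.mul _ _ c2 d1, h.φ_pow h.cy, h.φ_pow cs, h.φy, es, e])
    rw [(((((Commute.refl y).pow_left a).mul_left (((show Commute s y from cjc.1 i).pow_left b).mul_left
      (h.ofD d1 hδ d2))).mul_left (h.ker_comm hv h.cy).symm).eq), mul_inv_cancel_right] at t2
    exact h.x1 (by simpa using t2.symm)
  · exact Or.inl i
  · exact Or.inr (by rw [i, h.xinv, mul_assoc])

theorem shear3 : ∃ s, s * x = x * s ∧ s ^ 3 = 1 ∧ s * y * s⁻¹ = x * y := by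
  obtain ⟨k, c, e⟩ := h.surj _ mK
  have cs := h.ccj c h.cy
  have s3 := cj_cube (s := k) h.y3
  have := h.shear1 c e
  generalize k * y * k⁻¹ = s at cs s3 this
  rcases this with i | i
  · exact ⟨s, cs, s3, i⟩
  · refine ⟨s⁻¹, h.cinv cs, by rw [inv_pow, s3, inv_one], ?_⟩
    calc s⁻¹ * y * s⁻¹⁻¹ = s⁻¹ * x * (x⁻¹ * y) * s := by group
      _ = x * y := by rw [← i, h.cinv cs]; group

theorem conjY {r : G} (c : r * x = x * r) (r3 : r ^ 3 = 1) (r1 : φ r ≠ 1) : ∃ k, k * x = x * k ∧ k * y * k⁻¹ = r := by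
  obtain ⟨m, hm, e⟩ := three_conj (h.mem r c) (by rw [← h.φ_pow c, r3, h.φ_one]) r1
  obtain ⟨k, k1, rfl⟩ := h.surj m hm
  obtain ⟨s, s1, -, s2⟩ := h.shear3
  have e2 : ∀ l, l * y * l⁻¹ = k * r * k⁻¹ → k⁻¹ * l * y * (k⁻¹ * l)⁻¹ = r := fun l i => by
    calc k⁻¹ * l * y * (k⁻¹ * l)⁻¹ = k⁻¹ * (l * y * l⁻¹) * k := by group
      _ = r := by rw [i]; group
  rcases h.eq3 (h.ccj k1 c) h.cy (by rw [h.φ_conj k1 c, e, h.φy]) (cj_cube r3) h.y3 with i | i | i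
  · exact ⟨_, h.cmul (h.cinv k1) (by simp), e2 1 (by simp [i])⟩
  · exact ⟨_, h.cmul (h.cinv k1) s1, e2 s (by rw [i, s2])⟩
  · refine ⟨_, h.cmul (h.cinv k1) (h.cmul s1 s1), e2 (s * s) ?_⟩
    rw [i, show s * s * y * (s * s)⁻¹ = s * (s * y * s⁻¹) * s⁻¹ by group, s2, cjm, s2, cjc.2 s1]

theorem lift3 {r : Equiv.Perm GolayPt} (hr : r ∈ Spor.M22) (r3 : r ^ 3 = 1) (r1 : r ≠ 1) :
    ∃ k, k * x = x * k ∧ φ (k * y * k⁻¹) = r := by
  obtain ⟨m, hm, e⟩ := three_conj hr r3 r1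
  obtain ⟨k, k1, k2⟩ := h.surj _ (inv_mem hm)
  exact ⟨k, k1, by rw [h.φ_conj k1 h.cy, k2, h.φy, ← e]; group⟩

theorem twist {d : G} (c : d * x = x * d) (c' : d * y = y * d) (t : T2 d) (d1 : φ d ≠ 1) :
    ∃ m ∈ Spor.M22, Fy x z (fun a => m * φ a * m⁻¹) y ∧ m * φ d * m⁻¹ = FF 1 := by
  have key : ∀ m ∈ Spor.M22, m * Y0 = Y0 * m → Fy x z (fun a => m * φ a * m⁻¹) y := fun m hm e =>
    ⟨h.toHw.twist hm, h.cy, h.y3, by simp only [h.φy]; rw [e, mul_inv_cancel_right]⟩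
  have cS : Commute S0 Y0 := rels.2.2.1
  rcases mem_Db.1 (h.φD c c' t) with i | i | i | i
  · exact absurd i d1
  · exact ⟨1, one_mem _, key _ (one_mem _) (by simp), by simp [i]⟩
  · exact ⟨_, inv_mem mS, key _ (inv_mem mS) cS.inv_left.eq, by
      rw [i, inv_inv, mul_assoc, ← rels.2.2.2.2.2.1, inv_mul_cancel_left]⟩
  · exact ⟨_, mS, key _ mS cS, by rw [i, rels.2.2.2.2.2.2.2.1, mul_inv_cancel_right]⟩

end Fy

/-- the standard configuration -/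
structure St (x z : G) (φ : G → Equiv.Perm GolayPt) (y c k s u : G) : Prop extends Fy x z φ y where
  cx : c * x = x * c
  cc : c * c = 1
  φc : φ c = FF 1
  kx : k * x = x * k
  φk : φ k = K0
  se : s = k * y * k⁻¹
  sy : s * y * s⁻¹ = x * y
  c3 : c * (s * c * s⁻¹) = s * (s * c * s⁻¹) * s⁻¹
  ux : u * x * u⁻¹ = y
  uy : u * y * u⁻¹ = x⁻¹
  uc : u * c = c * u
  uc2 : u * (s * c * s⁻¹) = s * c * s⁻¹ * u
  cs : z = 1 ∨ (z ≠ 1 ∧ u * z * u⁻¹ = z * c)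

theorem St.mk' {x z y w c k : G} {φ ψ : G → Equiv.Perm GolayPt} (h : Fy x z φ y) (h' : Hw y w ψ) (cx : c * x = x * c)
    (cc : c * c = 1) (φc : φ c = FF 1) (kx : k * x = x * k) (φk : φ k = K0)
    (sy : k * y * k⁻¹ * y * (k * y * k⁻¹)⁻¹ = x * y) (cs : z = 1 ∨ (z ≠ 1 ∧ w = z * c)) :
    ∃ s u, St x z φ y c k s u := by
  obtain ⟨s, se⟩ : ∃ s, s = k * y * k⁻¹ := ⟨_, rfl⟩
  rw [← se] at sy
  have sx : s * x = x * s := se ▸ h.ccj kx h.cy
  have s3 : s ^ 3 = 1 := se ▸ cj_cube h.y3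
  have es : φ s = S0 := by
    rw [se, h.φ_conj kx h.cy, φk, h.φy, rels.2.2.2.2.2.2.2.2.2.2.2.1, mul_inv_cancel_right]
  have hx : x ∉ zpowers y := fun e => by
    rcases zp3 h.y3 e with e | e | e
    · exact h.x1 e
    · exact h.hy (e ▸ mem_zpowers _)
    · exact h.hy (by rw [e]; simp)
  obtain ⟨m, hm, f⟩ := h'.exists_Fy h.cy.symm h.cube (h'.φ_ne h.cy.symm h.cube hx)
  obtain ⟨r, ry, r3, rx⟩ := f.shear3
  have s0 := cjc.2 sx
  have r0 := cjc.2 ry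
  have xy : Commute x y := h.cy.symm
  have i1 : r⁻¹ * y * r = y := by rw [mul_assoc, ← ry]; group
  have i2 : r⁻¹ * x * r = y⁻¹ * x := by
    calc r⁻¹ * x * r = (r⁻¹ * y * r)⁻¹ * (r⁻¹ * (y * x) * r) := by group
      _ = y⁻¹ * x := by rw [i1, ← rx]; group
  have i3 : s⁻¹ * x * s = x := by rw [mul_assoc, ← sx]; group
  have i4 : s⁻¹ * y * s = x⁻¹ * y := by
    calc s⁻¹ * y * s = (s⁻¹ * x * s)⁻¹ * (s⁻¹ * (x * y) * s) := by group
      _ = x⁻¹ * y := by rw [i3, ← sy]; group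
  have ux : s * r * s⁻¹ * r⁻¹ * x * (s * r * s⁻¹ * r⁻¹)⁻¹ = y := by
    calc s * r * s⁻¹ * r⁻¹ * x * (s * r * s⁻¹ * r⁻¹)⁻¹ = s * r * s⁻¹ * (r⁻¹ * x * r) * s * r⁻¹ * s⁻¹ := by group
      _ = s * r * ((s⁻¹ * y * s)⁻¹ * (s⁻¹ * x * s)) * r⁻¹ * s⁻¹ := by rw [i2]; group
      _ = s * ((r * y * r⁻¹)⁻¹ * (r * x * r⁻¹) * (r * x * r⁻¹)) * s⁻¹ := by rw [i3, i4]; group
      _ = s * x * s⁻¹ * (s * y * s⁻¹) * (s * x * s⁻¹) := by rw [r0, rx]; group
      _ = y := by rw [s0, sy, mul_assoc, mul_assoc, h.cy, ← mul_assoc, ← mul_assoc, ← pow_three', h.cube, one_mul]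
  have uy : s * r * s⁻¹ * r⁻¹ * y * (s * r * s⁻¹ * r⁻¹)⁻¹ = x⁻¹ := by
    calc s * r * s⁻¹ * r⁻¹ * y * (s * r * s⁻¹ * r⁻¹)⁻¹ = s * r * s⁻¹ * (r⁻¹ * y * r) * s * r⁻¹ * s⁻¹ := by group
      _ = s * r * (s⁻¹ * y * s) * r⁻¹ * s⁻¹ := by rw [i1]; group
      _ = s * ((r * x * r⁻¹)⁻¹ * (r * y * r⁻¹)) * s⁻¹ := by rw [i4]; group
      _ = (s * x * s⁻¹)⁻¹ := by rw [r0, rx]; group
      _ = x⁻¹ := by rw [s0]
  have c2x := h.ccj sx cx
  have c3x := h.ccj sx c2x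
  have p2 : φ (s * c * s⁻¹) = FF 4 := by rw [h.φ_conj sx cx, es, φc, rels.2.2.2.2.2.1, mul_inv_cancel_right]
  have p3 : φ (s * (s * c * s⁻¹) * s⁻¹) = FF 5 := by
    rw [h.φ_conj sx c2x, es, p2, rels.2.2.2.2.2.2.1, mul_inv_cancel_right]
  have p4 : φ (c * (s * c * s⁻¹)) = FF 5 := by rw [h.mul _ _ cx c2x, φc, p2, F_mul (by norm_num) (by norm_num)]; rfl
  have ne : ∀ g j, φ g = FF j → j < 16 → j ≠ 0 → g ≠ 1 := fun g j e i1 i2 e' =>
    F_ne i1 i2 (by rw [← e, e', h.φ_one])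
  have cy : c * y = y * c := h.ofD cx (φc ▸ mem_Db.2 (by simp)) (T2.of_sq cc)
  have c2y : s * c * s⁻¹ * y = y * (s * c * s⁻¹) := h.ofD c2x (p2 ▸ mem_Db.2 (by simp)) (T2.of_sq (cj_sq cc))
  have fin : c * (s * c * s⁻¹) = s * (s * c * s⁻¹) * s⁻¹ → (∀ g, g = c ∨ g = s * c * s⁻¹ → r * g * r⁻¹ = 1 ∨
      r * g * r⁻¹ = c ∨ r * g * r⁻¹ = s * c * s⁻¹ ∨ r * g * r⁻¹ = s * (s * c * s⁻¹) * s⁻¹) →
      ∃ s u, St x z φ y c k s u := fun e1 e2 => by
    have := klein r3 rfl rfl (cj3 s3) e1 cc (cj_sq cc) (cj_sq (cj_sq cc)) (ne _ _ φc (by norm_num) (by norm_num))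
      (ne _ _ p2 (by norm_num) (by norm_num)) (ne _ _ p3 (by norm_num) (by norm_num)) e2
    exact ⟨s, _, h, cx, cc, φc, kx, φk, se, sy, e1, ux, uy, this _ (Or.inl rfl), this _ (Or.inr rfl),
      cs.imp_right fun i => ⟨i.1, by rw [← i.2]; exact (ux ▸ h.conj _).zuniq h'⟩⟩
  have sq : T2 (c * (s * c * s⁻¹)) := by
    obtain ⟨T, h1, -, -⟩ := h.lift (Db_le.trans Fb_le) Db_two
    exact ((h1 _).1 (mul_mem ((h1 _).2 ⟨cx, φc ▸ mem_Db.2 (by simp), T2.of_sq cc⟩)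
      ((h1 _).2 ⟨c2x, p2 ▸ mem_Db.2 (by simp), T2.of_sq (cj_sq cc)⟩))).2.2
  have alt := h.eqT (h.cmul cx c2x) c3x (p4.trans p3.symm) sq (T2.of_sq (cj_sq (cj_sq cc)))
  rcases cs with z1 | ⟨z1, e⟩
  · subst z1
    refine fin (by simpa using alt) fun g hg => ?_
    have g1 : g * x = x * g ∧ g * y = y * g ∧ T2 g := by
      rcases hg with rfl | rfl
      exacts [⟨cx, cy, T2.of_sq cc⟩, ⟨c2x, c2y, T2.of_sq (cj_sq cc)⟩]
    have g2 : r * g * r⁻¹ * y = y * (r * g * r⁻¹) := h'.ccj ry g1.2.1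
    have g3 : r * g * r⁻¹ * x = x * (r * g * r⁻¹) := by
      have : r * g * r⁻¹ * (y * x) = y * x * (r * g * r⁻¹) := by rw [← rx, ← cjm, ← cjm, g1.1]
      rwa [← mul_assoc, g2, mul_assoc, mul_assoc y, mul_right_inj] at this
    have t := g1.2.2.conj r
    rcases mem_Db.1 (h.φD g3 g2 t) with i | i | i | i
    · exact Or.inl (by simpa using h.kerT g3 i t)
    · exact Or.inr (Or.inl (by simpa using h.eqT g3 cx (i.trans φc.symm) t (T2.of_sq cc)))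
    · exact Or.inr (Or.inr (Or.inl (by simpa using h.eqT g3 c2x (i.trans p2.symm) t (T2.of_sq (cj_sq cc)))))
    · exact Or.inr (Or.inr (Or.inr (by simpa using h.eqT g3 c3x (i.trans p3.symm) t (T2.of_sq (cj_sq (cj_sq cc))))))
  · have zc : ∀ g, g * x = x * g → z * g = g * z := fun g hg => (h.zc g hg).symm
    have sz := h.cjz sx
    have rw' := h'.cjz ry
    have j1 : r * z * r⁻¹ = s * w * s⁻¹ := (rx ▸ h.conj r).zuniq (by rw [h.cy, ← sy]; exact h'.conj s)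
    have j2 : r * (s * w * s⁻¹) * r⁻¹ = s * (s * w * s⁻¹) * s⁻¹ := by
      refine ((h'.conj s).conj r).zuniq (φ' := fun a => ψ (s⁻¹ * (s⁻¹ * a * s) * s)) ?_
      have := ((h'.conj s).conj s).inv
      rw [sy, cjm, sy, s0] at this
      rw [sy, cjm, rx, r0]
      convert this using 1
      rw [eq_inv_iff_mul_eq_one, h.cy]
      calc x * y * y * (x * (x * y)) = x * (y * y * (x * x)) * y := by group
        _ = x ^ 3 * y ^ 3 := by rw [← ((xy.mul_right xy).mul_left (xy.mul_right xy)).eq, pow_three, pow_three]; group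
        _ = 1 := by rw [h.cube, h.y3, one_mul]
    have j3 : r * (s * (s * w * s⁻¹) * s⁻¹) * r⁻¹ = z := by rw [← j2, ← j1, cj3 r3]
    have k1 : c = z * w := by rw [e, ← mul_assoc, h.zz, one_mul]
    have k2 : s * c * s⁻¹ = z * (s * w * s⁻¹) := by rw [k1, cjm, sz]
    have k3 : s * (s * c * s⁻¹) * s⁻¹ = z * (s * (s * w * s⁻¹) * s⁻¹) := by rw [k2, cjm, sz]
    have wx : w * x = x * w := (h'.zc x h.cy.symm).symm
    have w2x := h.ccj sx wx
    have w3x := h.ccj sx w2x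
    have w2y : s * w * s⁻¹ * y = y * (s * w * s⁻¹) := by
      have : z * (s * c * s⁻¹) = s * w * s⁻¹ := by rw [k2, ← mul_assoc, h.zz, one_mul]
      rw [← this]
      exact ((show Commute z y from zc y h.cy).mul_left c2y).eq
    have ww := h'.zc _ w2y
    have w2s := cj_sq (s := s) h'.zz
    have p5 : φ (s * w * s⁻¹) ≠ 1 := fun i => by
      rw [k2, h.mul _ _ h.zx w2x, i, h.φ_z, mul_one] at p2
      exact F_ne (by norm_num) (by norm_num) p2.symm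
    rw [k3, k2] at alt
    rw [k3] at fin
    generalize s * (s * w * s⁻¹) * s⁻¹ = w3 at *
    rw [k2] at fin
    generalize s * w * s⁻¹ = w2 at *
    have l0 : c * (z * w2) = w * w2 := by rw [k1, zc w wx, mul_assoc, ← mul_assoc z, h.zz, one_mul]
    have l1 : w * w2 = z * w3 := by
      rw [l0] at alt
      refine alt.resolve_right fun i => p5 ?_
      rw [zc w3 w3x, mul_assoc, h.zz, mul_one] at i
      have := cjm r w w2
      rw [i, j3, rw', j2, ← i, ← mul_assoc, h'.zz, one_mul] at this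
      rw [← this, h.φ_z]
    refine fin (by rw [l0, l1]) ?_
    rintro _ (rfl | rfl)
    · exact Or.inr (Or.inr (Or.inr (by rw [k1, cjm, j1, rw', ww, l1])))
    · refine Or.inr (Or.inl ?_)
      rw [cjm, j1, j2, k1, show w3 = z * (w * w2) by rw [l1, ← mul_assoc, h.zz, one_mul], ← ww, ← mul_assoc,
        ← zc w2 w2x, mul_assoc, ← mul_assoc w2, w2s, one_mul]

theorem exists_St {x z y w : G} {φ ψ : G → Equiv.Perm GolayPt} (h : Hw x z φ) (h' : Hw y w ψ) (cy : y * x = x * y)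
    (hy : y ∉ zpowers x) (cs : z = 1 ∨ (w ≠ 1 ∧ w ≠ z ∧ z ≠ 1)) :
    ∃ x' φ c k s u, (x' = x ∨ x' = x⁻¹) ∧ St x' z φ y c k s u := by
  obtain ⟨m, -, f⟩ := h.exists_Fy cy h'.cube (h.φ_ne cy h'.cube hy)
  generalize (fun a => m * φ a * m⁻¹) = φ at f
  obtain ⟨c, cx, cy', cc, c1, cs'⟩ : ∃ c, c * x = x * c ∧ c * y = y * c ∧ c * c = 1 ∧ φ c ≠ 1 ∧
      (z = 1 ∨ (z ≠ 1 ∧ w = z * c)) := by
    rcases cs with z1 | ⟨i1, i2, i3⟩
    · obtain ⟨c, i1, i2, i3⟩ := f.liftT (gF 1 (by norm_num)).2 (T2.of_sq (F_sq (F_mem 1 (by norm_num))))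
      refine ⟨c, i1, f.ofD i1 (i2 ▸ mem_Db.2 (by simp)) i3, ?_, i2 ▸ F_ne (by norm_num) (by norm_num), Or.inl z1⟩
      simpa [z1] using f.kerT (f.cmul i1 i1) (by rw [f.mul _ _ i1 i1, i2, F_sq (F_mem 1 (by norm_num))])
        (T2.mul rfl i3 i3)
    · have wx : w * x = x * w := (h'.zc x cy.symm).symm
      refine ⟨z * w, f.cmul f.zx wx, h'.cmul (f.zc y cy).symm h'.zx, ?_, fun e => ?_,
        Or.inr ⟨i3, by rw [← mul_assoc, f.zz, one_mul]⟩⟩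
      · rw [mul_assoc, ← mul_assoc w, f.zc w wx, mul_assoc, h'.zz, mul_one, f.zz]
      · rw [f.mul _ _ f.zx wx, f.φ_z, one_mul] at e
        exact (f.kerT wx e (T2.of_sq h'.zz)).elim i1 i2
  obtain ⟨m, -, f, e⟩ := f.twist cx cy' (T2.of_sq cc) c1
  obtain ⟨k, k1, k2⟩ := f.surj _ mK
  rcases f.shear1 k1 k2 with i | i
  · obtain ⟨s, u, t⟩ := St.mk' f h' cx cc e k1 k2 i cs'
    exact ⟨_, _, c, k, s, u, Or.inl rfl, t⟩
  · obtain ⟨s, u, t⟩ := St.mk' f.inv h' (show Commute c x from cx).inv_right.eq cc e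
      (show Commute k x from k1).inv_right.eq k2 i cs'
    exact ⟨_, _, c, k, s, u, Or.inr rfl, t⟩

end H66.Sev
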