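import Cfsg.Agent.Lib.J4.Sev4

/-!
# An element of order three with centraliser `3·M22` or `6·M22`: the centraliser of the hexad group
-/

set_option autoImplicit false
set_option linter.unusedSectionVars false

namespace H66.Sev
open Cfsg H15 H95 H68 H75.J4 Subgroup H66.Six

variable {G : Type*} [Group G] [Finite G]

theorem card_le_two {X : Subgroup G} {x : G} (h : ∀ g ∈ X, g * x * g⁻¹ = x ∨ g * x * g⁻¹ = x⁻¹) :
    Nat.card X ≤ 2 * Nat.card ↥(X ⊓ centralizer {x}) := by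
  rw [card_class X x]
  refine Nat.mul_le_mul_right _ ((Set.ncard_le_ncard (t := {x, x⁻¹}) ?_).trans ((Set.ncard_insert_le _ _).trans (by simp)))
  rintro _ ⟨g, hg, rfl⟩
  exact h g hg

theorem comm_of_inv {e x : G} (e3 : e ^ 3 = 1) (h : e * x * e⁻¹ = x ∨ e * x * e⁻¹ = x⁻¹) : e * x = x * e := by
  refine cjc.1 (h.elim id fun i => ?_)
  have j : e * x⁻¹ * e⁻¹ = x := by rw [show e * x⁻¹ * e⁻¹ = (e * x * e⁻¹)⁻¹ by group, i, inv_inv]
  have := cj3 (a := x) e3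
  rw [i, j, i] at this
  rw [i, this]

namespace Hw
variable {x z : G} {φ : G → Equiv.Perm GolayPt} (h : Hw x z φ)
include h

theorem pow6 {a : G} (ha : a * x = x * a) (e : φ a = 1) : a ^ 6 = 1 := by
  have := orderOf_dvd_of_mem_zpowers ((h.ker a ha).1 e)
  rw [h.order6] at this
  exact orderOf_dvd_iff_pow_eq_one.1 (this.trans (by rcases h.oz with e | e <;> rw [e]; norm_num))

theorem T2_of {g : G} (c : g * x = x * g) (e : φ g * FF 1 = FF 1 * φ g) (o : (orderOf g).Coprime 3) : T2 g := by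
  have := h.pow6 ((show Commute g x from c).pow_left 24).eq (by rw [h.φ_pow c, D24 (h.mem g c) e])
  rw [← pow_mul] at this
  refine ⟨4, orderOf_dvd_iff_pow_eq_one.1 ((o.pow_right 2).dvd_of_dvd_mul_left ?_)⟩
  exact orderOf_dvd_of_pow_eq_one this

theorem not_inv {t : G} (ht : t * x * t⁻¹ = x⁻¹) (c : ∀ f ∈ h.lf Fb_le Fb_two, f * t = t * f) : False := by
  obtain ⟨m, hm, e⟩ := h.ex_s (n := t) (Or.inr ht)
  obtain ⟨k, k1, rfl⟩ := h.surj m (ext_cent hm fun f hf => by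
    obtain ⟨g, g1, rfl, g2⟩ := h.liftT (Fb_le hf) (T2.of_mem Fb_two hf)
    rw [← cjc, ← e g g1, ← c g (h.mem_lf.2 ⟨g1, hf, g2⟩), mul_inv_cancel_right])
  have := h.cent_of_triv (n := k⁻¹ * t) fun a ha => by
    have i := h.conj_K' (Or.inr ht) ha
    have j : k⁻¹ * t * a * (k⁻¹ * t)⁻¹ = k⁻¹ * (t * a * t⁻¹) * k⁻¹⁻¹ := by group
    rw [j, ← h.ker _ (h.cmul (h.ccj (h.cinv k1) i) (h.cinv ha)), h.mul _ _ (h.ccj (h.cinv k1) i) (h.cinv ha),
      h.φ_conj (h.cinv k1) i, e a ha, h.φ_inv k1, h.φ_inv ha]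
    group
  have := h.cmul k1 this
  rw [mul_inv_cancel_left] at this
  rw [this, mul_inv_cancel_right] at ht
  exact h.x_ne_inv ht

end Hw

/-- the centraliser of the four-group -/
def YY (c s : G) : Subgroup G := centralizer {c} ⊓ centralizer {s * c * s⁻¹}

theorem mem_YY {c s g : G} : g ∈ YY c s ↔ g * c = c * g ∧ g * (s * c * s⁻¹) = s * c * s⁻¹ * g := by
  rw [YY, mem_inf, mc, mc]

namespace St
variable {x z y c k s u : G} {φ : G → Equiv.Perm GolayPt} (h : St x z φ y c k s u)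
include h

noncomputable abbrev F : Subgroup G := h.lf Fb_le Fb_two
noncomputable abbrev D : Subgroup G := h.lf (Db_le.trans Fb_le) Db_two
noncomputable abbrev S : Subgroup G := h.lf Sb_le Sb_two

theorem xy : Commute x y := h.cy.symm
theorem sx : s * x = x * s := h.se ▸ h.ccj h.kx h.cy
theorem s3 : s ^ 3 = 1 := h.se ▸ cj_cube h.y3
theorem φs : φ s = S0 := by
  rw [h.se, h.φ_conj h.kx h.cy, h.φk, h.φy, rels.2.2.2.2.2.2.2.2.2.2.2.1, mul_inv_cancel_right]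
theorem c2x : s * c * s⁻¹ * x = x * (s * c * s⁻¹) := h.ccj h.sx h.cx
theorem φc2 : φ (s * c * s⁻¹) = FF 4 := by
  rw [h.φ_conj h.sx h.cx, h.φs, h.φc, rels.2.2.2.2.2.1, mul_inv_cancel_right]
theorem c1 : c ≠ 1 := fun e => F_ne (i := 1) (by norm_num) (by norm_num) (by rw [← h.φc, e, h.φ_one])
theorem cz : c ≠ z := fun e => F_ne (i := 1) (by norm_num) (by norm_num) (by rw [← h.φc, e, h.φ_z])
theorem sxy : s * (x * y) * s⁻¹ = x * (x * y) := by rw [cjm s x y, h.sy, cjc.2 h.sx]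

theorem sq1 {g : G} (c : g * x = x * g) (t : T2 g) (e : φ g * φ g = 1) : g * g = 1 := by
  by_cases g1 : φ g = 1
  · rcases h.kerT c g1 t with rfl | rfl
    exacts [one_mul _, h.zz]
  obtain ⟨-, m, hm, i⟩ := M22_invol (h.mem g c) g1 e
  obtain ⟨l, l1, rfl⟩ := h.surj m hm
  have j := h.ccj l1 h.cx
  rcases h.eqT c j (by rw [h.φ_conj l1 h.cx, h.φc, ← i, ← PA_one]) t (T2.of_sq (cj_sq h.cc)) with rfl | rfl
  · exact cj_sq h.cc
  · rw [(show Commute _ z from h.zc _ j).symm.mul_mul_mul_comm, h.zz, mul_one, cj_sq h.cc]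

theorem F_sq' {g : G} (hg : g ∈ h.F) : g * g = 1 :=
  h.sq1 (h.mem_lf.1 hg).1 (h.mem_lf.1 hg).2.2 (F_sq (h.mem_lf.1 hg).2.1)
theorem F_comm {a b : G} (ha : a ∈ h.F) (hb : b ∈ h.F) : a * b = b * a := by
  rw [← inv_eq_of_mul_eq_one_right (h.F_sq' (mul_mem ha hb)), mul_inv_rev, inv_eq_of_mul_eq_one_right (h.F_sq' ha),
    inv_eq_of_mul_eq_one_right (h.F_sq' hb)]
theorem D_le : h.D ≤ h.F := fun _ hg => h.mem_lf.2 ((h.mem_lf.1 hg).imp_right fun i => ⟨Db_le i.1, i.2⟩)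
theorem F_le : h.F ≤ h.S := fun _ hg => h.mem_lf.2 ((h.mem_lf.1 hg).imp_right fun i => ⟨Fb_le_Sb i.1, i.2⟩)
theorem cD : c ∈ h.D := h.mem_lf.2 ⟨h.cx, h.φc ▸ mem_Db.2 (by simp), T2.of_sq h.cc⟩
theorem c2D : s * c * s⁻¹ ∈ h.D := h.mem_lf.2 ⟨h.c2x, h.φc2 ▸ mem_Db.2 (by simp), T2.of_sq (cj_sq h.cc)⟩
theorem zD : z ∈ h.D := h.mem_lf.2 ⟨h.zx, h.φ_z ▸ one_mem _, T2.of_sq h.zz⟩

theorem mem_F {g : G} : g ∈ h.F ↔ g * x = x * g ∧ g ∈ YY c s ∧ T2 g :=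
  ⟨fun hg => ⟨(h.mem_lf.1 hg).1, mem_YY.2 ⟨h.F_comm hg (h.D_le h.cD), h.F_comm hg (h.D_le h.c2D)⟩, (h.mem_lf.1 hg).2.2⟩,
    fun ⟨i1, i2, i3⟩ => h.mem_lf.2 ⟨i1, D_two (h.mem g i1)
      (by rw [← h.φc, ← h.mul _ _ i1 h.cx, ← h.mul _ _ h.cx i1, (mem_YY.1 i2).1])
      (by rw [← h.φc2, ← h.mul _ _ i1 h.c2x, ← h.mul _ _ h.c2x i1, (mem_YY.1 i2).2]) (h.φT i1 i3), i3⟩⟩

theorem mem_D {g : G} : g ∈ h.D ↔ g * x = x * g ∧ g * y = y * g ∧ T2 g :=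
  ⟨fun hg => ⟨(h.mem_lf.1 hg).1, h.ofD (h.mem_lf.1 hg).1 (h.mem_lf.1 hg).2.1 (h.mem_lf.1 hg).2.2, (h.mem_lf.1 hg).2.2⟩,
    fun ⟨i1, i2, i3⟩ => h.mem_lf.2 ⟨i1, h.φD i1 i2 i3, i3⟩⟩

theorem card_F : Nat.card h.F = orderOf z * 16 := by rw [h.card_lf, card_Fb]
theorem card_D : Nat.card h.D = orderOf z * 4 := by rw [h.card_lf, card_Db]
theorem two_F : IsPGroup 2 h.F := isP2 fun _ hg => (h.mem_lf.1 hg).2.2
theorem two_S : IsPGroup 2 h.S := isP2 fun _ hg => (h.mem_lf.1 hg).2.2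
theorem yc : y * c = c * y := (h.mem_D.1 h.cD).2.1.symm
theorem xY : x ∈ YY c s := mem_YY.2 ⟨h.cx.symm, h.c2x.symm⟩
theorem yY : y ∈ YY c s := mem_YY.2 ⟨h.yc, (h.mem_D.1 h.c2D).2.1.symm⟩
theorem uY : u ∈ YY c s := mem_YY.2 ⟨h.uc, h.uc2⟩
theorem sY : s ∈ normalizer (YY c s : Set G) := by
  refine inv_mem_iff.1 (mem_normalizer_of_finite fun g hg => mem_YY.2 ⟨?_, ?_⟩)
  · rw [inv_inv, ← conj_comm, (mem_YY.1 hg).2]
  · rw [inv_inv, ← conj_comm, ← h.c3]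
    exact ((show Commute g c from (mem_YY.1 hg).1).mul_right (mem_YY.1 hg).2).eq
theorem normF {g : G} (c1 : g * x * g⁻¹ = x ∨ g * x * g⁻¹ = x⁻¹) (n : g ∈ normalizer (YY c s : Set G)) :
    g ∈ normalizer (h.F : Set G) := mem_normalizer_of_finite fun a ha => by
  obtain ⟨i1, i2, i3⟩ := h.mem_F.1 ha
  exact h.mem_F.2 ⟨h.conj_K' c1 i1, conj_mem_of_mem_normalizer n i2, i3.conj g⟩
theorem xF : x ∈ normalizer (h.F : Set G) := h.normF (Or.inl (by simp)) (le_normalizer h.xY)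
theorem yF : y ∈ normalizer (h.F : Set G) := h.normF (Or.inl (cjc.2 h.cy)) (le_normalizer h.yY)
theorem sF : s ∈ normalizer (h.F : Set G) := h.normF (Or.inl (cjc.2 h.sx)) h.sY
theorem CF_le : centralizer (h.F : Set G) ≤ YY c s := fun _ hg =>
  mem_YY.2 ⟨(hg _ (h.D_le h.cD)).symm, (hg _ (h.D_le h.c2D)).symm⟩

theorem uu : u * u * x * (u * u)⁻¹ = x⁻¹ := by rw [← h.uy, ← h.ux]; group
theorem uuy : u * u * y * (u * u)⁻¹ = y⁻¹ := by
  rw [← h.ux, show (u * x * u⁻¹)⁻¹ = u * x⁻¹ * u⁻¹ by group, ← h.uy, h.ux]; group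

theorem normE {g : G} (i1 : g * x * g⁻¹ ∈ zpowers x ⊔ zpowers y) (i2 : g * y * g⁻¹ ∈ zpowers x ⊔ zpowers y) :
    g ∈ normalizer ((zpowers x ⊔ zpowers y : Subgroup G) : Set G) :=
  mem_normalizer_of_cj_le (cj_le_iff.2 (sup_le (zpowers_le.2 (mem_cj.2 (by rwa [inv_inv])))
    (zpowers_le.2 (mem_cj.2 (by rwa [inv_inv])))))

theorem xE : x ∈ zpowers x ⊔ zpowers y := mem_sup_left (mem_zpowers x)
theorem yE : y ∈ zpowers x ⊔ zpowers y := mem_sup_right (mem_zpowers y)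
theorem uE : u ∈ normalizer ((zpowers x ⊔ zpowers y : Subgroup G) : Set G) :=
  h.normE (h.ux ▸ h.yE) (h.uy ▸ inv_mem h.xE)
theorem sE : s ∈ normalizer ((zpowers x ⊔ zpowers y : Subgroup G) : Set G) :=
  h.normE (by rw [cjc.2 h.sx]; exact h.xE) (h.sy ▸ mul_mem h.xE h.yE)

theorem eight {e : G} (he : e ∈ zpowers x ⊔ zpowers y) (e1 : e ≠ 1) :
    ∃ g ∈ YY c s ⊓ normalizer ((zpowers x ⊔ zpowers y : Subgroup G) : Set G), g * x * g⁻¹ = e := by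
  have i0 : u ∈ YY c s ⊓ normalizer ((zpowers x ⊔ zpowers y : Subgroup G) : Set G) := ⟨h.uY, h.uE⟩
  have st : ∀ e, (∃ g ∈ YY c s ⊓ normalizer ((zpowers x ⊔ zpowers y : Subgroup G) : Set G), g * x * g⁻¹ = e) →
      ∃ g ∈ YY c s ⊓ normalizer ((zpowers x ⊔ zpowers y : Subgroup G) : Set G), g * x * g⁻¹ = s * e * s⁻¹ := by
    rintro _ ⟨g, hg, rfl⟩
    exact ⟨s * g * s⁻¹, mem_inf.2 ⟨conj_mem_of_mem_normalizer h.sY hg.1, mul_mem (mul_mem h.sE hg.2) (inv_mem h.sE)⟩, by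
      rw [show s * g * s⁻¹ * x * (s * g * s⁻¹)⁻¹ = s * (g * (s⁻¹ * x * s⁻¹⁻¹) * g⁻¹) * s⁻¹ by group,
        cjc.2 (h.cinv h.sx)]⟩
  obtain ⟨b, hb, e⟩ := memE h.cube h.y3 h.xy he
  have i1 : ∃ g ∈ YY c s ⊓ normalizer ((zpowers x ⊔ zpowers y : Subgroup G) : Set G), g * x * g⁻¹ = b := by
    rcases hb with rfl | rfl | rfl | rfl | rfl
    exacts [absurd (by simpa using e) e1, ⟨1, one_mem _, by simp⟩, ⟨u, i0, h.ux⟩, h.sy ▸ st _ ⟨u, i0, h.ux⟩,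
      h.sxy ▸ h.sy ▸ st _ (st _ ⟨u, i0, h.ux⟩)]
  rcases e with rfl | rfl
  · exact i1
  · obtain ⟨g, hg, rfl⟩ := i1
    exact ⟨g * (u * u), mul_mem hg (mul_mem i0 i0), by
      rw [show g * (u * u) * x * (g * (u * u))⁻¹ = g * (u * u * x * (u * u)⁻¹) * g⁻¹ by group, h.uu]; group⟩

theorem E3 {e : G} (he : e ∈ zpowers x ⊔ zpowers y) : e ^ 3 = 1 := by
  by_cases e1 : e = 1
  · rw [e1, one_pow]
  · obtain ⟨g, -, rfl⟩ := h.eight he e1
    exact cj_cube h.cube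

theorem four {e : G} (he : e = x ∨ e = y ∨ e = x * y ∨ e = x * (x * y)) : ∃ g ∈ YY c s, g * x * g⁻¹ = e := by
  have hy := h.hy
  have : e ∈ zpowers x ⊔ zpowers y ∧ e ≠ 1 := by
    rcases he with rfl | rfl | rfl | rfl
    · exact ⟨h.xE, h.x1⟩
    · exact ⟨h.yE, fun i => hy (i ▸ one_mem _)⟩
    · exact ⟨mul_mem h.xE h.yE, fun i => hy (eq_inv_of_mul_eq_one_right i ▸ inv_mem (mem_zpowers x))⟩
    · exact ⟨mul_mem h.xE (mul_mem h.xE h.yE), fun i => hy (by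
        rw [← mul_assoc] at i
        exact eq_inv_of_mul_eq_one_right i ▸ inv_mem (mul_mem (mem_zpowers x) (mem_zpowers x)))⟩
  obtain ⟨g, hg, i⟩ := h.eight this.1 this.2
  exact ⟨g, hg.1, i⟩

theorem φ_CF {g : G} (c1 : g * x = x * g) (hg : g ∈ centralizer (h.F : Set G)) : φ g ∈ Fb := by
  have key : ∀ j, j < 16 → φ g * FF j = FF j * φ g := fun j hj => by
    obtain ⟨a, a1, e, a2⟩ := h.liftT (gF j hj).2 (T2.of_mem Fb_two (F_mem j hj))
    rw [show FF j = φ a from e.symm, ← h.mul _ _ c1 a1, ← h.mul _ _ a1 c1, hg a (h.mem_lf.2 ⟨a1, e ▸ F_mem j hj, a2⟩)]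
  exact D_cent (h.mem g c1) (key 1 (by norm_num)) (key 4 (by norm_num)) (j := 2) (by simp) (key 2 (by norm_num))

theorem exists_R : ∃ R ≤ centralizer (h.F : Set G), IsPGroup 2 R ∧ (∀ g ∈ centralizer (h.F : Set G), T2 g → g ∈ R) ∧
    normalizer (h.F : Set G) ≤ normalizer (R : Set G) ∧
    ∀ g ∈ centralizer (h.F : Set G), ∃ m ∈ R, ∃ t ∈ zpowers x, g = m * t := by
  obtain ⟨R, r1, r2, r3, r4, r5⟩ := burn (R := centralizer (h.F : Set G)) h.x3 (fun f hf => (h.mem_F.1 hf).1)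
    (fun g hg c n e => by
      have i : φ g = 1 := (pow_eq_one_iff_of_coprime (m := 2) (n := 3 ^ n) (Nat.Coprime.pow_right n (by norm_num))).1
        ⟨by rw [pow_two, F_sq (h.φ_CF c hg)], by rw [← h.φ_pow c, e, h.φ_one]⟩
      refine h.ker_three c i ((pow_eq_one_iff_of_coprime (m := 2) (n := 3 ^ n)
        (Nat.Coprime.pow_right n (by norm_num))).1 ⟨by rw [← pow_mul, h.pow6 c i], ?_⟩)
      rw [← pow_mul, mul_comm, pow_mul, e, one_pow])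
    fun g hg e => h.not_inv e hg
  have n := (normalizer_le_normalizer_centralizer h.F).trans r4
  refine ⟨R, r1, two4 h.x3 h.y3 h.xy h.hy r2 (n h.xF) (n h.yF) fun e he => isP2 fun a ha => ?_,
    fun g hg t => r3 g hg t.coprime, n, r5⟩
  obtain ⟨g, hg, rfl⟩ := h.four he
  have i1 := conj_comm.1 (mc.1 ha.2)
  have i2 := (mem_YY.1 (mul_mem (mul_mem (inv_mem hg) (h.CF_le (r1 ha.1))) hg)).1
  have := h.T2_of i1 (by rw [← h.φc, ← h.mul _ _ i1 h.cx, ← h.mul _ _ h.cx i1, i2]) (by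
    rw [show orderOf (g⁻¹ * a * g) = orderOf a by
      simpa using orderOf_injective (MulAut.conj g⁻¹).toMonoidHom (MulAut.conj g⁻¹).injective a]
    exact Nat.Coprime.coprime_dvd_left (orderOf_dvd_natCard (⟨a, ha.1⟩ : R) |> fun d => by rwa [← orderOf_coe] at d)
      ((Nat.Prime.coprime_iff_not_dvd Nat.prime_three).2 r2).symm)
  simpa [mul_assoc] using this.conj g

theorem irrF {X : Subgroup G} (l1 : h.D ≤ X) (l2 : X ≤ h.F) (n : y ∈ normalizer (X : Set G)) : X ≤ h.D ∨ h.F ≤ X := by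
  have := Fact.mk Nat.prime_three
  have e := H4.card_modEq_card_inf_centralizer (q := 3) n (k := 1) h.y3
  rw [show X ⊓ centralizer {y} = h.D from le_antisymm (fun g hg => h.mem_D.2 ⟨(h.mem_F.1 (l2 hg.1)).1, mc.1 hg.2,
    (h.mem_F.1 (l2 hg.1)).2.2⟩) fun g hg => ⟨l1 hg, mc.2 (h.mem_D.1 hg).2.1⟩] at e
  obtain ⟨a, ha⟩ := card_dvd_of_le l1
  have d := card_dvd_of_le l2
  have c1 := h.card_D
  have c2 := h.card_F
  have : a ∣ 4 := by
    rw [ha, c1, c2, show orderOf z * 16 = orderOf z * 4 * 4 by ring] at d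
    exact Nat.dvd_of_mul_dvd_mul_left (by have := orderOf_pos z; omega) d
  have : a = 1 ∨ a = 2 ∨ a = 4 := by
    have := Nat.le_of_dvd (by norm_num) this
    interval_cases a <;> omega
  rcases this with rfl | rfl | rfl
  · exact Or.inl (eq_of_le_of_card_ge l1 (by omega)).ge
  · rw [ha, c1] at e
    rcases h.oz with i | i <;> rw [i] at e <;> exact absurd e (by decide)
  · exact Or.inr (eq_of_le_of_card_ge l2 (by omega)).ge

theorem dich : (∀ g ∈ centralizer (h.F : Set G), T2 g → g ∈ h.F) ∨ cj u h.F ≤ centralizer (h.F : Set G) := by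
  obtain ⟨R, r1, r2, r3, r4, -⟩ := h.exists_R
  have iy : ∀ g, g * y = y * g → u⁻¹ * g * u * x = x * (u⁻¹ * g * u) := fun g i => conj_comm.1 (h.ux.symm ▸ i)
  have ix : ∀ g, u⁻¹ * g * u * y = y * (u⁻¹ * g * u) → g * x = x * g := fun g i => by
    have := conj_comm.2 i
    rw [h.uy] at this
    simpa using (show Commute g x⁻¹ from this).inv_right.eq
  rcases h.irrF (X := cj u⁻¹ (R ⊓ centralizer {y})) (fun g hg => by
      obtain ⟨i1, i2, i3⟩ := h.mem_D.1 hg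
      have j1 : u * g * u⁻¹ * y = y * (u * g * u⁻¹) := by rw [← h.ux, ← cjm, ← cjm, i1]
      have j2 := ix (u * g * u⁻¹) (by simpa [mul_assoc] using i2)
      rw [mem_cj, inv_inv]
      exact ⟨r3 _ (fun f hf => h.F_comm hf (h.D_le (h.mem_D.2 ⟨j2, j1, i3.conj u⟩))) (i3.conj u), mc.2 j1⟩)
    (cj_le_iff'.2 fun g hg => by
      rw [inv_inv]
      exact h.mem_F.2 ⟨iy g (mc.1 hg.2), mul_mem (mul_mem (inv_mem h.uY) (h.CF_le (r1 hg.1))) h.uY,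
        (T2.of_mem r2 hg.1).conj' u⟩)
    (by
      rw [← cj_normalizer, mem_cj, inv_inv, h.uy]
      exact inv_mem (inf_normalizer_le_normalizer_inf ⟨r4 h.xF, le_normalizer (mc.2 h.xy)⟩)) with i | i
  · left
    have j : ∀ g ∈ R, g * y = y * g → g ∈ h.F := fun g hg c => by
      have := h.mem_D.1 (cj_le_iff'.1 i g ⟨hg, mc.2 c⟩)
      rw [inv_inv] at this
      exact h.D_le (h.mem_D.2 ⟨ix g this.2.1, c, T2.of_mem r2 hg⟩)
    have j2 : ∀ e, (∀ g ∈ R, g * e = e * g → g ∈ h.F) → ∀ g ∈ R, g * (s * e * s⁻¹) = s * e * s⁻¹ * g → g ∈ h.F :=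
      fun e he g hg c => (mem_normalizer_iff''.1 h.sF g).2
        (he _ (conj_mem_of_mem_normalizer' (r4 h.sF) hg) (conj_comm.1 c))
    exact fun g hg t => gen4 h.x3 h.y3 h.xy h.hy (not3 r2) (r4 h.xF) (r4 h.yF)
      (fun g hg => h.mem_F.2 ⟨mc.1 hg.2, h.CF_le (r1 hg.1), T2.of_mem r2 hg.1⟩) (fun g hg => j g hg.1 (mc.1 hg.2))
      (fun g hg => j2 _ j g hg.1 (h.sy ▸ mc.1 hg.2))
      (fun g hg => j2 _ (j2 _ j) g hg.1 (by rw [h.sy, h.sxy]; exact mc.1 hg.2)) (r3 g hg t)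
  · exact Or.inr ((cj_le_iff.2 i).trans (inf_le_left.trans r1))

section A
variable (ha : ∀ g ∈ centralizer (h.F : Set G), T2 g → g ∈ h.F)
include ha

theorem a_norm {n : G} (hn : n ∈ normalizer (h.F : Set G)) : n * x * n⁻¹ = x ∨ n * x * n⁻¹ = x⁻¹ := by
  obtain ⟨R, r1, r2, -, -, r5⟩ := h.exists_R
  obtain ⟨m, hm, t, ht, e⟩ := r5 _ (conj_mem_of_mem_normalizer (normalizer_le_normalizer_centralizer h.F hn)
    (show x ∈ centralizer (h.F : Set G) from fun f hf => (h.mem_F.1 hf).1))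
  have i := (h.mem_F.1 (ha m (r1 hm) (T2.of_mem r2 hm))).1
  have t3 : t ^ 3 = 1 ∧ Commute m t := by
    rcases zp3 h.cube ht with rfl | rfl | rfl
    exacts [by simp, ⟨h.cube, i⟩, ⟨by rw [inv_pow, h.cube, inv_one], (show Commute m x from i).inv_right⟩]
  have := cj_cube (s := n) h.cube
  rw [e, t3.2.mul_pow, t3.1, mul_one] at this
  rw [(T2.of_mem r2 hm).eq_one this, one_mul] at e
  exact (zp3 h.cube (e ▸ ht)).resolve_left fun i => h.x1 (cj_one'.1 i)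

theorem a_one {T : Subgroup G} (hT : SylowIn 2 T (YY c s)) (hF : h.F ≤ T) : ¬ T ≤ normalizer (h.F : Set G) := fun l => by
  have := Fact.mk Nat.prime_two
  have c1 := card_le_two fun g hg => h.a_norm ha (l hg)
  have c2 := card_le_of_le (show T ⊓ centralizer {x} ≤ h.F from fun g hg =>
    h.mem_F.2 ⟨mc.1 hg.2, hT.le hg.1, T2.of_mem hT.isPGroup hg.1⟩)
  obtain ⟨M, eM⟩ : ∃ M, M = YY c s ⊓ normalizer ((zpowers x ⊔ zpowers y : Subgroup G) : Set G) := ⟨_, rfl⟩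
  have key : ∀ f ∈ M, T2 f → f * x = x * f → f * y = y * f := fun f hf t c => by
    rw [eM] at hf
    have i1 := h.mem_F.2 ⟨c, hf.1, t⟩
    have i2 : T2 (f * y * f⁻¹ * y⁻¹) := by
      simpa [mul_assoc] using (h.mem_F.1 (mul_mem i1 (conj_mem_of_mem_normalizer h.yF (inv_mem i1)))).2.2
    have := i2.eq_one (h.E3 (mul_mem (conj_mem_of_mem_normalizer hf.2 h.yE) (inv_mem h.yE)))
    rwa [mul_inv_eq_one, cjc] at this
  have c3 := card_class M x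
  rw [show {w | ∃ n ∈ M, n * x * n⁻¹ = w} = ((zpowers x ⊔ zpowers y : Subgroup G) : Set G) \ {1} from Set.ext fun w =>
    ⟨fun ⟨n, hn, e⟩ => e ▸ ⟨conj_mem_of_mem_normalizer (eM.le hn).2 h.xE, fun i => h.x1 (cj_one'.1 i)⟩,
      fun i => eM ▸ h.eight i.1 i.2⟩, Set.ncard_sdiff_singleton_of_mem (one_mem _), ← Nat.card_coe_set_eq] at c3
  erw [card9 h.x3 h.y3 h.xy h.hy] at c3
  have d := card_dvd_of_le (show h.D ≤ M ⊓ centralizer {x} from fun g hg => by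
    obtain ⟨i1, i2, -⟩ := h.mem_D.1 hg
    exact ⟨eM.ge ⟨(h.mem_F.1 (h.D_le hg)).2.1, h.normE (by rw [cjc.2 i1]; exact h.xE) (by rw [cjc.2 i2]; exact h.yE)⟩,
      mc.2 i1⟩)
  obtain ⟨n, hn⟩ : ∃ n, 2 ^ n = orderOf z * 32 := by
    rcases h.oz with i | i <;> rw [i]
    exacts [⟨5, rfl⟩, ⟨6, rfl⟩]
  obtain ⟨P, p1, p2⟩ := exists_sub_card (D := M) (n := n) (by
    rw [hn, c3, show orderOf z * 32 = (9 - 1) * (orderOf z * 4) by ring, ← h.card_D]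
    exact mul_dvd_mul_left _ d)
  obtain ⟨g, -, l1⟩ := hT.exists_cj_le (IsPGroup.of_card p2) (p1.trans (eM.le.trans inf_le_left))
  have l2 : cj g⁻¹ h.F ≤ M := (le_cj_iff.1 (hF.trans (eq_of_le_of_card_ge l1 (by
    rw [card_cj, p2, hn]; rw [h.card_F] at c2; omega)).ge)).trans p1
  have sq : ∀ f ∈ cj g⁻¹ h.F, f * f = 1 := fun f hf => by
    simpa [mul_assoc] using cj_sq (s := g⁻¹) (h.F_sq' (mem_cj.1 hf))
  have c4 := card_le_two (X := cj g⁻¹ h.F) (x := x) fun f hf => by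
    have i0 := eM.le (l2 hf)
    have i1 := conj_mem_of_mem_normalizer i0.2 h.xE
    by_cases e : x * (f * x * f⁻¹) = 1
    · exact Or.inr (eq_inv_of_mul_eq_one_right e)
    left
    obtain ⟨n, hn, e2⟩ := h.eight (mul_mem h.xE i1) e
    have cE : ∀ a, a * x = x * a → a * y = y * a → ∀ b ∈ zpowers x ⊔ zpowers y, a * b = b * a := fun a a1 a2 b hb =>
      (mc.1 ((sup_le (zpowers_le.2 (mc.2 a1.symm)) (zpowers_le.2 (mc.2 a2.symm)) : _ ≤ centralizer {a}) hb)).symm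
    have i2 : n⁻¹ * f * n * x = x * (n⁻¹ * f * n) := by
      rw [← conj_comm, e2, ← cjc, cjm f x, show f * (f * x * f⁻¹) * f⁻¹ = f * f * x * (f * f)⁻¹ by group, sq f hf]
      simpa using (cE x rfl h.xy _ i1).symm
    have i3 := key _ (eM.ge (mul_mem (mul_mem (inv_mem hn) i0) hn)) ((T2.of_sq (sq f hf)).conj' n) i2
    have := cE _ i2 i3 _ (conj_mem_of_mem_normalizer' hn.2 h.xE)
    rw [cjc, ← cj_inj (s := n⁻¹), cjm, cjm, inv_inv, this]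
  have c5 := card_le_of_le (show cj g⁻¹ h.F ⊓ centralizer {x} ≤ h.D from fun f hf =>
    h.mem_D.2 ⟨mc.1 hf.2, key f (l2 hf.1) (T2.of_sq (sq f hf.1)) (mc.1 hf.2), T2.of_sq (sq f hf.1)⟩)
  rw [card_cj, h.card_F] at c4
  rw [h.card_D] at c5
  have := orderOf_pos z
  omega

theorem a_fin {e g x' f d : G} (eg : g * x * g⁻¹ = e) (ex : e * x = x * e) (e1 : φ e ≠ 1) (x3 : orderOf x' = 3)
    (ex' : e * x' = x' * e) (hf : f ∈ h.F) (hd : d ∈ h.F) (d1 : φ d ≠ 1) (ef : e * f = f * e) (ed : e * d = d * e)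
    (fx : f * x' * f⁻¹ = x'⁻¹) (dx : d * x' = x' * d) (zx : z * x' = x' * z) : False := by
  have h1 := eg ▸ h.conj g
  obtain ⟨m, -, h2⟩ := h1.exists_Fy ex.symm h.cube (h1.φ_ne ex.symm h.cube fun i => by
    rcases zp3 h1.cube i with i | i | i
    · exact h.x1 i
    · exact e1 (i ▸ h.φ_x)
    · exact e1 (by rw [← inv_inv e, ← i, h.φ_inv rfl, h.φ_x, inv_one]))
  generalize (fun a => m * φ (g⁻¹ * a * g) * m⁻¹) = ψ at h2
  obtain ⟨δ, i1, i2, i3, i4⟩ : ∃ δ ∈ h.F, e * δ = δ * e ∧ δ * x' = x' * δ ∧ ψ δ ≠ 1 := by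
    by_cases i : ψ d = 1
    · have j := (h2.kerT ed.symm i (h.mem_F.1 hd).2.2).resolve_left fun j => d1 (j ▸ h.φ_one)
      refine ⟨z, h.D_le h.zD, h.zc e ex, zx, fun i => ?_⟩
      rcases h2.kerT (h.zc e ex).symm i (T2.of_sq h.zz) with l | l
      · exact d1 (by rw [j, l]; simpa using h.φ_one)
      · exact d1 (by rw [j, ← l, h.φ_z])
    · exact ⟨d, hd, ed, dx, i⟩
  obtain ⟨m, -, h3, i5⟩ := h2.twist i2.symm (h.mem_F.1 i1).1 (h.mem_F.1 i1).2.2 i4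
  have i5' : (fun a => m * ψ a * m⁻¹) δ = FF 1 := i5
  generalize (fun a => m * ψ a * m⁻¹) = χ at h3 i5'
  have j1 := D_norm (h3.mem x' ex'.symm) (by
    rw [← i5', ← h3.mul _ _ ex'.symm i2.symm, ← h3.mul _ _ i2.symm ex'.symm, i3])
  have j2 := Db_le (h3.φD ef.symm (h.mem_F.1 hf).1 (h.mem_F.1 hf).2.2)
  have j3 := mul_mem (conj_mem_of_mem_normalizer j1 j2) (inv_mem j2)
  have c3 : x' ^ 3 = 1 := by rw [← x3, pow_orderOf_eq_one]
  have j4 : x' * f * x'⁻¹ * f⁻¹ = x'⁻¹ := by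
    rw [show x' * f * x'⁻¹ * f⁻¹ = x' * (f * x' * f⁻¹)⁻¹ by group, fx, inv_inv, inv3 c3]
  rw [← h3.φ_conj ex'.symm ef.symm, ← h3.φ_inv ef.symm, ← h3.mul _ _ (h3.ccj ex'.symm ef.symm) (h3.cinv ef.symm),
    j4] at j3
  have j5 := h3.ker_three (h3.cinv ex'.symm) ((T2.of_sq (F_sq j3)).eq_one (by
    rw [← h3.φ_pow (h3.cinv ex'.symm), inv_pow, c3, inv_one, h3.φ_one])) (by rw [inv_pow, c3, inv_one])
  have j6 : Commute f x'⁻¹ := by
    obtain ⟨n, hn⟩ := j5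
    exact hn ▸ (show Commute f e from ef.symm).zpow_right n
  rw [cjc.2 (by simpa using j6.inv_right.eq)] at fx
  have : orderOf x' ∣ 2 := orderOf_dvd_of_pow_eq_one (by rw [pow_two]; nth_rewrite 1 [fx]; simp)
  rw [x3] at this
  norm_num at this

theorem a_false : False := by
  have := Fact.mk Nat.prime_two
  obtain ⟨T, hT, hF⟩ := exists_sylowIn_ge h.two_F fun g hg => (h.mem_F.1 hg).2.1
  obtain ⟨n, n1, n2, n3⟩ := exists_mem_normalizer_of_lt hT.isPGroup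
    (inf_lt_left.2 (h.a_one ha hT hF) : T ⊓ normalizer (h.F : Set G) < T)
  obtain ⟨T1, e1⟩ : ∃ T1, T1 = T ⊓ normalizer (h.F : Set G) := ⟨_, rfl⟩
  rw [← e1] at n2 n3
  have FT : h.F ≤ T1 := e1 ▸ le_inf hF le_normalizer
  have mF : ∀ g ∈ T1, g * x = x * g → g ∈ h.F := fun g hg c =>
    h.mem_F.2 ⟨c, hT.le (e1.le hg).1, T2.of_mem hT.isPGroup (e1.le hg).1⟩
  have inv : ∀ g ∈ T1, g ∉ h.F → g * x * g⁻¹ = x⁻¹ := fun g hg i =>
    (h.a_norm ha (e1.le hg).2).resolve_left fun j => i (mF g hg (cjc.1 j))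
  have idx : ∀ g ∈ T1, ∀ g' ∈ T1, g ∉ h.F → g' ∉ h.F → g * g' ∈ h.F := fun g hg g' hg' i i' =>
    mF _ (mul_mem hg hg') (cjc.1 (by
      rw [show g * g' * x * (g * g')⁻¹ = (g * (g' * x * g'⁻¹)⁻¹ * g⁻¹)⁻¹⁻¹⁻¹ by group, inv g' hg' i', inv_inv x,
        inv g hg i]; simp))
  have F'T : cj n h.F ≤ T1 := cj_le_iff'.2 fun g hg => conj_mem_of_mem_normalizer n3 (FT hg)
  obtain ⟨t, t1, t2⟩ : ∃ t ∈ cj n h.F, t ∉ h.F := by
    by_contra hn
    push Not at hn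
    exact n2 (e1 ▸ ⟨n1, mem_normalizer_of_cj_le hn⟩)
  have sq : ∀ g ∈ cj n h.F, g * g = 1 := fun g hg => by simpa [mul_assoc] using cj_sq (s := n) (h.F_sq' (mem_cj.1 hg))
  have cm : ∀ g ∈ cj n h.F, ∀ g' ∈ cj n h.F, g * g' = g' * g := fun g hg g' hg' => by
    rw [← cj_inj (s := n⁻¹), cjm, cjm, inv_inv, h.F_comm (mem_cj.1 hg) (mem_cj.1 hg')]
  have idx' : ∀ g ∈ h.F, ∀ g' ∈ h.F, g ∉ cj n h.F → g' ∉ cj n h.F → g * g' ∈ cj n h.F := fun g hg g' hg' i i' =>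
    mem_cj.2 (by
      have := idx _ (conj_mem_of_mem_normalizer' n3 (FT hg)) _
        (conj_mem_of_mem_normalizer' n3 (FT hg')) (fun j => i (mem_cj.2 j)) fun j => i' (mem_cj.2 j)
      rwa [show n⁻¹ * g * n * (n⁻¹ * g' * n) = n⁻¹ * (g * g') * n by group] at this)
  have nall : ¬ ∀ g ∈ h.F, g * t = t * g := fun i => t2 (ha t i (T2.of_sq (sq t t1)))
  have ct : ∀ f ∈ h.F, f * t = t * f → f ∈ cj n h.F := fun f hf c => by
    by_contra i
    refine nall fun g hg => ?_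
    by_cases j : g ∈ cj n h.F
    · exact cm g j t t1
    · simpa using ((show Commute (g * f) t from cm _ (idx' g hg f hf j i) t t1).mul_left
        (show Commute f t from c).inv_left).eq
  have tx := inv t (F'T t1) t2
  have tY := mem_YY.1 (hT.le (e1.le (F'T t1)).1)
  have cF := h.D_le h.cD
  have c2F := h.D_le h.c2D
  have zF := h.D_le h.zD
  have c' := ct c cF tY.1.symm
  have c2' := ct _ c2F tY.2.symm
  have z' := ct z zF (h.norm_z (Or.inr tx)).symm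
  have lf : ∀ j, j < 16 → ∃ g ∈ h.F, φ g = FF j := fun j hj => by
    obtain ⟨a, a1, e, a2⟩ := h.liftT (gF j hj).2 (T2.of_mem Fb_two (F_mem j hj))
    exact ⟨a, h.mem_lf.2 ⟨a1, e ▸ F_mem j hj, a2⟩, e⟩
  have cx : ∀ g ∈ h.F, g * x = x * g := fun g hg => (h.mem_F.1 hg).1
  obtain ⟨a, a1, a2, a0, a3, a4⟩ : ∃ a ∈ h.F, a ∈ cj n h.F ∧ ∃ j ∈ [2, 13, 15], φ a = FF j := by
    obtain ⟨a, a1, a2⟩ := lf 2 (by norm_num)
    obtain ⟨b, b1, b2⟩ := lf 13 (by norm_num)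
    by_cases i : a ∈ cj n h.F
    · exact ⟨a, a1, i, 2, by simp, a2⟩
    by_cases j : b ∈ cj n h.F
    · exact ⟨b, b1, j, 13, by simp, b2⟩
    exact ⟨_, mul_mem a1 b1, idx' a a1 b b1 i j, 15, by simp, by
      rw [h.mul _ _ (cx a a1) (cx b b1), a2, b2, F_mul (by norm_num) (by norm_num)]; rfl⟩
  obtain ⟨r, r1, r3, r0, r4, W, w1, w2, f, d, f1, f2, d1, d0, rf, rd⟩ := hyp a3
  have a16 : a0 < 16 := by simp at a3; omega
  have mW : ∀ g ∈ h.F, ∀ i ∈ W, φ g = FF i → g ∈ cj n h.F := fun g hg i hi e => by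
    obtain ⟨-, j, hj, i2⟩ := w1 i hi
    obtain ⟨g1, j1, j2, j3, j4⟩ : ∃ g1 ∈ h.F, g1 ∈ cj n h.F ∧ φ g1 = FF j ∧ j < 16 := by
      simp only [List.mem_cons, List.not_mem_nil, or_false] at hj
      rcases hj with rfl | rfl | rfl | rfl
      · exact ⟨1, one_mem _, one_mem _, by rw [h.φ_one, F0], by norm_num⟩
      · exact ⟨c, cF, c', h.φc, by norm_num⟩
      · exact ⟨_, c2F, c2', h.φc2, by norm_num⟩
      · exact ⟨_, mul_mem cF c2F, mul_mem c' c2', by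
          rw [h.mul _ _ h.cx h.c2x, h.φc, h.φc2, F_mul (by norm_num) (by norm_num)]; rfl, by norm_num⟩
    obtain ⟨g0, k1, k2, k3⟩ : ∃ g0 ∈ h.F, g0 ∈ cj n h.F ∧ φ g0 = FF i := by
      rcases i2 with rfl | rfl
      · exact ⟨g1, j1, j2, j3⟩
      · exact ⟨_, mul_mem a1 j1, mul_mem a2 j2, by rw [h.mul _ _ (cx _ a1) (cx _ j1), a4, j3, F_mul a16 j4]⟩
    rcases h.eqT (cx g hg) (cx _ k1) (e.trans k3.symm) (h.mem_F.1 hg).2.2 (h.mem_F.1 k1).2.2 with rfl | rfl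
    exacts [k2, mul_mem k2 z']
  obtain ⟨l, l1, l2⟩ := h.lift3 r1 r3 r0
  have v1 := h.ccj l1 h.cy
  have v3 := cj_cube (s := l) h.y3
  generalize l * y * l⁻¹ = v at l2 v1 v3
  have vF : v ∈ normalizer (h.F : Set G) := h.norm_lf v1 (l2 ▸ r4)
  have px : v * t * v⁻¹ * t * x = x * (v * t * v⁻¹ * t) := cjc.1 (by
    rw [show v * t * v⁻¹ * t * x * (v * t * v⁻¹ * t)⁻¹ = v * (t * (v⁻¹ * (t * x * t⁻¹)⁻¹ * v⁻¹⁻¹) * t⁻¹)⁻¹ * v⁻¹ by group,
      tx, inv_inv x, cjc.2 (h.cinv v1), tx, inv_inv, cjc.2 v1])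
  have key : ∀ g ∈ h.F, g ∈ cj n h.F → ∀ j ∈ [1, 4, a0], φ g = FF j →
      φ (v * t * v⁻¹ * t) * FF j = FF j * φ (v * t * v⁻¹ * t) := fun g hg hg' j hj e => by
    obtain ⟨i, hi, e2⟩ := w2 j hj
    have i1 := mW _ (conj_mem_of_mem_normalizer' vF hg) i hi (by
      have := h.φ_conj (h.cinv v1) (cx g hg)
      rw [inv_inv] at this
      rw [this, h.φ_inv v1, l2, e, inv_inv, mul_assoc, e2, inv_mul_cancel_left])
    rw [← e, ← h.mul _ _ px (cx g hg), ← h.mul _ _ (cx g hg) px]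
    congr 1
    exact ((show Commute g _ from conj_comm.2 (cm _ i1 t t1)).mul_right (cm g hg' t t1)).symm.eq
  obtain ⟨j, hj, e⟩ := mem_Fb.1 (D_cent (h.mem _ px) (key c cF c' 1 (by simp) h.φc) (key _ c2F c2' 4 (by simp) h.φc2) a3
    (key a a1 a2 a0 (by simp) a4))
  obtain ⟨f0, g1, g2⟩ := lf j hj
  obtain ⟨b, hb, e2⟩ := h.eq_mul px (cx _ g1) (e.trans g2.symm)
  obtain ⟨q1, q2⟩ := h.ker_dec hb
  have g3 : f0 * (b ^ 3)⁻¹ ∈ h.F := mul_mem g1 (inv_mem (zpowers_le.2 zF q2))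
  have e3 : v * t * v⁻¹ = f0 * (b ^ 3)⁻¹ * b ^ 4 * t := by
    rw [← mul_one (v * t * v⁻¹), ← sq t t1, ← mul_assoc, e2]; group
  generalize f0 * (b ^ 3)⁻¹ = f1' at g3 e3
  generalize b ^ 4 = q at q1 e3
  have q3 : q ^ 3 = 1 ∧ t * q⁻¹ * t⁻¹ = q ∧ φ q = 1 ∧ ∀ g, g * x = x * g → Commute q g := by
    have tx' : t * x⁻¹ * t⁻¹ = x := by rw [show t * x⁻¹ * t⁻¹ = (t * x * t⁻¹)⁻¹ by group, tx, inv_inv]
    rcases zp3 h.cube q1 with rfl | rfl | rfl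
    · simp [h.φ_one]
    · exact ⟨h.cube, tx', h.φ_x, fun g hg => hg.symm⟩
    · exact ⟨by rw [inv_pow, h.cube, inv_one], by rw [inv_inv, tx], by rw [h.φ_inv rfl, h.φ_x, inv_one],
        fun g hg => (show Commute x g from hg.symm).inv_left⟩
  have et : q * v * t * (q * v)⁻¹ = f1' * t := by
    calc q * v * t * (q * v)⁻¹ = q * (v * t * v⁻¹) * q⁻¹ := by group
      _ = q * f1' * q * (t * q⁻¹ * t⁻¹) * t := by rw [e3]; group
      _ = f1' * q ^ 3 * t := by rw [q3.2.1, (q3.2.2.2 _ (cx _ g3)).eq, pow_three]; group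
      _ = _ := by rw [q3.1, mul_one]
  have ex : q * v * x = x * (q * v) := h.cmul (q3.2.2.2 x rfl).eq v1
  have e3 : (q * v) ^ 3 = 1 := by rw [(q3.2.2.2 v v1).mul_pow, q3.1, v3, one_mul]
  have eF : q * v ∈ normalizer (h.F : Set G) := mul_mem (zpowers_le.2 h.xF q1) vF
  have φe : φ (q * v) = r := by rw [h.mul _ _ (q3.2.2.2 x rfl).eq v1, q3.2.2.1, l2, one_mul]
  have ec : ∀ g ∈ h.F, r * φ g = φ g * r → q * v * g = g * (q * v) := fun g hg i =>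
    h.comm3 (cx g hg) ex (h.mem_F.1 hg).2.2 e3 (φe ▸ i)
  generalize q * v = e at et ex e3 eF φe ec
  have f1t : f1' * t = t * f1' := by
    have := cj_sq (s := e) (sq t t1)
    rw [et] at this
    rw [← inv_eq_of_mul_eq_one_right this, mul_inv_rev, inv_eq_of_mul_eq_one_right (sq t t1),
      inv_eq_of_mul_eq_one_right (h.F_sq' g3)]
  have n4 : ∀ g ∈ h.F, g ∈ cj n h.F → e * g * e⁻¹ ∈ cj n h.F := fun g hg hg' => by
    have i := conj_mem_of_mem_normalizer eF hg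
    refine ct _ i ?_
    have j : Commute (e * g * e⁻¹) (f1' * t) := by
      rw [← et, Commute, SemiconjBy, ← cjm, ← cjm, cm g hg' t t1]
    simpa using ((show Commute _ f1' from h.F_comm i g3).inv_right.mul_right j).eq
  have n5 : e ∈ normalizer (cj n h.F : Set G) := mem_normalizer_of_finite fun g hg => by
    by_cases i : g ∈ h.F
    · exact n4 g i hg
    · have := mul_mem (n4 _ (idx g (F'T hg) t (F'T t1) i t2) (mul_mem hg t1)) (inv_mem (mul_mem (ct _ g3 f1t) t1))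
      rwa [cjm, et, mul_inv_cancel_right] at this
  have n6 : e * (n * x * n⁻¹) = n * x * n⁻¹ * e := by
    rw [← cj_normalizer, mem_cj] at n5
    exact conj_comm.2 (comm_of_inv (by simpa using cj_cube (s := n⁻¹) e3) (h.a_norm ha n5))
  obtain ⟨l', -, l3⟩ := h.conjY ex e3 (φe ▸ r0)
  obtain ⟨f', g4, g5⟩ := lf f f1
  obtain ⟨d', g6, g7⟩ := lf d (w1 d d1).1
  have cx' : ∀ g ∈ cj n h.F, g * (n * x * n⁻¹) = n * x * n⁻¹ * g := fun g hg => conj_comm.2 (cx _ (mem_cj.1 hg))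
  have nf : f' ∉ cj n h.F := fun i => nall fun g hg => by
    obtain ⟨j, hj, e⟩ := mem_Fb.1 (h.mem_lf.1 hg).2.1
    refine cm g ?_ t t1
    rcases f2 j hj with i2 | i2
    · exact mW g hg j i2 e
    · exact (mul_mem_cancel_right i).1 (mW _ (mul_mem hg g4) _ i2 (by
        rw [h.mul _ _ (cx g hg) (cx _ g4), e, g5, F_mul hj f1]))
  refine h.a_fin ha (g := l' * u) (by rw [← l3, ← h.ux]; group) ex (φe ▸ r0) (h.conj n).x3 n6 g4 g6
    (g7 ▸ F_ne (w1 d d1).1 d0) (ec _ g4 (g5 ▸ rf)) (ec _ g6 (g7 ▸ rd)) ?_ (cx' _ (mW _ g6 d d1 g7)) (cx' z z')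
  have := inv _ (conj_mem_of_mem_normalizer' n3 (FT g4)) fun j => nf (mem_cj.2 j)
  rw [show f' * (n * x * n⁻¹) * f'⁻¹ = n * (n⁻¹ * f' * n * x * (n⁻¹ * f' * n)⁻¹) * n⁻¹ by group, this]
  group

end A

end St

end H66.Sev
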