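import Cfsg.Agent.Lib.J4.Sev5

/-!
# An element of order three with centraliser `3·M22` or `6·M22`: the elementary abelian group `V`
-/

set_option autoImplicit false
set_option linter.unusedSectionVars false

namespace H66.Sev
open Cfsg H15 H95 H68 H75.J4 Subgroup H66.Six
open H2 (relCentralizer mem_relCentralizer le_relCentralizer_iff commutator_sup_le)
open scoped commutatorElement

variable {G : Type*} [Group G] [Finite G]

theorem fixp {P X W : Subgroup G} (hP : IsPGroup 2 P) (hX : IsPGroup 2 X) (n : P ≤ normalizer (X : Set G))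
    (h : ∀ v ∈ X, (∀ g ∈ P, ⁅v, g⁆ ∈ W) → v ∈ W) : X ≤ W := by
  have := Fact.mk Nat.prime_two
  obtain ⟨m, hm⟩ := (isNilpotent_iff_lowerCentralSeries _).1 (hP.to_sup_of_normal_right' hX n).isNilpotent
  let L : ℕ → Subgroup G := fun i => Nat.rec X (fun _ L => ⁅L, P⁆) i
  have l1 : ∀ i, L i ≤ X ∧ L i ≤ (P ⊔ X).lowerCentralSeries i := fun i => by
    induction i with
    | zero => exact ⟨le_rfl, le_sup_right⟩
    | succ i ih => exact ⟨(commutator_mono ih.1 le_rfl).trans (le_normalizer_iff_commutator_le_left.1 n),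
        commutator_mono ih.2 le_sup_left⟩
  have l2 : ∀ i, L i ≤ W → X ≤ W := fun i => by
    induction i with
    | zero => exact id
    | succ i ih => exact fun l => ih fun v hv => h v ((l1 i).1 hv) fun g hg => l (commutator_mem_commutator hv hg)
  exact l2 m ((l1 m).2.trans (hm.le.trans bot_le))

theorem rc_norm {X Y : Subgroup G} {g : G} (h1 : g ∈ normalizer (X : Set G)) (h2 : g ∈ normalizer (Y : Set G)) :
    g ∈ normalizer (relCentralizer X Y : Set G) := mem_normalizer_of_finite fun a ha =>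
  ⟨mul_mem (mul_mem h2 ha.1) (inv_mem h2), fun v hv => by
    have := conj_mem_of_mem_normalizer h2 (ha.2 _ (conj_mem_of_mem_normalizer' h1 hv))
    rwa [show g * ⁅a, g⁻¹ * v * g⁆ * g⁻¹ = ⁅g * a * g⁻¹, v⁆ by simp only [commutatorElement_def]; group] at this⟩

theorem tr_sq {g : G} {X Y Z : Subgroup G} (h1 : ∀ v ∈ X, ⁅g, v⁆ ∈ Y) (h2 : ∀ v ∈ Y, ⁅g, v⁆ ∈ Z)
    (sq : ∀ v ∈ Y, v * v = 1) : ∀ v ∈ X, ⁅g * g, v⁆ ∈ Z := fun v hv => by
  have := h2 _ (h1 v hv)
  rwa [show ⁅g * g, v⁆ = ⁅g, ⁅g, v⁆⁆ * (⁅g, v⁆ * ⁅g, v⁆) by simp only [commutatorElement_def]; group,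
    sq _ (h1 v hv), mul_one]

theorem comm_of_sq {V : Subgroup G} (h : ∀ v ∈ V, v * v = 1) {a b : G} (ha : a ∈ V) (hb : b ∈ V) : a * b = b * a := by
  rw [← inv_eq_of_mul_eq_one_right (h _ (mul_mem ha hb)), mul_inv_rev, inv_eq_of_mul_eq_one_right (h _ ha),
    inv_eq_of_mul_eq_one_right (h _ hb)]

theorem cj_cent (g e : G) : cj g (centralizer {e}) = centralizer {g * e * g⁻¹} := by
  ext a; rw [mem_cj, mc, mc, conj_comm]

theorem cj_zp (g e : G) : cj g (zpowers e) = zpowers (g * e * g⁻¹) := MonoidHom.map_zpowers _ _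

theorem F15 : FF 1 * FF 4 = FF 5 := by rw [F_mul (by norm_num) (by norm_num)]; rfl

/-- the group `⟨x, y⟩` -/
abbrev EE (x y : G) : Subgroup G := zpowers x ⊔ zpowers y

namespace St
variable {x z y c k s u : G} {φ : G → Equiv.Perm GolayPt} (h : St x z φ y c k s u)
include h

theorem cE {e : G} (he : e ∈ EE x y) : e * x = x * e ∧ e * y = y * e :=
  ⟨mc.1 ((sup_le (zpowers_le.2 (mc.2 rfl)) (zpowers_le.2 (mc.2 h.cy)) : _ ≤ centralizer {x}) he),
    mc.1 ((sup_le (zpowers_le.2 (mc.2 h.xy)) (zpowers_le.2 (mc.2 rfl)) : _ ≤ centralizer {y}) he)⟩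

theorem commE {a : G} (h1 : a * x = x * a) (h2 : a * y = y * a) {e : G} (he : e ∈ EE x y) : a * e = e * a :=
  (mc.1 ((sup_le (zpowers_le.2 (mc.2 h1.symm)) (zpowers_le.2 (mc.2 h2.symm)) : _ ≤ centralizer {a}) he)).symm

theorem EY : EE x y ≤ YY c s := sup_le (zpowers_le.2 h.xY) (zpowers_le.2 h.yY)
theorem xyE : x * y ∈ EE x y := mul_mem h.xE h.yE
theorem x2yE : x * (x * y) ∈ EE x y := mul_mem h.xE h.xyE
theorem c2c : c * (s * c * s⁻¹) = s * c * s⁻¹ * c := h.F_comm (h.D_le h.cD) (h.D_le h.c2D)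
theorem sc3 : s * (c * (s * c * s⁻¹)) * s⁻¹ = c := by rw [h.c3, cj3 h.s3]

theorem inE {t : G} (h1 : t * x = x * t) (h2 : t * y = y * t) (h3 : t * c = c * t) (t3 : t ^ 3 = 1) : t ∈ EE x y := by
  obtain ⟨a, b, δ, hδ, e⟩ := (centY (h.mem t h1) (by rw [← h.φy, ← h.mul _ _ h1 h.cy, ← h.mul _ _ h.cy h1, h2])).2
  have c1 : Commute (φ t) (FF 1) := by
    rw [← h.φc]; show _ = _; rw [← h.mul _ _ h1 h.cx, ← h.mul _ _ h.cx h1, h3]
  have c2 : Commute δ (FF 1) := eaF.comm' (Db_le hδ) (F_mem 1 (by norm_num))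
  have c3 : Commute (S0 ^ (b % 3)) (FF 1) := by
    rw [← pow_eq_pow_mod b rels.2.1, show S0 ^ b = (Y0 ^ a)⁻¹ * φ t * δ⁻¹ by rw [e]; group]
    exact ((((show Commute Y0 (FF 1) from rels.2.2.2.1).pow_left a).inv_left).mul_left c1).mul_left c2.inv_left
  have c4 : S0 ^ b = 1 := by
    rw [pow_eq_pow_mod b rels.2.1]
    have := Nat.mod_lt b (show 0 < 3 by norm_num)
    have i1 := rels.2.2.2.2.2.1
    have i2 := rels.2.2.2.2.2.2.1
    generalize b % 3 = r at c3 this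
    interval_cases r
    · exact pow_zero _
    · rw [pow_one] at c3
      exact absurd ((F_inj (by norm_num) (by norm_num)).1 (mul_right_cancel (c3.eq.symm.trans i1))) (by norm_num)
    · have := c3.eq
      rw [pow_two, mul_assoc, i1, ← mul_assoc, i2, mul_assoc] at this
      exact absurd ((F_inj (by norm_num) (by norm_num)).1 (mul_right_cancel this)) (by norm_num)
  rw [c4, one_mul] at e
  have c5 : Commute (Y0 ^ a) δ := by
    refine Commute.pow_left ?_ a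
    rcases mem_Db.1 hδ with rfl | rfl | rfl | rfl
    exacts [Commute.one_right _, rels.2.2.2.1, rels.2.2.2.2.1, by
      rw [← F15]
      exact (show Commute Y0 _ from rels.2.2.2.1).mul_right rels.2.2.2.2.1]
  have c6 : δ = 1 := (T2.of_mem Db_two hδ).eq_one (by
    have := h.φ_pow h1 3
    rwa [t3, h.φ_one, e, c5.mul_pow, ← pow_mul, mul_comm a, pow_mul, Y3, one_pow, one_mul, eq_comm] at this)
  have i := pow_mem h.yE a
  rcases h.eq3 h1 (h.cE i).1 (by rw [h.φ_pow h.cy, h.φy, e, c6, mul_one]) t3 (h.E3 i) with rfl | rfl | rfl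
  exacts [i, mul_mem h.xE i, mul_mem h.xE (mul_mem h.xE i)]

theorem zE (z1 : z ≠ 1) {e t : G} {ψ : G → Equiv.Perm GolayPt} (h' : Hw e t ψ) (he : e ∈ EE x y) :
    t = z ∨ (t = z * c ∧ (e = y ∨ e = y⁻¹)) ∨ t = z * (s * c * s⁻¹) ∨ t = z * (c * (s * c * s⁻¹)) := by
  obtain ⟨b, hb, i⟩ := memE h.cube h.y3 h.xy he
  have h2 : Hw b t ψ := by
    rcases i with rfl | rfl
    exacts [h', by simpa using h'.inv]
  have hw := (h.cs.resolve_left z1).2
  have j1 := h.conj u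
  rw [h.ux, hw] at j1
  have j2 := j1.conj s
  rw [h.sy, cjm s z c, h.cjz h.sx] at j2
  have j3 := j2.conj s
  rw [h.sxy, cjm s z, h.cjz h.sx, ← h.c3] at j3
  rcases hb with rfl | rfl | rfl | rfl | rfl
  exacts [absurd rfl h2.x1, Or.inl (h2.zuniq h.toHw), Or.inr (Or.inl ⟨h2.zuniq j1, i⟩),
    Or.inr (Or.inr (Or.inl (h2.zuniq j2))), Or.inr (Or.inr (Or.inr (h2.zuniq j3)))]

theorem φc3 : φ (c * (s * c * s⁻¹)) = FF 5 := by
  rw [h.mul _ _ h.cx h.c2x, h.φc, h.φc2, F15]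

theorem φz_mul {a : G} (ha : a * x = x * a) : φ (z * a) = φ a := by rw [h.mul _ _ h.zx ha, h.φ_z, one_mul]

theorem zline (z1 : z ≠ 1) {e : G} {ψ : G → Equiv.Perm GolayPt} (h' : Hw e (z * c) ψ) (he : e ∈ EE x y) :
    e = y ∨ e = y⁻¹ := by
  rcases h.zE z1 h' he with i | i | i | i
  · exact absurd (mul_eq_left.1 i) h.c1
  · exact i.2
  · have := congrArg φ (mul_left_cancel i)
    rw [h.φc2, h.φc] at this
    exact absurd ((F_inj (by norm_num) (by norm_num)).1 this) (by norm_num)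
  · have := congrArg φ (mul_left_cancel i)
    rw [h.φc3, h.φc] at this
    exact absurd ((F_inj (by norm_num) (by norm_num)).1 this) (by norm_num)

theorem nconj0 (z1 : z ≠ 1) (n : G) : n * z * n⁻¹ ≠ c := fun e => by
  have := Fact.mk Nat.prime_three
  have h1 := e ▸ h.conj n
  obtain ⟨P, p1, p2, p3, -⟩ := h1.exists_P rfl h1.cube
  have hP : SylowIn 3 P (centralizer {c}) := ⟨fun g hg => mc.2 (h1.zc g (mc.1 (p1 hg))),
    IsPGroup.of_card (n := 3) p2, fun Q hQ l _ => h1.eq_of_le p1 p2 p3 hQ l⟩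
  obtain ⟨m, hm, l⟩ := hP.exists_le_cj (IsPGroup.of_card (n := 2) (card9 h.x3 h.y3 h.xy h.hy))
    fun g hg => mc.2 (mem_YY.1 (h.EY hg)).1
  have h2 := h1.conj m
  rw [cjc.2 (mc.1 hm)] at h2
  have l2 := l.trans (cj_mono m p1)
  rw [cj_cent] at l2
  have f1 : φ c = FF 1 := h.φc
  rcases h.zE z1 h2 (h.inE (mc.1 (l2 h.xE)).symm (mc.1 (l2 h.yE)).symm h2.zx.symm h2.cube) with i | i | i | i
  · exact h.cz i
  · exact z1 (mul_eq_right.1 i.1.symm)
  · rw [i, h.φz_mul h.c2x, h.φc2] at f1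
    exact absurd ((F_inj (by norm_num) (by norm_num)).1 f1) (by norm_num)
  · rw [i, h.φz_mul (h.cmul h.cx h.c2x), h.φc3] at f1
    exact absurd ((F_inj (by norm_num) (by norm_num)).1 f1) (by norm_num)

theorem nconj {a g : G} (ha : a * x = x * a) (t : T2 a) (a1 : φ a ≠ 1) (a2 : φ a * φ a = 1) (hg : g * x = x * g)
    (e : φ (g * a * g⁻¹) = φ a) : g * a = a * g := by
  refine cjc.1 ((h.eqT (h.ccj hg ha) ha e (t.conj g) t).elim id fun i => ?_)
  by_cases z1 : z = 1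
  · rwa [z1, mul_one] at i
  obtain ⟨-, m, hm, i2⟩ := M22_invol (h.mem a ha) a1 a2
  obtain ⟨l, l1, rfl⟩ := h.surj m hm
  have j := h.ccj l1 h.cx
  have i3 : g * (l * c * l⁻¹) * g⁻¹ = l * c * l⁻¹ * z := by
    rcases h.eqT ha j (by rw [h.φ_conj l1 h.cx, h.φc, ← i2, ← PA_one]) t (T2.of_sq (cj_sq h.cc)) with rfl | rfl
    · exact i
    · rw [cjm, h.cjz hg] at i
      exact mul_right_cancel i
  refine (h.nconj0 z1 ((l⁻¹ * g * l)⁻¹ * u) ?_).elim
  rw [show (l⁻¹ * g * l)⁻¹ * u * z * ((l⁻¹ * g * l)⁻¹ * u)⁻¹ = l⁻¹ * g⁻¹ * (l * (u * z * u⁻¹) * l⁻¹) * g * l by group,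
    (h.cs.resolve_left z1).2, cjm, h.cjz l1, ← h.zc _ j, ← i3]
  group

theorem shift (z1 : z = 1) : St x z φ (x * y) c k (x * s) (s * u * s⁻¹) := by
  have e : ∀ g, g * x = x * g → x * s * g * (x * s)⁻¹ = s * g * s⁻¹ := fun g hg => by
    rw [show x * s * g * (x * s)⁻¹ = x * (s * g * s⁻¹) * x⁻¹ by group, cjc.2 (h.ccj h.sx hg).symm]
  have i : ∀ g, u * g = g * u → s * u * s⁻¹ * (s * g * s⁻¹) = s * g * s⁻¹ * (s * u * s⁻¹) := fun g hg => by
    rw [← cjm, ← cjm, hg]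
  refine ⟨⟨h.toHw, h.cmul rfl h.cy, h.E3 h.xyE, by rw [h.mul _ _ rfl h.cy, h.φ_x, h.φy, one_mul]⟩, h.cx, h.cc, h.φc,
    h.kx, h.φk, by rw [cjm, ← h.se, cjc.2 h.kx], by rw [e _ (h.cmul rfl h.cy), h.sxy],
    by rw [e _ h.cx, e _ h.c2x, h.c3], ?_, ?_, ?_, by rw [e _ h.cx]; exact i _ h.uc, Or.inl z1⟩
  · rw [← h.sy, ← h.ux]
    nth_rewrite 1 [← cjc.2 h.sx]
    group
  · rw [← h.sy, ← cjc.2 (show Commute s x from h.sx).inv_right.eq, ← h.uy]
    group
  · have := i _ ((show Commute u c from h.uc).mul_right h.uc2).eq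
    rwa [h.sc3] at this

theorem exists_j : ∃ y' s' u' j, St x z φ y' c k s' u' ∧ j * x = x * j ∧ φ j = J0 ∧ T2 j ∧ j * y' * j⁻¹ = y'⁻¹ := by
  obtain ⟨j, j1, j2, j3⟩ := h.liftT mJ (T2.of_sq rels.2.2.2.2.2.2.2.2.2.2.2.2.1)
  have e := h.eq3 (h.ccj j1 h.cy) (h.cinv h.cy) (by
    rw [h.φ_conj j1 h.cy, h.φ_inv h.cy, j2, h.φy, rels.2.2.2.2.2.2.2.2.2.2.2.2.2.2.1, inv3 Y3]; group)
    (cj_cube h.y3) (by rw [inv_pow, h.y3, inv_one])
  by_cases z1 : z = 1
  · have c := h.xy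
    have x3 := h.cube
    rcases e with e | e | e
    · exact ⟨_, _, _, j, h, j1, j2, j3, e⟩
    · refine ⟨_, _, _, j, h.shift z1, j1, j2, j3, ?_⟩
      rw [cjm, cjc.2 j1, e, c.eq, mul_inv_rev, inv3 x3, mul_assoc]
    · refine ⟨_, _, _, j, (h.shift z1).shift z1, j1, j2, j3, ?_⟩
      rw [cjm, cjm, cjc.2 j1, e, ← mul_assoc x x y, ← inv3 x3, c.inv_left.eq, mul_inv_rev, inv_inv,
        show x * (x * (x * (x * y⁻¹))) = x ^ 3 * (x * y⁻¹) by rw [pow_three]; group, x3, one_mul]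
  · refine ⟨_, _, _, j, h, j1, j2, j3, ?_⟩
    have jc := h.nconj h.cx (T2.of_sq h.cc) (h.φc ▸ F_ne (by norm_num) (by norm_num))
      (h.φc ▸ F_sq (F_mem 1 (by norm_num))) j1 (by
        rw [h.φ_conj j1 h.cx, j2, h.φc, rels.2.2.2.2.2.2.2.2.2.2.2.2.2.1, mul_inv_cancel_right])
    have j4 := (h.conj u).conj j
    rw [h.ux, (h.cs.resolve_left z1).2, cjm j z c, h.cjz j1, cjc.2 jc] at j4
    refine (h.zline z1 j4 ?_).resolve_left fun i => ?_
    · have i := inv_mem h.yE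
      rcases e with e | e | e <;> rw [e]
      exacts [i, mul_mem h.xE i, mul_mem h.xE (mul_mem h.xE i)]
    · have := congrArg φ i
      rw [h.φ_conj j1 h.cy, j2, h.φy, rels.2.2.2.2.2.2.2.2.2.2.2.2.2.2.1, ← mul_assoc, mul_inv_cancel_right] at this
      exact Y1 (mul_eq_left.1 this)

section B
variable (hb : cj u h.F ≤ centralizer (h.F : Set G))
include hb

theorem PC {e g : G} (he : e ∈ EE x y) (e1 : e ≠ 1) (c1 : g * e = e * g) (hY : g ∈ YY c s) (t : T2 g) :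
    g ∈ centralizer (h.F : Set G) := by
  have step : ∀ e, (∀ g, g * e = e * g → g ∈ YY c s → T2 g → g ∈ centralizer (h.F : Set G)) →
      ∀ g, g * (s * e * s⁻¹) = s * e * s⁻¹ * g → g ∈ YY c s → T2 g → g ∈ centralizer (h.F : Set G) :=
    fun e he g c1 hY t => (mem_normalizer_iff''.1 (normalizer_le_normalizer_centralizer _ h.sF) g).2
      (he _ (conj_comm.1 c1) (conj_mem_of_mem_normalizer' h.sY hY) (t.conj' s))
  have i1 : ∀ g, g * y = y * g → g ∈ YY c s → T2 g → g ∈ centralizer (h.F : Set G) := fun g c1 hY t =>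
    hb (mem_cj.2 (h.mem_F.2 ⟨conj_comm.1 (h.ux.symm ▸ c1), mul_mem (mul_mem (inv_mem h.uY) hY) h.uY, t.conj' u⟩))
  obtain ⟨b, hb, i⟩ := memE h.cube h.y3 h.xy he
  have c2 : g * b = b * g := by
    rcases i with rfl | rfl
    exacts [c1, by simpa using (show Commute g b⁻¹ from c1).inv_right.eq]
  rcases hb with rfl | rfl | rfl | rfl | rfl
  exacts [absurd (by simpa using i) e1, fun f hf => h.F_comm hf (h.mem_F.2 ⟨c2, hY, t⟩), i1 g c2 hY t,
    step _ i1 g (h.sy.symm ▸ c2) hY t, step _ (step _ i1) g (by rw [h.sy, h.sxy]; exact c2) hY t]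

theorem exists_V : ∃ V : Subgroup G, (∀ v ∈ V, v * v = 1) ∧ h.F ≤ V ∧ V ≤ YY c s ∧
    normalizer (h.F : Set G) ≤ normalizer (V : Set G) ∧
    YY c s ⊓ normalizer (EE x y : Set G) ≤ normalizer (V : Set G) ∧ centralizer (V : Set G) ≤ V := by
  obtain ⟨R, r1, r2, r3, r4, r5⟩ := h.exists_R
  have rY := r1.trans h.CF_le
  have ne : ∀ e, e = x ∨ e = y ∨ e = x * y ∨ e = x * (x * y) → e ∈ EE x y ∧ e ≠ 1 := fun e he => by
    obtain ⟨g, -, rfl⟩ := h.four he
    refine ⟨?_, (h.conj g).x1⟩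
    rcases he with i | i | i | i <;> rw [i]
    exacts [h.xE, h.yE, h.xyE, h.x2yE]
  have gen : ∀ K M : Subgroup G, IsPGroup 2 K → x ∈ normalizer (K : Set G) → y ∈ normalizer (K : Set G) →
      (∀ e ∈ EE x y, e ≠ 1 → ∀ g ∈ K, g * e = e * g → g ∈ M) → K ≤ M := fun K M p nx ny i => by
    refine gen4 h.x3 h.y3 h.xy h.hy (not3 p) nx ny ?_ ?_ ?_ ?_ <;>
      exact fun g hg => i _ (ne _ (by simp)).1 (ne _ (by simp)).2 g hg.1 (mc.1 hg.2)
  have genR := fun M => gen R M r2 (r4 h.xF) (r4 h.yF)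
  have back : ∀ e ∈ EE x y, e ≠ 1 → ∀ g ∈ R, g * e = e * g → ∃ n ∈ YY c s ⊓ normalizer (EE x y : Set G),
      n⁻¹ * g * n ∈ h.F := fun e he e1 g hg i => by
    obtain ⟨n, hn, rfl⟩ := h.eight he e1
    exact ⟨n, hn, h.mem_F.2 ⟨conj_comm.1 i, mul_mem (mul_mem (inv_mem hn.1) (rY hg)) hn.1, (T2.of_mem r2 hg).conj' n⟩⟩
  have ab : R ≤ centralizer (R : Set G) := genR _ fun e he e1 g hg i a ha => by
    obtain ⟨n, hn, j⟩ := back e he e1 g hg i
    refine mc.1 (genR (centralizer {g}) (fun e' he' e1' g' hg' i' => mc.2 ?_) ha)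
    have := h.PC hb (conj_mem_of_mem_normalizer' hn.2 he') (fun i => e1' (cj_one'.1 (by rwa [inv_inv]))) (g := n⁻¹ * g' * n)
      (by rw [← cj_inj (s := n)]; simpa [mul_assoc] using i') (mul_mem (mul_mem (inv_mem hn.1) (rY hg')) hn.1)
      ((T2.of_mem r2 hg').conj' n) _ j
    rw [← cj_inj (s := n⁻¹), cjm, cjm, inv_inv, this]
  let Ω : Subgroup G :=
    { carrier := {v | v ∈ R ∧ v * v = 1}
      one_mem' := ⟨one_mem _, one_mul _⟩
      mul_mem' := fun {a b} ha hb => ⟨mul_mem ha.1 hb.1, by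
        rw [(show Commute b a from ab ha.1 b hb.1).mul_mul_mul_comm, ha.2, hb.2, one_mul]⟩
      inv_mem' := fun {a} ha => ⟨inv_mem ha.1, by rw [← mul_inv_rev, ha.2, inv_one]⟩ }
  have FR : h.F ≤ R := fun g hg => r3 g (fun f hf => h.F_comm hf hg) (h.mem_F.1 hg).2.2
  refine ⟨R, fun v hv => (genR Ω (fun e he e1 g hg i => ⟨hg, ?_⟩) hv).2, FR, rY, r4, fun n hn => ?_, fun g hg => ?_⟩
  · obtain ⟨n, -, j⟩ := back e he e1 g hg i
    simpa [mul_assoc] using cj_sq (s := n) (h.F_sq' j)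
  · have nE : ∀ e ∈ EE x y, e ∈ normalizer (cj n R : Set G) := fun e he => by
      rw [← cj_normalizer, mem_cj]
      exact (sup_le (zpowers_le.2 (r4 h.xF)) (zpowers_le.2 (r4 h.yF)) : EE x y ≤ _)
        (conj_mem_of_mem_normalizer' hn.2 he)
    refine mem_normalizer_of_cj_le (gen _ _ (isPGroup_cj n r2) (nE _ h.xE) (nE _ h.yE) fun e he e1 g hg i => ?_)
    have t := T2.of_mem (isPGroup_cj n r2) hg
    exact r3 g (h.PC hb he e1 i (cj_le_of_mem hn.1 rY hg) t) t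
  · obtain ⟨m, hm, t, ht, rfl⟩ := r5 g (centralizer_le FR hg)
    have i := (mul_mem_cancel_left (ab hm)).1 hg
    have xc : x ∉ centralizer (R : Set G) := fun i => by
      have := card_le_of_le (show cj u h.F ≤ h.D from fun f hf => by
        have t := T2.of_mem (isPGroup_cj u h.two_F) hf
        exact h.mem_D.2 ⟨i f (r3 f (hb hf) t), h.ux ▸ conj_comm.2 (h.mem_F.1 (mem_cj.1 hf)).1, t⟩)
      rw [card_cj, h.card_F, h.card_D] at this
      have := orderOf_pos z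
      omega
    rcases zp3 h.cube ht with rfl | rfl | rfl
    exacts [by simpa using hm, absurd i xc, absurd (inv_mem_iff.1 i) xc]

end B

end St

/-- the configuration with the elementary abelian group `V` -/
structure Sv (x z : G) (φ : G → Equiv.Perm GolayPt) (y c k s u : G) (V : Subgroup G) (j : G) : Prop
    extends St x z φ y c k s u where
  sq : ∀ v ∈ V, v * v = 1
  FV : toSt.F ≤ V
  VY : V ≤ YY c s
  nF : normalizer (toSt.F : Set G) ≤ normalizer (V : Set G)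
  nE : YY c s ⊓ normalizer (EE x y : Set G) ≤ normalizer (V : Set G)
  cV : centralizer (V : Set G) ≤ V
  jx : j * x = x * j
  φj : φ j = J0
  jT : T2 j
  jy : j * y * j⁻¹ = y⁻¹

theorem St.exists_Sv {x z y c k s u : G} {φ : G → Equiv.Perm GolayPt} (h : St x z φ y c k s u) :
    ∃ y s u V j, Sv x z φ y c k s u V j := by
  obtain ⟨y, s, u, j, h, j1, j2, j3, j4⟩ := h.exists_j
  obtain ⟨V, v1, v2, v3, v4, v5, v6⟩ := h.exists_V (h.dich.resolve_left h.a_false)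
  exact ⟨y, s, u, V, j, h, v1, v2, v3, v4, v5, v6, j1, j2, j3, j4⟩

end H66.Sev
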