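import Cfsg.Agent.Lib.J4.Sev6

/-!
# An element of order three with centraliser `3·M22` or `6·M22`: the action of `S` on `V`
-/

set_option autoImplicit false
set_option linter.unusedSectionVars false

namespace H66.Sev
open Cfsg H15 H95 H68 H75.J4 Subgroup H66.Six
open H2 (relCentralizer mem_relCentralizer le_relCentralizer_iff commutator_sup_le)
open scoped commutatorElement

theorem YSb : Y0 ∈ normalizer (Sb : Set (Equiv.Perm GolayPt)) := mem_normalizer_of_finite fun g hg => by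
  obtain ⟨i1, i2, i3⟩ := mem_Sb.1 hg
  have c : Commute Y0 (FF 1) := rels.2.2.2.1
  have key : ∀ i ∈ [2, 13, 15], ∀ j, Y0 * FF i = FF j * Y0 → Y0 * g * Y0⁻¹ * FF j = FF j * (Y0 * g * Y0⁻¹) ∨
      Y0 * g * Y0⁻¹ * FF j = FF 1 * FF j * (Y0 * g * Y0⁻¹) := fun i hi j e => by
    rw [← mul_inv_eq_iff_eq_mul.2 e, ← cjc.2 c, ← cjm, ← cjm, ← cjm, ← cjm]
    exact (i3 i hi).imp (fun e => by rw [e]) fun e => by rw [e]
  refine mem_Sb.2 ⟨mul_mem (mul_mem mY i1) (inv_mem mY), ((c.mul_left i2).mul_left c.inv_left).eq, ?_⟩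
  simp only [List.forall_mem_cons, List.not_mem_nil, false_imp_iff, implies_true, and_true]
  exact ⟨key 15 (by simp) _ rels.2.2.2.2.2.2.2.2.2.2.1, key 2 (by simp) _ rels.2.2.2.2.2.2.2.2.1,
    key 13 (by simp) _ rels.2.2.2.2.2.2.2.2.2.1⟩

theorem JY : J0 * Y0 * J0⁻¹ = Y0⁻¹ := by rw [rels.2.2.2.2.2.2.2.2.2.2.2.2.2.2.1, inv3 Y3]; group

theorem JSb : J0 ∈ normalizer (Sb : Set (Equiv.Perm GolayPt)) := mem_normalizer_of_finite fun g hg => by
  have c : Commute J0 (FF 1) := rels.2.2.2.2.2.2.2.2.2.2.2.2.2.1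
  refine Sb_of (mul_mem (mul_mem mJ (Sb_le hg)) (inv_mem mJ)) ((c.mul_left (mem_Sb.1 hg).2.1).mul_left c.inv_left).eq
    ((T2.of_mem Sb_two hg).conj _) ?_
  have e : J0 * Y0⁻¹ * J0⁻¹ = Y0 := by rw [show J0 * Y0⁻¹ * J0⁻¹ = (J0 * Y0 * J0⁻¹)⁻¹ by group, JY, inv_inv]
  have := (T2.of_mem Sb_two (mul_mem hg (conj_mem_of_mem_normalizer' YSb hg))).conj J0
  rwa [show J0 * (g * (Y0⁻¹ * g * Y0)) * J0⁻¹ = J0 * g * J0⁻¹ * (J0 * Y0⁻¹ * J0⁻¹ * (J0 * g * J0⁻¹) *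
    (J0 * Y0⁻¹ * J0⁻¹)⁻¹) by group, e] at this

variable {G : Type*} [Group G] [Finite G]

theorem cle {X Y W : Subgroup G} (h : ⁅X, Y⁆ ≤ W) : ⁅Y, X⁆ ≤ W := by rwa [commutator_comm]

theorem norm_of_cj {g : G} {X : Subgroup G} (h : cj g X = X) : g ∈ normalizer (X : Set G) := mem_normalizer_iff_cj.2 h

theorem nsup {g : G} {X Y : Subgroup G} (h1 : g ∈ normalizer (X : Set G)) (h2 : g ∈ normalizer (Y : Set G)) :
    g ∈ normalizer ((X ⊔ Y : Subgroup G) : Set G) := normalizer_inf_normalizer_le_normalizer_sup X Y ⟨h1, h2⟩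

theorem ninf {g : G} {X Y : Subgroup G} (h1 : g ∈ normalizer (X : Set G)) (h2 : g ∈ normalizer (Y : Set G)) :
    g ∈ normalizer ((X ⊓ Y : Subgroup G) : Set G) := inf_normalizer_le_normalizer_inf ⟨h1, h2⟩

theorem nbot (g : G) : g ∈ normalizer ((⊥ : Subgroup G) : Set G) := le_normalizer_of_normal (mem_top g)
theorem cbot {X Y W : Subgroup G} (h : X ≤ centralizer (Y : Set G)) : ⁅X, Y⁆ ≤ W :=
  (commutator_eq_bot_iff_le_centralizer.2 h).le.trans bot_le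
theorem nzp {g a : G} (h : g * a = a * g) : g ∈ normalizer (zpowers a : Set G) := H66.J4.cent_le_norm a (mc.2 h)
theorem nce {g a : G} (h : g * a = a * g) : g ∈ normalizer (centralizer {a} : Set G) := le_normalizer (mc.2 h)

/-- `[C_V(e), E]` -/
def AA (V : Subgroup G) (x y e : G) : Subgroup G := ⁅V ⊓ centralizer {e}, EE x y⁆
/-- `[V, e]` -/
def UU (V : Subgroup G) (e : G) : Subgroup G := ⁅V, zpowers e⁆
/-- the four lines -/
def Ln (x y e : G) : Prop := e = x ∨ e = y ∨ e = x * y ∨ e = x * (x * y)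
/-- two distinct lines -/
def Gn (x y e f : G) : Prop := EE x y ≤ zpowers e ⊔ zpowers f

theorem Gn.symm {x y e f : G} (h : Gn x y e f) : Gn x y f e := by rw [Gn, sup_comm (zpowers f)]; exact h
theorem AA_inv (V : Subgroup G) (x y e : G) : AA V x y e⁻¹ = AA V x y e := by rw [AA, cent_inv, AA]
theorem UU_inv (V : Subgroup G) (e : G) : UU V e⁻¹ = UU V e := by rw [UU, zpowers_inv, UU]
theorem cj_UU {V : Subgroup G} {g : G} (h : g ∈ normalizer (V : Set G)) (e : G) : cj g (UU V e) = UU V (g * e * g⁻¹) := by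
  rw [UU, cj_commutator, cj_eq_of_mem_normalizer h, cj_zp, UU]
theorem cj_AA {V : Subgroup G} {g x y : G} (h : g ∈ normalizer (V : Set G)) (h' : g ∈ normalizer (EE x y : Set G))
    (e : G) : cj g (AA V x y e) = AA V x y (g * e * g⁻¹) := by
  rw [AA, cj_commutator, cj_inf, cj_eq_of_mem_normalizer h, cj_eq_of_mem_normalizer h', cj_cent, AA]

namespace St
variable {x z y c k s u : G} {φ : G → Equiv.Perm GolayPt} (h : St x z φ y c k s u)
include h

theorem lnE {e : G} (he : Ln x y e) : e ∈ EE x y ∧ e ≠ 1 := by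
  obtain ⟨g, -, rfl⟩ := h.four he
  refine ⟨?_, (h.conj g).x1⟩
  rcases he with i | i | i | i <;> rw [i]
  exacts [h.xE, h.yE, h.xyE, h.x2yE]

theorem g1 : Gn x y x y := le_rfl
theorem g2 : Gn x y x (x * y) := sup_le le_sup_left (zpowers_le.2 (by
  simpa using mul_mem (inv_mem (mem_sup_left (mem_zpowers x))) (mem_sup_right (mem_zpowers (x * y)))))
theorem g3 : Gn x y x (x * (x * y)) := sup_le le_sup_left (zpowers_le.2 (by
  simpa using mul_mem (inv_mem (mem_sup_left (mem_zpowers x))) (mul_mem (inv_mem (mem_sup_left (mem_zpowers x)))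
    (mem_sup_right (mem_zpowers (x * (x * y)))))))
theorem g4 : Gn x y y (x * y) := sup_le (zpowers_le.2 (by
  simpa using mul_mem (mem_sup_right (mem_zpowers (x * y))) (inv_mem (mem_sup_left (mem_zpowers y))))) le_sup_left
theorem g5 : Gn x y y (x * (x * y)) := sup_le (zpowers_le.2 (inv_mem_iff.1 (by
  rw [h.xinv]
  simpa [mul_assoc] using mul_mem (mem_sup_right (mem_zpowers (x * (x * y)))) (inv_mem (mem_sup_left (mem_zpowers y))))))
  le_sup_left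
theorem g6 : Gn x y (x * y) (x * (x * y)) := by
  have i : x ∈ zpowers (x * y) ⊔ zpowers (x * (x * y)) := by
    simpa [mul_assoc] using mul_mem (mem_sup_right (mem_zpowers (x * (x * y))))
      (inv_mem (mem_sup_left (mem_zpowers (x * y))))
  exact sup_le (zpowers_le.2 i) (zpowers_le.2 (by simpa using mul_mem (inv_mem i) (mem_sup_left (mem_zpowers (x * y)))))

theorem Sx {b : G} (hb : b ∈ h.S) : b * x = x * b := (h.mem_lf.1 hb).1
theorem Sc {b : G} (hb : b ∈ h.S) : b * c = c * b :=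
  h.nconj h.cx (T2.of_sq h.cc) (h.φc ▸ F_ne (by norm_num) (by norm_num)) (h.φc ▸ F_sq (F_mem 1 (by norm_num))) (h.Sx hb)
    (by rw [h.φ_conj (h.Sx hb) h.cx, h.φc, (mem_Sb.1 (h.mem_lf.1 hb).2.1).2.1, mul_inv_cancel_right])
theorem Sw {b : G} (hb : b ∈ h.S) : b * (z * c) = z * c * b :=
  ((show Commute b z from h.zc b (h.Sx hb)).mul_right (h.Sc hb)).eq
theorem SF : h.S ≤ normalizer (h.F : Set G) := fun b hb =>
  h.norm_lf (h.Sx hb) (D_norm (h.mem b (h.Sx hb)) (mem_Sb.1 (h.mem_lf.1 hb).2.1).2.1)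
theorem yS : y ∈ normalizer (h.S : Set G) := h.norm_lf h.cy (h.φy ▸ YSb)
theorem ES : EE x y ≤ normalizer (h.S : Set G) :=
  sup_le (zpowers_le.2 (h.norm_lf rfl (h.φ_x ▸ one_mem _))) (zpowers_le.2 h.yS)
theorem NE : EE x y ≤ normalizer (EE x y : Set G) := le_normalizer
theorem cE9 {X : Subgroup G} (hX : IsPGroup 2 X) : (Nat.card (EE x y)).Coprime (Nat.card X) := by
  rw [card9 h.x3 h.y3 h.xy h.hy]
  exact Nat.Coprime.pow_left 2 ((Nat.Prime.coprime_iff_not_dvd Nat.prime_three).2 (not3 hX))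
theorem solE : Group.IsSolvable (EE x y) := by
  have := Fact.mk Nat.prime_three
  have := (IsPGroup.of_card (p := 3) (n := 2) (card9 h.x3 h.y3 h.xy h.hy)).isNilpotent
  infer_instance
theorem DE : h.D ≤ centralizer (EE x y : Set G) := fun _ hg _ he =>
  (h.commE (h.mem_D.1 hg).1 (h.mem_D.1 hg).2.1 he).symm

end St

namespace Sv
variable {x z y c k s u j : G} {V : Subgroup G} {φ : G → Equiv.Perm GolayPt} (h : Sv x z φ y c k s u V j)
include h

local notation "𝒜" => AA V x y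

theorem comm {a b : G} (ha : a ∈ V) (hb : b ∈ V) : a * b = b * a := comm_of_sq h.sq ha hb
theorem two : IsPGroup 2 V := isP2 fun v hv => T2.of_sq (h.sq v hv)
theorem nV {X : Subgroup G} (hX : X ≤ V) : V ≤ normalizer (X : Set G) := fun v hv =>
  mem_normalizer_of_finite fun a ha => by rwa [cjc.2 (h.comm hv (hX ha))]
theorem EV : EE x y ≤ normalizer (V : Set G) := fun _ he => h.nE ⟨h.EY he, h.NE he⟩
theorem sV : s ∈ normalizer (V : Set G) := h.nF h.sF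
theorem uV : u ∈ normalizer (V : Set G) := h.nE ⟨h.uY, h.uE⟩
theorem SV : h.S ≤ normalizer (V : Set G) := h.SF.trans h.nF
theorem cF {v : G} (hv : v ∈ V) (c : v * x = x * v) : v ∈ h.F := h.mem_F.2 ⟨c, h.VY hv, T2.of_sq (h.sq v hv)⟩
theorem DV : h.D ≤ V := h.D_le.trans h.FV
theorem cD' {v : G} (hv : v ∈ V) (c : v ∈ centralizer (EE x y : Set G)) : v ∈ h.D :=
  h.mem_D.2 ⟨(c x h.xE).symm, (c y h.yE).symm, T2.of_sq (h.sq v hv)⟩
theorem EC {e : G} (he : e ∈ EE x y) : EE x y ≤ normalizer ((V ⊓ centralizer {e} : Subgroup G) : Set G) := fun _ hf =>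
  ninf (h.EV hf) (nce (h.commE (h.cE hf).1 (h.cE hf).2 he))
theorem A_le {e : G} (he : e ∈ EE x y) : 𝒜 e ≤ V ⊓ centralizer {e} := le_normalizer_iff_commutator_le_left.1 (h.EC he)
theorem AV {e : G} (he : e ∈ EE x y) : 𝒜 e ≤ V := (h.A_le he).trans inf_le_left
theorem Ac {e a : G} (he : e ∈ EE x y) (ha : a ∈ 𝒜 e) : a * e = e * a := mc.1 (h.A_le he ha).2
theorem EA (e : G) : EE x y ≤ normalizer (𝒜 e : Set G) := normalizer_commutator_ge_right _ _
theorem mulc {X : Subgroup G} (hX : X ≤ V) : IsMulCommutative X := ⟨⟨fun a b => Subtype.ext (h.comm (hX a.2) (hX b.2))⟩⟩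
theorem A_D {e a : G} (he : e ∈ EE x y) (ha : a ∈ 𝒜 e) (hd : a ∈ h.D) : a = 1 :=
  mem_bot.1 ((H2.commutator_inf_centralizer_eq_bot (h.mulc inf_le_left) (h.EC he)
    (h.cE9 (h.two.to_le inf_le_left))).le ⟨ha, h.DE hd⟩)
theorem UV {e : G} (he : e ∈ EE x y) : UU V e ≤ V := le_normalizer_iff_commutator_le_left.1 (zpowers_le.2 (h.EV he))
theorem U_bot {e a : G} (he : e ∈ EE x y) (ha : a ∈ UU V e) (c : a * e = e * a) : a = 1 :=
  mem_bot.1 ((H2.commutator_inf_centralizer_eq_bot (h.mulc le_rfl) (zpowers_le.2 (h.EV he))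
    ((h.cE9 h.two).coprime_dvd_left (card_dvd_of_le (zpowers_le.2 he)))).le
    ⟨ha, by rw [zpowers_eq_closure, centralizer_closure]; exact mc.2 c⟩)
theorem nU {g e : G} (h1 : g ∈ normalizer (V : Set G)) (c : g * e = e * g) : g ∈ normalizer (UU V e : Set G) :=
  norm_of_cj (by rw [cj_UU h1, cjc.2 c])
theorem EU {e : G} (he : e ∈ EE x y) : EE x y ≤ normalizer (UU V e : Set G) := fun _ hf =>
  h.nU (h.EV hf) (h.commE (h.cE hf).1 (h.cE hf).2 he)
theorem A_U {e f : G} (he : e ∈ EE x y) (hf : f ∈ EE x y) (g : Gn x y e f) : 𝒜 e ≤ UU V f :=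
  (commutator_mono le_rfl g).trans (cle (commutator_sup_le (zpowers_le.2 (h.EU hf he)) (zpowers_le.2 (h.EU hf hf))
    (cbot (zpowers_le.2 fun _ ha => mc.1 (mem_inf.1 ha).2))
    (cle (commutator_mono inf_le_left le_rfl))))

theorem dec1 {X : Subgroup G} (hX : X ≤ V) (n : EE x y ≤ normalizer (X : Set G)) {e : G} (he : e ∈ EE x y) :
    X ⊓ centralizer {e} ≤ X ⊓ 𝒜 e ⊔ X ⊓ h.D := by
  have n1 : EE x y ≤ normalizer ((X ⊓ centralizer {e} : Subgroup G) : Set G) := fun f hf =>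
    ninf (n hf) (nce (h.commE (h.cE hf).1 (h.cE hf).2 he))
  refine (H2.commutator_sup_centralizer n1 (h.cE9 (h.two.to_le (inf_le_left.trans hX))) (Or.inl h.solE)).ge.trans
    (sup_le_sup (le_inf ((le_normalizer_iff_commutator_le_left.1 n1).trans inf_le_left)
      (commutator_mono (inf_le_inf_right _ hX) le_rfl)) fun g hg => ⟨hg.1.1, h.cD' (hX hg.1.1) hg.2⟩)

theorem dec {X M : Subgroup G} (hX : X ≤ V) (n : EE x y ≤ normalizer (X : Set G)) (hD : X ⊓ h.D ≤ M)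
    (hA : ∀ e, Ln x y e → X ⊓ 𝒜 e ≤ M) : X ≤ M := by
  have k : ∀ e, Ln x y e → X ⊓ centralizer {e} ≤ M := fun e he =>
    (h.dec1 hX n (h.lnE he).1).trans (sup_le (hA e he) hD)
  exact gen4 h.x3 h.y3 h.xy h.hy (not3 (h.two.to_le hX)) (n h.xE) (n h.yE) (k _ (by simp [Ln])) (k _ (by simp [Ln]))
    (k _ (by simp [Ln])) (k _ (by simp [Ln]))

theorem AF : 𝒜 x ≤ h.F := fun _ ha => h.cF (h.AV h.xE ha) (h.Ac h.xE ha)
theorem F_le_AD : h.F ≤ 𝒜 x ⊔ h.D := fun _ hg =>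
  ((h.dec1 le_rfl h.EV h.xE).trans (sup_le_sup inf_le_right inf_le_right)) ⟨h.FV hg, mc.2 (h.mem_F.1 hg).1⟩

theorem irr {e : G} (he : Ln x y e) {X : Subgroup G} (hX : X ≤ 𝒜 e) (n : EE x y ≤ normalizer (X : Set G)) :
    X = ⊥ ∨ 𝒜 e ≤ X := by
  obtain ⟨g, hg, rfl⟩ := h.eight (h.lnE he).1 (h.lnE he).2
  rw [← cj_AA (h.nE hg) hg.2] at hX ⊢
  have n' : EE x y ≤ normalizer (cj g⁻¹ X : Set G) := fun f hf => by
    rw [← cj_normalizer, mem_cj, inv_inv]; exact n (conj_mem_of_mem_normalizer hg.2 hf)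
  have l := le_cj_iff.1 hX
  have nD : EE x y ≤ normalizer (h.D : Set G) := fun f hf => mem_normalizer_of_finite fun a ha => by
    rwa [cjc.2 (h.DE ha f hf)]
  rcases h.irrF (X := cj g⁻¹ X ⊔ h.D) le_sup_right (sup_le (l.trans h.AF) h.D_le) (nsup (n' h.yE) (nD h.yE)) with i | i
  · exact Or.inl (cj_eq_bot_iff.1 (eq_bot_iff.2 fun a ha => h.A_D h.xE (l ha) (i (mem_sup_left ha))))
  · refine Or.inr (cj_le_iff.2 ((commutator_mono (show V ⊓ centralizer {x} ≤ _ from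
      fun a ha => i (h.cF ha.1 (mc.1 ha.2))) le_rfl).trans ?_))
    exact commutator_sup_le le_normalizer (h.DV.trans (h.nV (l.trans (h.AV h.xE))))
      (le_normalizer_iff_commutator_le_left.1 n') (cbot h.DE)

theorem A_ne {e : G} (he : Ln x y e) : ∃ a ∈ 𝒜 e, a ≠ 1 := by
  obtain ⟨g, hg, rfl⟩ := h.eight (h.lnE he).1 (h.lnE he).2
  by_contra hn
  push Not at hn
  have := card_le_of_le (h.F_le_AD.trans (sup_le (fun a ha => by
    rw [cj_one'.1 (hn (g * a * g⁻¹) (by rw [← cj_AA (h.nE hg) hg.2]; exact conj_mem_cj.2 ha))]; exact one_mem _) le_rfl))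
  rw [h.card_F, h.card_D] at this
  have := orderOf_pos z
  omega

theorem line {P X W : Subgroup G} (hP : IsPGroup 2 P) (hX : X ≤ V) (hW : W ≤ V) (n : P ≤ normalizer (X : Set G))
    (nP : EE x y ≤ normalizer (P : Set G)) (nX : EE x y ≤ normalizer (X : Set G))
    (nW : EE x y ≤ normalizer (W : Set G)) (hD : X ⊓ h.D ≤ W)
    (hA : ∀ e, Ln x y e → 𝒜 e ≤ X → ⁅𝒜 e, P⁆ ≤ W → 𝒜 e ≤ W) : X ≤ W := by
  have n1 : EE x y ≤ normalizer ((X ⊓ relCentralizer P W : Subgroup G) : Set G) := fun f hf =>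
    ninf (nX hf) (rc_norm (nP hf) (nW hf))
  refine fixp hP (h.two.to_le hX) n fun v hv i => h.dec (X := X ⊓ relCentralizer P W) (inf_le_left.trans hX) n1
    (fun g hg => hD ⟨hg.1.1, hg.2⟩) (fun e he => ?_) ⟨hv, h.nV hW (hX hv), i⟩
  rcases h.irr he (X := X ⊓ relCentralizer P W ⊓ 𝒜 e) inf_le_right fun f hf => ninf (n1 hf) (h.EA e hf) with i | i
  · exact i.le.trans bot_le
  · exact inf_le_right.trans (hA e he (i.trans (inf_le_left.trans inf_le_left))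
      (le_relCentralizer_iff.1 (i.trans (inf_le_left.trans inf_le_right))).2)

theorem UD {e : G} (he : e ∈ EE x y) {M : Subgroup G} : UU V e ⊓ h.D ≤ M := fun g hg => by
  rw [h.U_bot he hg.1 (h.DE hg.2 e he).symm]; exact one_mem _
theorem UA {e : G} (he : e ∈ EE x y) {M : Subgroup G} : UU V e ⊓ 𝒜 e ≤ M := fun g hg => by
  rw [h.U_bot he hg.1 (h.Ac he hg.2)]; exact one_mem _

theorem Ux_le : UU V x ≤ 𝒜 y ⊔ (𝒜 (x * y) ⊔ 𝒜 (x * (x * y))) :=
  h.dec (h.UV h.xE) (h.EU h.xE) (h.UD h.xE) fun e he => by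
    rcases he with rfl | rfl | rfl | rfl
    exacts [h.UA h.xE, inf_le_right.trans le_sup_left, inf_le_right.trans (le_sup_left.trans le_sup_right),
      inf_le_right.trans (le_sup_right.trans le_sup_right)]

theorem Uy_le : UU V y ≤ 𝒜 x ⊔ (𝒜 (x * y) ⊔ 𝒜 (x * (x * y))) :=
  h.dec (h.UV h.yE) (h.EU h.yE) (h.UD h.yE) fun e he => by
    rcases he with rfl | rfl | rfl | rfl
    exacts [inf_le_right.trans le_sup_left, h.UA h.yE, inf_le_right.trans (le_sup_left.trans le_sup_right),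
      inf_le_right.trans (le_sup_right.trans le_sup_right)]

theorem jE : j ∈ normalizer (EE x y : Set G) := h.normE (by rw [cjc.2 h.jx]; exact h.xE) (h.jy ▸ inv_mem h.yE)
theorem jV : j ∈ normalizer (V : Set G) :=
  h.nF (h.norm_lf h.jx (h.φj ▸ D_norm mJ rels.2.2.2.2.2.2.2.2.2.2.2.2.2.1))
theorem jS : j ∈ normalizer (h.S : Set G) := h.norm_lf h.jx (h.φj ▸ JSb)
theorem jA : j ∈ normalizer (𝒜 y : Set G) := norm_of_cj (by rw [cj_AA h.jV h.jE, h.jy, AA_inv])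
theorem jA1 : cj j (𝒜 (x * y)) = 𝒜 (x * (x * y)) := by
  rw [cj_AA h.jV h.jE, cjm, h.jy, cjc.2 h.jx, ← AA_inv, mul_inv_rev, inv_inv, ← h.xy.inv_left.eq, h.xinv, mul_assoc]
theorem jA2 : cj j (𝒜 (x * (x * y))) = 𝒜 (x * y) := by
  rw [cj_AA h.jV h.jE, cjm, cjm, h.jy, cjc.2 h.jx, ← AA_inv, ← mul_assoc x x, ← h.xinv, mul_inv_rev, inv_inv, inv_inv,
    h.cy]
theorem jsw {X W : Subgroup G} (i : ⁅X, h.S⁆ ≤ W) : ⁅cj j X, h.S⁆ ≤ cj j W := by
  have := cj_mono j i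
  rwa [cj_commutator, cj_eq_of_mem_normalizer h.jS] at this
theorem SU : h.S ≤ normalizer (UU V x : Set G) := fun _ hb => h.nU (h.SV hb) (h.Sx hb)

theorem nontriv : ¬ ⁅UU V x, h.S⁆ ≤ ⊥ := fun i => by
  have cU : h.S ≤ centralizer (UU V x : Set G) := commutator_eq_bot_iff_le_centralizer.1 (eq_bot_iff.2 (cle i))
  obtain ⟨b1, -, b3, b4, b5⟩ := B_facts
  obtain ⟨b, i1, i2, i3⟩ := h.liftT (Sb_le b1) (T2.of_mem Sb_two b1)
  obtain ⟨n, n0, e1⟩ := h.surj _ (gL n1 (by simp)).2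
  obtain ⟨m, m0, e2⟩ := h.surj _ (gL n2 (by simp)).2
  have key : ∀ n, n * x = x * n → φ n ∈ normalizer (Fb : Set (Equiv.Perm GolayPt)) →
      n * b * n⁻¹ ∈ centralizer (UU V x : Set G) := fun n i l => conj_mem_of_mem_normalizer
    (normalizer_le_normalizer_centralizer _ (h.nU (h.nF (h.norm_lf i l)) i)) (cU (h.mem_lf.2 ⟨i1, i2 ▸ b1, i3⟩))
  have t := mul_mem (key n n0 (e1 ▸ b3)) (key m m0 (e2 ▸ b4))
  obtain ⟨a, ha, e⟩ := h.eq_mul (h.cmul (h.ccj n0 i1) (h.ccj m0 i1)) (h.cmul h.cy h.cx) (by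
    rw [h.mul _ _ (h.ccj n0 i1) (h.ccj m0 i1), h.φ_conj n0 i1, h.φ_conj m0 i1, e1, e2, i2, b5, h.mul _ _ h.cy h.cx,
      h.φy, h.φc])
  obtain ⟨q1, q2⟩ := h.ker_dec ha
  have vU : V ≤ centralizer (UU V x : Set G) := fun v hv a ha => h.comm (h.UV h.xE ha) hv
  have t2 : y * a ^ 4 ∈ centralizer (UU V x : Set G) := by
    have := mul_mem (mul_mem (e ▸ t) (vU (zpowers_le.2 (h.DV h.zD) q2))) (inv_mem (vU (h.DV h.cD)))
    rwa [show y * c * a * a ^ 3 * c⁻¹ = y * (c * a ^ 4 * c⁻¹) by group,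
      cjc.2 ((show Commute c a from h.ker_comm ha h.cx).pow_right 4).eq] at this
  have fin : ∀ e f, Ln x y e → Gn x y x e → Gn x y e f → f ∈ centralizer (UU V x : Set G) → False :=
    fun e f he g1 g2 hf => by
    obtain ⟨a, ha, a1⟩ := h.A_ne he
    refine a1 (h.A_D (h.lnE he).1 ha (h.cD' (h.AV (h.lnE he).1 ha) fun g hg => mc.1 (g2.trans (sup_le
      (zpowers_le.2 (mc.2 (h.Ac (h.lnE he).1 ha).symm)) (zpowers_le.2 (mc.2 ?_))) hg)))
    exact (hf a (h.A_U (h.lnE he).1 h.xE g1.symm ha)).symm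
  rcases zp3 h.cube q1 with i | i | i <;> rw [i] at t2
  · exact fin _ _ (by simp [Ln]) h.g2 h.g4.symm (by simpa using t2)
  · exact fin _ _ (by simp [Ln]) h.g1 h.g4 (h.cy ▸ t2)
  · exact fin _ _ (by simp [Ln]) h.g1 h.g5 (by rwa [← h.xy.inv_left.eq, h.xinv, mul_assoc] at t2)

theorem dich2 : (⁅𝒜 (x * y) ⊔ 𝒜 (x * (x * y)), h.S⁆ ≤ ⊥ ∧ ⁅𝒜 y, h.S⁆ ≤ 𝒜 (x * y) ⊔ 𝒜 (x * (x * y))) ∨
    (⁅𝒜 y, h.S⁆ ≤ ⊥ ∧ ⁅𝒜 (x * y) ⊔ 𝒜 (x * (x * y)), h.S⁆ ≤ 𝒜 y) := by
  have both : ∀ W ≤ V, j ∈ normalizer (W : Set G) → ⁅𝒜 (x * y), h.S⁆ ≤ W ∨ ⁅𝒜 (x * (x * y)), h.S⁆ ≤ W →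
      ⁅𝒜 (x * y) ⊔ 𝒜 (x * (x * y)), h.S⁆ ≤ W := fun W l n i => by
    have : ⁅𝒜 (x * y), h.S⁆ ≤ W ∧ ⁅𝒜 (x * (x * y)), h.S⁆ ≤ W := by
      rcases i with i | i <;> have := h.jsw i <;> rw [cj_eq_of_mem_normalizer n] at this
      exacts [⟨i, h.jA1 ▸ this⟩, ⟨h.jA2 ▸ this, i⟩]
    exact commutator_sup_le ((h.AV h.xyE).trans (h.nV l)) ((h.AV h.x2yE).trans (h.nV l)) this.1 this.2
  have lx : ∀ W : Subgroup G, 𝒜 x ≤ UU V x → 𝒜 x ≤ W := fun W i => (le_inf i le_rfl).trans (h.UA h.xE)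
  have ln := fun W l n => h.line (W := W) h.two_S (h.UV h.xE) l h.SU h.ES (h.EU h.xE) n (h.UD h.xE)
  have sU := le_normalizer_iff_commutator_le_left.1 h.SU
  have l1 := h.A_U h.yE h.xE h.g1.symm
  have l2 := sup_le (h.A_U h.xyE h.xE h.g2.symm) (h.A_U h.x2yE h.xE h.g3.symm)
  by_cases i : ⁅𝒜 y, h.S⁆ ≤ ⊥
  · refine Or.inr ⟨i, ?_⟩
    by_contra hn
    refine hn ((commutator_mono l2 le_rfl).trans (sU.trans (ln _ (h.AV h.yE) (h.EA y) fun e he i1 i2 => ?_)))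
    rcases he with rfl | rfl | rfl | rfl
    exacts [lx _ i1, le_rfl, absurd (both _ (h.AV h.yE) h.jA (Or.inl i2)) hn,
      absurd (both _ (h.AV h.yE) h.jA (Or.inr i2)) hn]
  · left
    constructor
    · by_contra hn
      refine h.nontriv (sU.trans (ln _ bot_le (fun _ _ => nbot _) fun e he i1 i2 => ?_))
      rcases he with rfl | rfl | rfl | rfl
      exacts [lx _ i1, absurd i2 i, absurd (both _ bot_le (nbot _) (Or.inl i2)) hn,
        absurd (both _ bot_le (nbot _) (Or.inr i2)) hn]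
    · by_contra hn
      refine hn ((commutator_mono l1 le_rfl).trans (sU.trans (ln _ (sup_le (h.AV h.xyE) (h.AV h.x2yE))
        (fun f hf => nsup (h.EA _ hf) (h.EA _ hf)) fun e he i1 i2 => ?_)))
      rcases he with rfl | rfl | rfl | rfl
      exacts [lx _ i1, absurd i2 hn, le_sup_left, le_sup_right]

end Sv

end H66.Sev
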