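import Cfsg.Agent.Lib.J4.Sev7

/-!
# An element of order three with centraliser `3·M22` or `6·M22`: a large `2`-subgroup of `N(V)`
-/

set_option autoImplicit false
set_option linter.unusedSectionVars false

namespace H66.Sev
open Cfsg H15 H95 H68 H75.J4 Subgroup H66.Six
open H2 (relCentralizer mem_relCentralizer le_relCentralizer_iff commutator_sup_le)
open scoped commutatorElement

variable {G : Type*} [Group G] [Finite G]

theorem cjle {g : G} {X Y W : Subgroup G} (i : ⁅X, Y⁆ ≤ W) : ⁅cj g X, cj g Y⁆ ≤ cj g W := by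
  rw [← cj_commutator]; exact cj_mono g i

theorem ocj (n m : G) : orderOf (n * m * n⁻¹) = orderOf m :=
  orderOf_injective (MulAut.conj n).toMonoidHom (MulAut.conj n).injective m

theorem nco {X Y : Subgroup G} (i : ⁅X, Y⁆ ≤ X) : Y ≤ normalizer (X : Set G) := le_normalizer_iff_commutator_le_left.2 i

theorem czp {a : G} {Y W : Subgroup G} (h : ∀ b ∈ Y, b * a = a * b) : ⁅zpowers a, Y⁆ ≤ W := cbot (zpowers_le.2 h)

namespace Sv
variable {x z y c k s u j : G} {V : Subgroup G} {φ : G → Equiv.Perm GolayPt} (h : Sv x z φ y c k s u V j)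
include h

local notation "𝒜" => AA V x y
local notation "𝒯" => ⁅V, EE x y⁆

theorem csup {X Y P W : Subgroup G} (hX : X ≤ V) (hY : Y ≤ V) (hW : W ≤ V) (h1 : ⁅X, P⁆ ≤ W) (h2 : ⁅Y, P⁆ ≤ W) :
    ⁅X ⊔ Y, P⁆ ≤ W := commutator_sup_le (hX.trans (h.nV hW)) (hY.trans (h.nV hW)) h1 h2

theorem dec2 {X Y : Subgroup G} (hX : X ≤ V) (hY : Y ≤ V) {v : G} (hv : v ∈ X ⊔ Y) : ∃ a ∈ X, ∃ b ∈ Y, a * b = v :=
  (mem_sup_iff_of_norm (hY.trans (h.nV hX))).1 hv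

theorem TV : 𝒯 ≤ V := le_normalizer_iff_commutator_le_left.1 h.EV
theorem AT (e : G) : 𝒜 e ≤ 𝒯 := commutator_mono inf_le_left le_rfl
theorem UT {e : G} (he : e ∈ EE x y) : UU V e ≤ 𝒯 := commutator_mono le_rfl (zpowers_le.2 he)
theorem ET : EE x y ≤ normalizer ((𝒯 : Subgroup G) : Set G) := normalizer_commutator_ge_right _ _
theorem T_D {a : G} (ha : a ∈ 𝒯) (hd : a ∈ h.D) : a = 1 :=
  mem_bot.1 ((H2.commutator_inf_centralizer_eq_bot (h.mulc le_rfl) h.EV (h.cE9 h.two)).le ⟨ha, h.DE hd⟩)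
theorem T_le : 𝒯 ≤ 𝒜 x ⊔ UU V x :=
  h.dec h.TV h.ET (fun g hg => by rw [h.T_D hg.1 hg.2]; exact one_mem _) fun e he => by
    rcases he with rfl | rfl | rfl | rfl
    exacts [inf_le_right.trans le_sup_left, inf_le_right.trans ((h.A_U h.yE h.xE h.g1.symm).trans le_sup_right),
      inf_le_right.trans ((h.A_U h.xyE h.xE h.g2.symm).trans le_sup_right),
      inf_le_right.trans ((h.A_U h.x2yE h.xE h.g3.symm).trans le_sup_right)]
theorem nT {g : G} (h1 : g ∈ normalizer (V : Set G)) (h2 : g ∈ normalizer (EE x y : Set G)) :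
    g ∈ normalizer ((𝒯 : Subgroup G) : Set G) := normalizer_inf_le_normalizer_commutator _ _ ⟨h1, h2⟩
theorem cV' : zpowers c ≤ V := zpowers_le.2 (h.DV h.cD)
theorem zTD {d : G} (hd : d ∈ h.D) : (zpowers d ⊔ 𝒯) ⊓ h.D ≤ zpowers d := fun v hv => by
  obtain ⟨a, ha, b, hb, rfl⟩ := h.dec2 (zpowers_le.2 (h.DV hd)) h.TV hv.1
  rwa [h.T_D hb ((mul_mem_cancel_left (zpowers_le.2 hd ha)).1 hv.2), mul_one]
theorem zU {d e v : G} (hd : d ∈ h.D) (he : e ∈ EE x y) (hv : v ∈ zpowers d ⊔ UU V e) (i : v * e = e * v) :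
    v ∈ zpowers d := by
  obtain ⟨a, ha, b, hb, rfl⟩ := h.dec2 (zpowers_le.2 (h.DV hd)) (h.UV he) hv
  have := (show Commute a e from (h.DE (zpowers_le.2 hd ha) e he).symm).inv_left.mul_left i
  rwa [h.U_bot he hb (by simpa using this.eq), mul_one]

theorem tau {a : G} (ha : a ∈ 𝒜 x) : a * (y * a * y⁻¹) * (y * (y * a * y⁻¹) * y⁻¹) = 1 := by
  have i1 := conj_mem_of_mem_normalizer (h.EA x h.yE) ha
  have i2 := conj_mem_of_mem_normalizer (h.EA x h.yE) i1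
  have i := mul_mem (mul_mem ha i1) i2
  refine h.A_D h.xE i (h.mem_D.2 ⟨h.Ac h.xE i, (cjc.1 ?_).symm, T2.of_sq (h.sq _ (h.AV h.xE i))⟩)
  rw [cjm, cjm y a, cj3 h.y3, h.comm (h.AV h.xE (mul_mem i1 i2)) (h.AV h.xE ha), mul_assoc a]

theorem cube_eq (a : G) : (a * y) ^ 3 = a * (y * a * y⁻¹) * (y * (y * a * y⁻¹) * y⁻¹) := by
  rw [← mul_one (a * _ * _), ← h.y3, pow_three, pow_three]; group

theorem φA {a : G} (ha : a ∈ 𝒜 x) : a = 1 ∨ ∃ i ∈ [2, 13, 15], φ a = FF i := by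
  have c1 := h.Ac h.xE ha
  have t := T2.of_sq (h.sq _ (h.AV h.xE ha))
  rcases A_cases (h.mem_lf.1 (h.AF ha)).2.1 (by
    rw [← h.φy, ← h.mul _ _ c1 h.cy, ← h.φ_pow (h.cmul c1 h.cy), h.cube_eq, h.tau ha, h.φ_one]) with e | e | e | e
  · exact Or.inl ((h.kerT c1 e t).elim id fun i => h.A_D h.xE ha (i ▸ h.zD))
  exacts [Or.inr ⟨2, by simp, e⟩, Or.inr ⟨13, by simp, e⟩, Or.inr ⟨15, by simp, e⟩]

theorem exA : (∃ a ∈ 𝒜 x, φ a = FF 13) ∧ ∃ a ∈ 𝒜 x, φ a = FF 15 := by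
  have cyc : ∀ i j, Y0 * FF i = FF j * Y0 → (∃ a ∈ 𝒜 x, φ a = FF i) → ∃ a ∈ 𝒜 x, φ a = FF j := fun i j e ⟨a, ha, e2⟩ =>
    ⟨_, conj_mem_of_mem_normalizer (h.EA x h.yE) ha, by
      rw [h.φ_conj h.cy (h.Ac h.xE ha), h.φy, e2, e, mul_inv_cancel_right]⟩
  have r1 := cyc _ _ rels.2.2.2.2.2.2.2.2.1
  have r2 := cyc _ _ rels.2.2.2.2.2.2.2.2.2.1
  have r3 := cyc _ _ rels.2.2.2.2.2.2.2.2.2.2.1
  obtain ⟨a, ha, a1⟩ := h.A_ne (e := x) (by simp [Ln])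
  obtain ⟨i, hi, e⟩ := (h.φA ha).resolve_left a1
  have : ∃ a ∈ 𝒜 x, φ a = FF 13 := by
    simp only [List.mem_cons, List.not_mem_nil, or_false] at hi
    rcases hi with rfl | rfl | rfl
    exacts [r1 ⟨a, ha, e⟩, ⟨a, ha, e⟩, r1 (r3 ⟨a, ha, e⟩)]
  exact ⟨this, r2 this⟩

theorem SA {a b : G} (hb : b ∈ h.S) (ha : a ∈ 𝒜 x) : ⁅b, a⁆ = 1 ∨ ⁅b, a⁆ = c ∨ ⁅b, a⁆ = z * c := by
  have c1 := h.Ac h.xE ha
  have aV := h.AV h.xE ha
  have t := T2.of_sq (h.sq _ aV)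
  rcases h.φA ha with rfl | ⟨i, hi, e⟩
  · simp
  have i16 : i < 16 ∧ i ≠ 0 := by simp at hi; omega
  rcases (mem_Sb.1 (h.mem_lf.1 hb).2.1).2.2 i hi with l | l
  · exact Or.inl (commutatorElement_eq_one_iff_mul_comm.2 (h.nconj c1 t (e ▸ F_ne i16.1 i16.2) (e ▸ F_sq (F_mem i i16.1))
      (h.Sx hb) (by rw [h.φ_conj (h.Sx hb) c1, e, l, mul_inv_cancel_right])))
  · right
    rw [commutatorElement_def]
    rcases h.eqT (h.ccj (h.Sx hb) c1) (h.cmul h.cx c1) (by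
      rw [h.φ_conj (h.Sx hb) c1, e, l, mul_inv_cancel_right, h.mul _ _ h.cx c1, h.φc, e]) (t.conj b)
      (T2.of_sq (h.sq _ (mul_mem (h.DV h.cD) aV))) with l | l <;> rw [l]
    · exact Or.inl (mul_inv_cancel_right _ _)
    · exact Or.inr (by rw [h.zc _ (h.cmul h.cx c1), ← mul_assoc, mul_inv_cancel_right])

theorem dich3 : ⁅𝒜 x, h.S⁆ ≤ zpowers c ∨ (z ≠ 1 ∧ ⁅𝒜 x, h.S⁆ ≤ zpowers (z * c)) := by
  by_contra hn
  rw [not_or, not_and] at hn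
  have ex : ∀ d, ¬ ⁅𝒜 x, h.S⁆ ≤ zpowers d → ∃ b ∈ h.S, ∃ a ∈ 𝒜 x, ⁅b, a⁆ ≠ 1 ∧ ⁅b, a⁆ ≠ d := fun d i => by
    by_contra hc
    push Not at hc
    refine i (cle (commutator_le.2 fun b hb a ha => ?_))
    by_cases e : ⁅b, a⁆ = 1
    · rw [e]; exact one_mem _
    · rw [hc b hb a ha e]; exact mem_zpowers d
  obtain ⟨b0, p1, a0, p2, p3, p4⟩ := ex _ hn.1
  have e0 := ((h.SA p1 p2).resolve_left p3).resolve_left p4
  have z1 : z ≠ 1 := fun e => p4 (by rw [e0, e, one_mul])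
  obtain ⟨b1, q1, a1, q2, q3, q4⟩ := ex _ (hn.2 z1)
  have e1 := ((h.SA q1 q2).resolve_left q3).resolve_right q4
  have nz : ∀ b ∈ h.S, ∀ a ∈ 𝒜 x, ⁅b, a⁆ ≠ z := fun b hb a ha e => by
    rcases h.SA hb ha with i | i | i <;> rw [e] at i
    exacts [z1 i, h.cz i.symm, h.c1 (mul_eq_left.1 i.symm)]
  have D' : ∀ b ∈ h.S, ∀ a ∈ 𝒜 x, ⁅b, a⁆ ∈ V ∧ ∀ g ∈ h.S, g * ⁅b, a⁆ = ⁅b, a⁆ * g := fun b hb a ha => by
    rcases h.SA hb ha with i | i | i <;> rw [i]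
    exacts [by simp, ⟨h.DV h.cD, fun g => h.Sc⟩, ⟨h.DV (mul_mem h.zD h.cD), fun g => h.Sw⟩]
  have mL : ∀ b ∈ h.S, ∀ b' ∈ h.S, ∀ a ∈ 𝒜 x, ⁅b * b', a⁆ = ⁅b', a⁆ * ⁅b, a⁆ := fun b hb b' hb' a ha => by
    rw [commutatorElement_mul_left_eq_conj_mul, cjc.2 ((D' b' hb' a ha).2 b hb)]
  have mR : ∀ b ∈ h.S, ∀ a ∈ 𝒜 x, ∀ a' ∈ 𝒜 x, ⁅b, a * a'⁆ = ⁅b, a⁆ * ⁅b, a'⁆ := fun b hb a ha a' ha' => by
    rw [← cjc.2 (h.comm (h.AV h.xE ha) (D' b hb a' ha').1)]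
    simp only [commutatorElement_def]; group
  have zcc : z * c * c = z := by rw [mul_assoc, h.cc, mul_one]
  have czc : c * (z * c) = z := by rw [← mul_assoc, h.zc c h.cx, zcc]
  have f1 : ⁅b0, a1⁆ = 1 := by
    rcases h.SA p1 q2 with i | i | i
    · exact i
    · exact absurd (by rw [mR _ p1 _ p2 _ q2, e0, i, zcc]) (nz _ p1 _ (mul_mem p2 q2))
    · exact absurd (by rw [mL _ p1 _ q1 _ q2, e1, i, czc]) (nz _ (mul_mem p1 q1) _ q2)
  have f2 : ⁅b1, a0⁆ = 1 := by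
    rcases h.SA q1 p2 with i | i | i
    · exact i
    · exact absurd (by rw [mL _ p1 _ q1 _ p2, e0, i, czc]) (nz _ (mul_mem p1 q1) _ p2)
    · exact absurd (by rw [mR _ q1 _ p2 _ q2, e1, i, zcc]) (nz _ q1 _ (mul_mem p2 q2))
  exact nz _ (mul_mem p1 q1) _ (mul_mem p2 q2) (by
    rw [mR _ (mul_mem p1 q1) _ p2 _ q2, mL _ p1 _ q1 _ p2, mL _ p1 _ q1 _ q2, e0, e1, f1, f2, one_mul, mul_one, zcc])

theorem W_bot {e v : G} (he : e ∈ EE x y) (hv : v ∈ zpowers c ⊔ UU V e) (ha : v ∈ 𝒜 e) : v = 1 :=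
  h.A_D he ha (zpowers_le.2 h.cD (h.zU h.cD he hv (h.Ac he ha)))

theorem two_of {W1 W2 : Subgroup G} (l1 : W2 ≤ zpowers c ⊔ UU V x) (l2 : W2 ≤ zpowers c ⊔ UU V (x * y))
    (l3 : 𝒜 x ≤ W1) (l4 : 𝒜 (x * y) ≤ W1) (n1 : EE x y ≤ normalizer (W1 : Set G))
    (n2 : EE x y ≤ normalizer (W2 : Set G)) : IsPGroup 2 ↥(centralizer {c} ⊓ relCentralizer W1 W2) := by
  have := Fact.mk Nat.prime_three
  obtain ⟨N, eN⟩ : ∃ N, N = centralizer {c} ⊓ relCentralizer W1 W2 := ⟨_, rfl⟩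
  have n : EE x y ≤ normalizer (N : Set G) := fun f hf =>
    eN ▸ ninf (nce (mem_YY.1 (h.EY hf)).1) (rc_norm (n1 hf) (n2 hf))
  rw [← eN]
  have n3 : ¬ 3 ∣ Nat.card N := not3_of_cent h.cube (n h.xE) (not3_of_cent h.y3 (ninf (n h.yE) (nce h.cy)) fun d => by
    obtain ⟨⟨t, ⟨t1, t2⟩, t3⟩, ht⟩ := exists_prime_orderOf_dvd_card' (G := ↥(N ⊓ centralizer {x} ⊓ centralizer {y})) 3 d
    rw [← orderOf_coe] at ht
    have t4 : t ^ 3 = 1 := by rw [← ht]; exact pow_orderOf_eq_one t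
    rw [eN] at t1
    have tE := h.inE (mc.1 t2) (mc.1 t3) (mc.1 t1.1) t4
    have fin : ∀ e, Ln x y e → W2 ≤ zpowers c ⊔ UU V e → 𝒜 e ≤ W1 → ¬ Gn x y e t := fun e he i1 i2 g => by
      obtain ⟨a, ha, a1⟩ := h.A_ne he
      have e1 := (h.lnE he).1
      have := commutatorElement_eq_one_iff_mul_comm.1 (h.W_bot e1 (i1 (t1.2.2 a (i2 ha)))
        (mul_mem (conj_mem_of_mem_normalizer (h.EA e tE) ha) (inv_mem ha)))
      exact a1 (h.A_D e1 ha (h.cD' (h.AV e1 ha) fun f hf => mc.1 (g.trans (sup_le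
        (zpowers_le.2 (mc.2 (h.Ac e1 ha).symm)) (zpowers_le.2 (mc.2 this))) hf)))
    obtain ⟨b, hb, i⟩ := memE h.cube h.y3 h.xy tE
    have g : ∀ e, Gn x y e b → Gn x y e t := fun e g => by
      rcases i with rfl | rfl
      exacts [g, by rwa [Gn, zpowers_inv]]
    rcases hb with rfl | rfl | rfl | rfl | rfl
    · have : t = 1 := by simpa using i
      simp [this] at ht
    exacts [fin _ (by simp [Ln]) l2 l4 (g _ h.g2.symm), fin _ (by simp [Ln]) l1 l3 (g _ h.g1),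
      fin _ (by simp [Ln]) l1 l3 (g _ h.g2), fin _ (by simp [Ln]) l1 l3 (g _ h.g3)])
  refine two4 h.x3 h.y3 h.xy h.hy n3 (n h.xE) (n h.yE) fun e he => isP2 fun g hg => ?_
  obtain ⟨m, hm, rfl⟩ := h.four he
  have c1 := conj_comm.1 (mc.1 hg.2)
  have c2 : m⁻¹ * g * m * c = c * (m⁻¹ * g * m) := conj_comm.1 (by rw [cjc.2 (mem_YY.1 hm).1]; exact mc.1 (eN.le hg.1).1)
  have := h.T2_of c1 (by rw [← h.φc, ← h.mul _ _ c1 h.cx, ← h.mul _ _ h.cx c1, c2]) (by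
    rw [show orderOf (m⁻¹ * g * m) = orderOf g by simpa using ocj m⁻¹ g]
    exact Nat.Coprime.coprime_dvd_left (orderOf_dvd_natCard (⟨g, hg.1⟩ : N) |> fun d => by rwa [← orderOf_coe] at d)
      ((Nat.Prime.coprime_iff_not_dvd Nat.prime_three).2 n3).symm)
  simpa [mul_assoc] using this.conj m

theorem b1_false (hb : ⁅𝒜 x, h.S⁆ ≤ zpowers c) : False := by
  obtain ⟨v, ev⟩ : ∃ v, v = s * u * s⁻¹ := ⟨_, rfl⟩
  have vY : v ∈ YY c s := ev ▸ conj_mem_of_mem_normalizer h.sY h.uY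
  have vE : v ∈ normalizer (EE x y : Set G) := ev ▸ mul_mem (mul_mem h.sE h.uE) (inv_mem h.sE)
  have vV := h.nE ⟨vY, vE⟩
  have v1 : v * x * v⁻¹ = x * y := by
    rw [ev, ← h.sy, ← h.ux]
    nth_rewrite 1 [← cjc.2 h.sx]
    group
  have v2 : v * (x * y) * v⁻¹ = x⁻¹ := by
    rw [ev, ← h.sy, ← cjc.2 (show Commute s x from h.sx).inv_right.eq, ← h.uy]
    group
  have a1 : cj v (𝒜 x) = 𝒜 (x * y) := by rw [cj_AA vV vE, v1]
  have a2 : cj v (𝒜 (x * y)) = 𝒜 x := by rw [cj_AA vV vE, v2, AA_inv]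
  have a3 : cj v (𝒜 (x * (x * y))) = 𝒜 y := by rw [cj_AA vV vE, cjm, v1, v2, h.xy.eq, mul_inv_cancel_right]
  have a4 : cj v (𝒜 y) = 𝒜 (x * (x * y)) := by
    rw [cj_AA vV vE, show v * y * v⁻¹ = (v * x * v⁻¹)⁻¹ * (v * (x * y) * v⁻¹) by group, v1, v2, ← mul_inv_rev, AA_inv]
  have vc : v ∈ normalizer (zpowers c : Set G) := nzp (mem_YY.1 vY).1
  have Ec : EE x y ≤ normalizer (zpowers c : Set G) := fun f hf => nzp (mem_YY.1 (h.EY hf)).1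
  have cV := h.cV'
  have lx := h.AV h.xE
  have ly := h.AV h.yE
  have l1 := h.AV h.xyE
  have l2 := h.AV h.x2yE
  have sU := le_normalizer_iff_commutator_le_left.1 h.SU
  have uy := h.A_U h.yE h.xE h.g1.symm
  have u1 := h.A_U h.xyE h.xE h.g2.symm
  have u2 := h.A_U h.x2yE h.xE h.g3.symm
  have cS : ∀ W : Subgroup G, ⁅zpowers c, h.S⁆ ≤ W := fun W => czp fun b => h.Sc
  have XV := sup_le cV h.TV
  have EX : EE x y ≤ normalizer ((zpowers c ⊔ 𝒯 : Subgroup G) : Set G) := fun f hf => nsup (Ec hf) (h.ET hf)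
  have vX := nsup vc (h.nT vV vE)
  have ES' : EE x y ≤ normalizer ((h.S ⊔ cj v h.S : Subgroup G) : Set G) := fun f hf => nsup (h.ES hf) (by
    rw [← cj_normalizer, mem_cj]; exact h.ES (conj_mem_of_mem_normalizer' vE hf))
  have both : ∀ N : Subgroup G, v ∈ normalizer (N : Set G) → h.S ≤ N → h.S ⊔ cj v h.S ≤ N := fun N n l =>
    sup_le l (cj_le_iff'.2 fun g hg => conj_mem_of_mem_normalizer n (l hg))
  have two : ∀ W1 W2 : Subgroup G, v ∈ normalizer (W1 : Set G) → v ∈ normalizer (W2 : Set G) → W2 ≤ W1 →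
      ⁅W1, h.S⁆ ≤ W2 → IsPGroup 2 ↥(centralizer {c} ⊓ relCentralizer W1 W2) → IsPGroup 2 ↥(h.S ⊔ cj v h.S) :=
    fun W1 W2 n1 n2 l i p => p.to_le (both _ (ninf (nce (mem_YY.1 vY).1) (rc_norm n1 n2)) (le_inf
      (fun b hb => mc.2 (h.Sc hb)) (le_relCentralizer_iff.2 ⟨nco ((commutator_mono l le_rfl).trans i), cle i⟩)))
  have back : ∀ X W : Subgroup G, v ∈ normalizer (W : Set G) → ⁅cj v X, h.S ⊔ cj v h.S⁆ ≤ W → ⁅X, h.S⁆ ≤ W :=
    fun X W n i => by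
    rw [← cj_le_cj_iff (g := v), cj_commutator, cj_eq_of_mem_normalizer n]
    exact (commutator_mono le_rfl le_sup_right).trans i
  have nt : ⁅𝒜 y, h.S⁆ ≤ ⊥ → ⁅𝒜 (x * y) ⊔ 𝒜 (x * (x * y)), h.S⁆ ≤ ⊥ → False := fun i1 i2 =>
    h.nontriv ((commutator_mono h.Ux_le le_rfl).trans (h.csup ly (sup_le l1 l2) bot_le i1 i2))
  rcases h.dich2 with ⟨d1, d2⟩ | ⟨d1, d2⟩
  · obtain ⟨W, eW⟩ : ∃ W, W = zpowers c ⊔ (𝒜 x ⊔ 𝒜 (x * y)) := ⟨_, rfl⟩
    have WV : W ≤ V := eW ▸ sup_le cV (sup_le lx l1)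
    have EW : EE x y ≤ normalizer (W : Set G) := fun f hf => eW ▸ nsup (Ec hf) (nsup (h.EA _ hf) (h.EA _ hf))
    have vW : v ∈ normalizer (W : Set G) := eW ▸ nsup vc (norm_of_cj (by rw [cj_sup, a1, a2, sup_comm]))
    have cW : zpowers c ≤ W := eW ▸ le_sup_left
    have xW : 𝒜 x ≤ W := eW ▸ le_sup_left.trans le_sup_right
    have yW : 𝒜 (x * y) ≤ W := eW ▸ le_sup_right.trans le_sup_right
    have WS : ⁅W, h.S⁆ ≤ zpowers c := eW ▸ h.csup cV (sup_le lx l1) cV (cS _) (h.csup lx l1 cV hb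
      ((commutator_mono le_sup_left le_rfl).trans (d1.trans bot_le)))
    have K1 : ¬ ⁅𝒜 y, h.S⁆ ≤ W := fun i => by
      have i1 : ⁅𝒜 y, h.S⁆ ≤ 𝒜 (x * y) := fun g hg => by
        have g1 := i hg
        rw [eW, ← sup_assoc] at g1
        obtain ⟨a, ha, b, hb, rfl⟩ := h.dec2 (sup_le cV lx) l1 g1
        rwa [h.U_bot h.xE ((mul_mem_cancel_right (u1 hb)).1 (sU (commutator_mono uy le_rfl hg)))
          (mc.1 (sup_le (zpowers_le.2 (mc.2 h.cx)) (fun a ha => mc.2 (h.Ac h.xE ha)) ha)), one_mul]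
      have i2 := h.jsw i1
      rw [cj_eq_of_mem_normalizer h.jA, h.jA1] at i2
      refine nt (fun g hg => h.A_D h.xyE (i1 hg) (h.cD' (l1 (i1 hg)) fun f hf => mc.1 (h.g6.trans (sup_le
        (zpowers_le.2 (mc.2 (h.Ac h.xyE (i1 hg)).symm)) (zpowers_le.2 (mc.2 (h.Ac h.x2yE (i2 hg)).symm))) hf))) d1
    have XS : ⁅zpowers c ⊔ 𝒯, h.S⁆ ≤ zpowers c ⊔ 𝒯 := h.csup cV h.TV XV (cS _) ((commutator_mono h.T_le le_rfl).trans
      (h.csup lx (h.UV h.xE) XV (hb.trans le_sup_left) (sU.trans ((h.UT h.xE).trans le_sup_right))))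
    refine K1 ((commutator_mono ((h.AT y).trans (le_sup_right.trans (h.line (two _ _ vW vc cW WS
      (h.two_of le_sup_left le_sup_left xW yW EW Ec)) XV WV (both _ (le_normalizer vX) (nco XS)) ES' EX EW
      ((h.zTD h.cD).trans cW) fun e he _ i => ?_))) le_rfl).trans (WS.trans cW))
    rcases he with rfl | rfl | rfl | rfl
    exacts [xW, absurd ((commutator_mono le_rfl le_sup_left).trans i) K1, yW, absurd (back _ _ vW (a4 ▸ i)) K1]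
  · obtain ⟨W, eW⟩ : ∃ W, W = zpowers c ⊔ (𝒜 y ⊔ 𝒜 (x * (x * y))) := ⟨_, rfl⟩
    have WV : W ≤ V := eW ▸ sup_le cV (sup_le ly l2)
    have EW : EE x y ≤ normalizer (W : Set G) := fun f hf => eW ▸ nsup (Ec hf) (nsup (h.EA _ hf) (h.EA _ hf))
    have vW : v ∈ normalizer (W : Set G) := eW ▸ nsup vc (norm_of_cj (by rw [cj_sup, a3, a4, sup_comm]))
    have cW : zpowers c ≤ W := eW ▸ le_sup_left
    have yW : 𝒜 y ≤ W := eW ▸ le_sup_left.trans le_sup_right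
    have WX : W ≤ zpowers c ⊔ 𝒯 := eW ▸ sup_le_sup_left (sup_le (h.AT _) (h.AT _)) _
    have XS : ⁅zpowers c ⊔ 𝒯, h.S⁆ ≤ W := h.csup cV h.TV WV (cS _) ((commutator_mono h.T_le le_rfl).trans
      (h.csup lx (h.UV h.xE) WV (hb.trans cW) ((commutator_mono h.Ux_le le_rfl).trans
        (h.csup ly (sup_le l1 l2) WV (d1.trans bot_le) (d2.trans yW)))))
    have K2 : ¬ ⁅𝒜 (x * (x * y)), h.S⁆ ≤ zpowers c := fun i => by
      have i1 : ⁅𝒜 (x * (x * y)), h.S⁆ ≤ ⊥ :=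
        (le_inf ((commutator_mono u2 le_rfl).trans sU) (i.trans (zpowers_le.2 h.cD))).trans (h.UD h.xE)
      have i2 := h.jsw i1
      rw [h.jA2, cj_bot] at i2
      exact nt d1 (h.csup l1 l2 bot_le i2 i1)
    have w1 : W ≤ zpowers c ⊔ UU V x := eW ▸ sup_le_sup_left (sup_le uy u2) _
    have w2 : W ≤ zpowers c ⊔ UU V (x * y) :=
      eW ▸ sup_le_sup_left (sup_le (h.A_U h.yE h.xyE h.g4) (h.A_U h.x2yE h.xyE h.g6.symm)) _
    refine K2 ((commutator_mono (le_sup_right.trans (le_sup_right.trans (eW.ge.trans (h.line (two _ _ vX vW WX XS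
      (h.two_of w1 w2 ((h.AT _).trans le_sup_right) ((h.AT _).trans le_sup_right) EX EW)) WV cV
      (both _ (le_normalizer vW) (nco ((commutator_mono WX le_rfl).trans XS))) ES' EW Ec
      ((inf_le_inf_right _ WX).trans (h.zTD h.cD)) fun e he l i => ?_)))) le_rfl).trans (cS _))
    rcases he with rfl | rfl | rfl | rfl
    · exact fun a ha => by rw [h.W_bot h.xE (w1 (l ha)) ha]; exact one_mem _
    · exact absurd (back _ _ vc (a3 ▸ i)) K2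
    · exact fun a ha => by rw [h.W_bot h.xyE (w2 (l ha)) ha]; exact one_mem _
    · exact absurd ((commutator_mono le_rfl le_sup_left).trans i) K2

theorem z1 : z ≠ 1 := (h.dich3.resolve_left h.b1_false).1
theorem b2 : ⁅𝒜 x, h.S⁆ ≤ zpowers (z * c) := (h.dich3.resolve_left h.b1_false).2
theorem wD : z * c ∈ h.D := mul_mem h.zD h.cD
theorem wV : zpowers (z * c) ≤ V := zpowers_le.2 (h.DV h.wD)
theorem uz : u * z * u⁻¹ = z * c := (h.cs.resolve_left h.z1).2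

theorem DS : ⁅h.D, h.S⁆ ≤ zpowers (z * c) ⊔ 𝒜 x := by
  obtain ⟨W, eW⟩ : ∃ W, W = zpowers (z * c) ⊔ 𝒜 x := ⟨_, rfl⟩
  rw [← eW]
  have WV : W ≤ V := eW ▸ sup_le h.wV (h.AV h.xE)
  have AW : 𝒜 x ≤ W := eW ▸ le_sup_right
  have SW : h.S ≤ normalizer (W : Set G) := nco (eW ▸ h.csup h.wV (h.AV h.xE) (eW ▸ WV) (czp fun _ => h.Sw)
    (h.b2.trans le_sup_left))
  obtain ⟨t, et⟩ : ∃ t, t = s * c * s⁻¹ := ⟨_, rfl⟩
  have tD : t ∈ h.D := et ▸ h.c2D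
  have tx : t * x = x * t := et ▸ h.c2x
  have key : ∀ b ∈ h.S, ⁅t, b⁆ ∈ W := fun b hb => by
    have fF : b * t * b⁻¹ * t⁻¹ ∈ h.F := mul_mem (conj_mem_of_mem_normalizer (h.SF hb) (h.D_le tD)) (inv_mem (h.D_le tD))
    obtain ⟨a, ha, d, hd, e⟩ := h.dec2 (h.AV h.xE) h.DV (h.F_le_AD fF)
    obtain ⟨-, s2, f, -, s3, s4⟩ := Sb_facts (h.mem_lf.1 hb).2.1
    obtain ⟨d1, d2, d3⟩ := h.mem_D.1 hd
    have dV := h.DV hd
    have a0 := h.AV h.xE ha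
    have a1 := conj_mem_of_mem_normalizer (h.EA x h.yE) ha
    have a2 := conj_mem_of_mem_normalizer (h.EA x h.yE) a1
    have dd := h.sq d dV
    have i1 : (a * d * y) ^ 3 = d := by
      rw [← h.comm dV a0, mul_assoc, ((show Commute d a from h.comm dV a0).mul_right d2).mul_pow, h.cube_eq, h.tau ha,
        mul_one, pow_three, dd, mul_one]
    have i2 : φ d = 1 ∨ φ d = FF 1 := by
      have c1 := (h.mem_F.1 fF).1
      rwa [← i1, e, h.φ_pow (h.cmul c1 h.cy), h.mul _ _ c1 h.cy, h.mul _ _ (h.ccj (h.Sx hb) tx) (h.cinv tx),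
        h.φ_conj (h.Sx hb) tx, h.φ_inv tx, et, h.φc2, s3, mul_inv_cancel_right, mul_inv_cancel_right, h.φy]
    have i3 : ∀ g ∈ h.S, g * d * g⁻¹ = d := fun g hg => cjc.2 (by
      have gz := h.zc g (h.Sx hg)
      rcases i2 with i | i
      · rcases h.kerT d1 i d3 with rfl | rfl
        exacts [by simp, gz]
      · rcases h.eqT d1 h.cx (i.trans h.φc.symm) d3 (T2.of_sq h.cc) with rfl | rfl
        exacts [h.Sc hg, ((show Commute g c from h.Sc hg).mul_right gz).eq])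
    have b1 := conj_mem_of_mem_normalizer h.yS hb
    have b2 := conj_mem_of_mem_normalizer h.yS b1
    have e0 : b * t * b⁻¹ = a * d * t := by rw [e, inv_mul_cancel_right]
    have st : ∀ b a, b * t * b⁻¹ = a * d * t → y * b * y⁻¹ * t * (y * b * y⁻¹)⁻¹ = y * a * y⁻¹ * d * t := fun b a i => by
      have ty := cjc.2 (h.mem_D.1 tD).2.1.symm
      calc _ = y * (b * (y⁻¹ * (y * t * y⁻¹) * y) * b⁻¹) * y⁻¹ := by rw [ty]; group
        _ = y * a * y⁻¹ * (y * d * y⁻¹) * (y * t * y⁻¹) := by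
          rw [show y⁻¹ * (y * t * y⁻¹) * y = t by group, i]; group
        _ = _ := by rw [ty, cjc.2 d2.symm]
    have e1 := st _ _ e0
    have e2 := st _ _ e1
    have bF : (b * y) ^ 3 ∈ h.F := by
      have := mul_mem (mul_mem hb b1) b2
      rw [← h.cube_eq] at this
      exact h.mem_lf.2 ⟨h.Sx this, by rwa [h.φ_pow (h.cmul (h.Sx hb) h.cy), h.mul _ _ (h.Sx hb) h.cy, h.φy],
        T2.of_mem h.two_S this⟩
    have e3 := cjc.2 (h.F_comm bF (h.D_le tD))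
    rw [h.cube_eq] at e3
    generalize y * (y * b * y⁻¹) * y⁻¹ = b'' at b2 e2 e3
    generalize y * b * y⁻¹ = b' at b1 e1 e3
    generalize y * (y * a * y⁻¹) * y⁻¹ = a'' at a2 e2
    generalize y * a * y⁻¹ = a' at a1 e1
    have w1 := conj_mem_of_mem_normalizer (SW (mul_mem hb b1)) (AW a2)
    have w2 := conj_mem_of_mem_normalizer (SW hb) (AW a1)
    rw [show b * b' * b'' * t * (b * b' * b'')⁻¹ = b * (b' * (b'' * t * b''⁻¹) * b'⁻¹) * b⁻¹ by group, e2, cjm b', cjm b',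
      i3 _ b1, e1, show b * (b' * a'' * b'⁻¹ * d * (a' * d * t)) * b⁻¹ = b * b' * a'' * (b * b')⁻¹ * (b * d * b⁻¹) *
        (b * a' * b⁻¹ * (b * d * b⁻¹) * (b * t * b⁻¹)) by group, i3 _ hb, e0] at e3
    generalize b * b' * a'' * (b * b')⁻¹ = p at w1 e3
    generalize b * a' * b⁻¹ = q at w2 e3
    have : d = (p * q * a)⁻¹ := by
      rw [eq_inv_iff_mul_eq_one, ← h.comm (WV (mul_mem (mul_mem w1 w2) (AW ha))) dV, ← mul_left_inj t, one_mul]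
      nth_rewrite 2 [← e3]
      rw [mul_assoc p d, ← mul_assoc d, ← mul_assoc d, ← h.comm (WV w2) dV, mul_assoc q d d, dd]
      group
    rw [← commutatorElement_inv, inv_mem_iff, commutatorElement_def, ← e, this]
    exact mul_mem (AW ha) (inv_mem (mul_mem (mul_mem w1 w2) (AW ha)))
  have mk : ∀ v ∈ h.D, (∀ b ∈ h.S, ⁅v, b⁆ ∈ W) → v ∈ relCentralizer h.S W := fun v hv i => ⟨h.nV WV (h.DV hv), i⟩
  have one : ∀ v ∈ h.D, (∀ b ∈ h.S, b * v = v * b) → v ∈ relCentralizer h.S W := fun v hv i => mk v hv fun b hb => by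
    rw [commutatorElement_eq_one_iff_mul_comm.2 (i b hb).symm]; exact one_mem _
  have r1 := one z h.zD fun b hb => h.zc b (h.Sx hb)
  have r2 := one c h.cD fun b => h.Sc
  have r3 := mk t tD key
  refine (le_relCentralizer_iff.1 fun d hd => ?_).2
  obtain ⟨d1, d2, d3⟩ := h.mem_lf.1 hd
  have fin : ∀ v ∈ h.D, v ∈ relCentralizer h.S W → φ d = φ v → d ∈ relCentralizer h.S W := fun v hv i e => by
    rcases h.eqT d1 (h.mem_D.1 hv).1 e d3 (h.mem_D.1 hv).2.2 with rfl | rfl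
    exacts [i, mul_mem i r1]
  rcases mem_Db.1 d2 with e | e | e | e
  exacts [fin 1 (one_mem _) (one_mem _) (e.trans h.φ_one.symm), fin c h.cD r2 (e.trans h.φc.symm),
    fin t tD r3 (et ▸ e.trans h.φc2.symm), fin _ (mul_mem h.cD tD) (mul_mem r2 r3) (et ▸ e.trans h.φc3.symm)]

theorem exists_Sig : ∃ P : Subgroup G, IsPGroup 2 P ∧ P ≤ centralizer {z} ∧ EE x y ≤ normalizer (P : Set G) ∧
    s ∈ normalizer (P : Set G) ∧ cj u⁻¹ h.S ≤ P ∧ h.F ≤ P ∧ P ⊓ centralizer {x} ≤ h.F := by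
  have wV := h.wV
  have lx := h.AV h.xE
  have ly := h.AV h.yE
  have l12 := sup_le (h.AV h.xyE) (h.AV h.x2yE)
  have wS : ∀ W : Subgroup G, ⁅zpowers (z * c), h.S⁆ ≤ W := fun W => czp fun b => h.Sw
  obtain ⟨B, b1, b2, b3, b4, b5⟩ : ∃ B ≤ 𝒯, (∀ g ∈ normalizer (V : Set G), g ∈ normalizer (EE x y : Set G) →
      g * y = y * g → g ∈ normalizer (B : Set G)) ∧ ⁅UU V x, h.S⁆ ≤ B ∧ ⁅B, h.S⁆ ≤ zpowers (z * c) ∧
      (B = UU V y ∨ B = 𝒜 y) := by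
    rcases h.dich2 with ⟨d1, d2⟩ | ⟨d1, d2⟩
    · exact ⟨_, h.UT h.yE, fun g i _ => h.nU i, (commutator_mono h.Ux_le le_rfl).trans (h.csup ly l12 (h.UV h.yE)
        (d2.trans (sup_le (h.A_U h.xyE h.yE h.g4.symm) (h.A_U h.x2yE h.yE h.g5.symm))) (d1.trans bot_le)),
        (commutator_mono h.Uy_le le_rfl).trans (h.csup lx l12 wV h.b2 (d1.trans bot_le)), Or.inl rfl⟩
    · exact ⟨_, h.AT y, fun g i1 i2 i3 => norm_of_cj (by rw [cj_AA i1 i2, cjc.2 i3]),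
        (commutator_mono h.Ux_le le_rfl).trans (h.csup ly l12 ly (d1.trans bot_le) d2), d1.trans bot_le, Or.inr rfl⟩
  obtain ⟨Y, eY⟩ : ∃ Y, Y = zpowers (z * c) ⊔ 𝒯 := ⟨_, rfl⟩
  obtain ⟨Z, eZ⟩ : ∃ Z, Z = zpowers (z * c) ⊔ B := ⟨_, rfl⟩
  have ZY : Z ≤ Y := eY ▸ eZ ▸ sup_le_sup_left b1 _
  have YV : Y ≤ V := eY ▸ sup_le wV h.TV
  have ZV := ZY.trans YV
  have wZ : zpowers (z * c) ≤ Z := eZ ▸ le_sup_left
  have c3 : ⁅Z, h.S⁆ ≤ zpowers (z * c) := eZ ▸ h.csup wV (b1.trans h.TV) wV (wS _) b4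
  have c2' : ⁅𝒯, h.S⁆ ≤ Z := (commutator_mono h.T_le le_rfl).trans
    (h.csup lx (h.UV h.xE) ZV (h.b2.trans wZ) (b3.trans (eZ ▸ le_sup_right)))
  have c2 : ⁅Y, h.S⁆ ≤ Z := eY ▸ h.csup wV h.TV ZV (wS _) c2'
  have c1 : ⁅V, h.S⁆ ≤ Y := (commutator_mono (h.dec le_rfl h.EV (inf_le_right.trans le_sup_left) fun e _ =>
    inf_le_right.trans ((h.AT e).trans le_sup_right)) le_rfl).trans (h.csup h.DV h.TV YV
      (h.DS.trans (eY ▸ sup_le_sup_left (h.AT x) _)) (c2'.trans ZY))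
  obtain ⟨P, eP⟩ : ∃ P, P = centralizer {z * c} ⊓ (relCentralizer V Y ⊓ (relCentralizer Y Z ⊓
    relCentralizer Z (zpowers (z * c)))) := ⟨_, rfl⟩
  have mk : ∀ X : Subgroup G, X ≤ centralizer {z * c} → ⁅V, X⁆ ≤ Y → ⁅Y, X⁆ ≤ Z → ⁅Z, X⁆ ≤ zpowers (z * c) → X ≤ P :=
    fun X i0 i1 i2 i3 => eP ▸ le_inf i0 (le_inf (le_relCentralizer_iff.2 ⟨nco (i2.trans ZY), cle i1⟩)
      (le_inf (le_relCentralizer_iff.2 ⟨nco (i3.trans wZ), cle i2⟩)
        (le_relCentralizer_iff.2 ⟨fun g hg => nzp (mc.1 (i0 hg)), cle i3⟩)))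
  have nP : ∀ g ∈ normalizer (V : Set G), g ∈ normalizer (EE x y : Set G) → g * y = y * g →
      g * (z * c) = z * c * g → g ∈ normalizer (P : Set G) := fun g i1 i2 i3 i4 => by
    have j1 : g ∈ normalizer (Y : Set G) := eY ▸ nsup (nzp i4) (h.nT i1 i2)
    have j2 : g ∈ normalizer (Z : Set G) := eZ ▸ nsup (nzp i4) (b2 g i1 i2 i3)
    exact eP ▸ ninf (nce i4) (ninf (rc_norm i1 j1) (ninf (rc_norm j1 j2) (rc_norm j2 (nzp i4))))
  have cV : ∀ X W : Subgroup G, X ≤ V → ⁅X, V⁆ ≤ W := fun X W l => cbot fun a ha v hv => h.comm hv (l ha)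
  have two : IsPGroup 2 P := isP2 fun g hg => by
    obtain ⟨g0, g1, g2, g3⟩ := eP.le hg
    have i := tr_sq (tr_sq g1.2 g2.2 fun v hv => h.sq v (YV hv)) (tr_sq (Z := ⊥) g3.2 (fun v hv => by
      rw [mem_bot, commutatorElement_eq_one_iff_mul_comm]
      exact (mc.1 ((zpowers_le.2 (mc.2 (mc.1 g0).symm) : _ ≤ centralizer {g}) hv)).symm) fun v hv => h.sq v (wV hv))
      fun v hv => h.sq v (ZV hv)
    exact ⟨3, by
      have := h.sq _ (h.cV fun v hv => (commutatorElement_eq_one_iff_mul_comm.1 (i v hv)).symm)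
      rw [← this, show 2 ^ 3 = 8 from rfl]; simp only [pow_succ, pow_zero, one_mul, mul_assoc]⟩
  have m : ∀ g, g ∈ cj u⁻¹ P ↔ u * g * u⁻¹ ∈ P := fun g => by rw [mem_cj, inv_inv]
  have nn : ∀ g, u * g * u⁻¹ ∈ normalizer (P : Set G) → g ∈ normalizer (cj u⁻¹ P : Set G) := fun g i => by
    rwa [← cj_normalizer, mem_cj, inv_inv]
  refine ⟨cj u⁻¹ P, isPGroup_cj _ two, fun g hg => mc.2 ?_, fun f hf => nn f ?_, nn s (nP _ ?_ ?_ ?_ ?_),
    cj_mono _ (mk _ (fun b hb => mc.2 (h.Sw hb)) c1 c2 c3), fun f hf => (m f).2 (mk V (fun v hv => mc.2 (h.comm hv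
      (h.DV h.wD))) (cV _ _ le_rfl) (cV _ _ YV) (cV _ _ ZV) (conj_mem_of_mem_normalizer h.uV (h.FV hf))),
    fun g hg => ?_⟩
  · have := mc.1 (eP.le ((m g).1 hg)).1
    rwa [← h.uz, ← cjm, ← cjm, cj_inj] at this
  · have i := conj_mem_of_mem_normalizer h.uE hf
    exact nP _ (h.EV i) (h.NE i) (h.cE i).2 (h.DE h.wD _ i)
  · exact mul_mem (mul_mem h.uV h.sV) (inv_mem h.uV)
  · exact mul_mem (mul_mem h.uE h.sE) (inv_mem h.uE)
  · rw [← h.ux, ← cjm, ← cjm, h.sx]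
  · rw [← h.uz, ← cjm, ← cjm, h.zc s h.sx]
  have gx := mc.1 hg.2
  obtain ⟨-, -, g2, g3⟩ := eP.le ((m g).1 hg.1)
  have gy : u * g * u⁻¹ * y = y * (u * g * u⁻¹) := by rw [← h.ux, ← cjm, ← cjm, gx]
  have key : ∀ a ∈ 𝒜 x, φ g * φ a = φ a * φ g := fun a ha => by
    have i1 : u * a * u⁻¹ ∈ 𝒜 y := by
      have := conj_mem_cj (g := u).2 ha
      rwa [cj_AA h.uV h.uE, h.ux] at this
    have i2 : ⁅u * g * u⁻¹, u * a * u⁻¹⁆ ∈ zpowers (z * c) := by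
      rcases b5 with rfl | rfl
      · refine h.zU h.wD h.yE (eZ.le (g2.2 _ (eY.ge (mem_sup_right (h.AT y i1))))) ?_
        have j1 : Commute (u * g * u⁻¹) y := gy
        have j2 : Commute (u * a * u⁻¹) y := h.Ac h.yE i1
        exact (((j1.mul_left j2).mul_left j1.inv_left).mul_left j2.inv_left).eq
      · exact g3.2 _ (eZ.ge (mem_sup_right i1))
    rw [← h.uz, ← cj_zp, show ⁅u * g * u⁻¹, u * a * u⁻¹⁆ = u * (g * a * g⁻¹ * a⁻¹) * u⁻¹ by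
      rw [commutatorElement_def]; group, conj_mem_cj] at i2
    have ax := h.Ac h.xE ha
    have : φ (g * a * g⁻¹ * a⁻¹) = 1 := by
      rcases h.mz.1 i2 with e | e <;> rw [e]
      exacts [h.φ_one, h.φ_z]
    rwa [h.mul _ _ (h.ccj gx ax) (h.cinv ax), h.φ_conj gx ax, h.φ_inv ax, mul_inv_eq_one, cjc] at this
  obtain ⟨⟨a, a1, a2⟩, b, b1, b2⟩ := h.exA
  have t := T2.of_mem (isPGroup_cj _ two) hg.1
  exact h.mem_lf.2 ⟨gx, A_two (h.mem g gx) (b2 ▸ key b b1) (a2 ▸ key a a1) (h.φT gx t), t⟩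

end Sv

end H66.Sev
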