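import Cfsg.Agent.Lib.J4.Sev8

/-!
# An element of order three with centraliser `6·M22`: a subgroup of order `2¹³` normalised by `N(⟨x⟩)`
-/

set_option autoImplicit false
set_option linter.unusedSectionVars false
set_option maxRecDepth 100000

namespace H66.Sev
open Cfsg H15 H95 H68 H75.J4 Subgroup H66.Six

theorem card_two_class {G : Type*} [Group G] {X : Subgroup G} {a d b : G} (h : ∀ g ∈ X, g * a = a * g ∨ g * a = d * a * g)
    (hb : b ∈ X) (nb : b * a ≠ a * b) : Nat.card X = 2 * Nat.card ↥(X ⊓ centralizer {a}) := by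
  have e := (h b hb).resolve_left nb
  rw [card_class X a, show {w | ∃ n ∈ X, n * a * n⁻¹ = w} = {a, d * a} from Set.ext fun w => ⟨by
    rintro ⟨n, hn, rfl⟩
    exact (h n hn).imp cjc.2 mul_inv_eq_iff_eq_mul.2, by
    rintro (rfl | rfl)
    exacts [⟨1, one_mem _, by simp⟩, ⟨b, hb, mul_inv_eq_iff_eq_mul.2 e⟩]⟩,
    Set.ncard_pair fun i => nb (by rw [e, ← i])]

theorem card_Sb : Nat.card Sb = 64 := by
  have o : okP 984801745269732621477165754873104672 = true := by decide +kernel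
  have g := gM_good (c := 984801745269732621477165754873104672) (by decide +kernel)
  have m : permOf 984801745269732621477165754873104672 ∈ Sb ⊓ centralizer {FF 2} := ⟨mem_Sb.2 ⟨g.2,
    by simpa [weq_iff, o, okF] using (by decide +kernel : weq [984801745269732621477165754873104672, PA 1]
      [PA 1, 984801745269732621477165754873104672] = true), (sbT_iff o).1 (by decide +kernel)⟩, mc.2 (by
    simpa [weq_iff, o, okF] using (by decide +kernel : weq [984801745269732621477165754873104672, PA 2]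
      [PA 2, 984801745269732621477165754873104672] = true))⟩
  rw [card_two_class (fun g hg => (mem_Sb.1 hg).2.2 2 (by simp)) B_facts.1 fun i => absurd (show weq [bC, PA 2] [PA 2, bC] =
      true by simpa [weq_iff, okb, okF] using i) (by decide +kernel),
    card_two_class (fun g hg => (mem_Sb.1 (mem_inf.1 hg).1).2.2 13 (by simp)) m fun i => absurd (show weq
      [984801745269732621477165754873104672, PA 13] [PA 13, 984801745269732621477165754873104672] =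
      true by simpa [weq_iff, o, okF] using i) (by decide +kernel),
    show Sb ⊓ centralizer {FF 2} ⊓ centralizer {FF 13} = Fb from le_antisymm (fun g hg => A_two (Sb_le hg.1.1) (by
      rw [show FF 15 = FF 2 * FF 13 by rw [F_mul (by norm_num) (by norm_num)]; rfl]
      exact ((show Commute g _ from mc.1 hg.1.2).mul_right (mc.1 hg.2)).eq) (mc.1 hg.2) (T2.of_mem Sb_two hg.1.1))
      fun g hg => ⟨⟨Fb_le_Sb hg, mc.2 (eaF.comm' hg (F_mem 2 (by norm_num)))⟩,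
        mc.2 (eaF.comm' hg (F_mem 13 (by norm_num)))⟩, card_Fb]

theorem B4 {j : ℕ} (hj : j = 4 ∨ j = 5) : B0 * FF j ≠ FF j * B0 ∧ B0 * FF j ≠ FF 1 * FF j * B0 :=
  ⟨fun i => absurd (show weq [bC, PA j] [PA j, bC] = true by simpa [weq_iff, okb, okF, show j < 16 by omega] using i)
      (by rcases hj with rfl | rfl <;> decide +kernel),
    fun i => absurd (show weq [bC, PA j] [PA 1, PA j, bC] = true by
      simpa [weq_iff, okb, okF, mul_assoc, show j < 16 by omega] using i)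
      (by rcases hj with rfl | rfl <;> decide +kernel)⟩

variable {G : Type*} [Group G] [Finite G]

theorem ncj {g n : G} {X : Subgroup G} (h : n⁻¹ * g * n ∈ normalizer (X : Set G)) : g ∈ normalizer (cj n X : Set G) := by
  rwa [← cj_normalizer, mem_cj]

/-- a `2`-subgroup of `C(z)` normalised by `x`, meeting `C(x)` in `⟨z⟩` -/
structure Gd (x z : G) (X : Subgroup G) : Prop where
  two : IsPGroup 2 X
  le : X ≤ centralizer {z}
  nx : x ∈ normalizer (X : Set G)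
  fix : X ⊓ centralizer {x} ≤ zpowers z

theorem Gd.inf {x z e : G} {X : Subgroup G} (h : Gd x z X) (c : x * e = e * x) : Gd x z (X ⊓ centralizer {e}) :=
  ⟨h.two.to_inf_left, inf_le_left.trans h.le, ninf h.nx (nce c), (inf_le_inf_right _ inf_le_left).trans h.fix⟩

theorem Gd.cj {x z : G} {X : Subgroup G} (h : Gd x z X) (n : G) : Gd (n * x * n⁻¹) (n * z * n⁻¹) (cj n X) :=
  ⟨isPGroup_cj n h.two, by rw [← cj_cent]; exact cj_mono n h.le, ncj (by simpa [mul_assoc] using h.nx),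
    by rw [← cj_cent, ← cj_inf, ← cj_zp]; exact cj_mono n h.fix⟩

theorem Gd.inv {x z : G} {X : Subgroup G} (h : Gd x z X) : Gd x⁻¹ z X :=
  ⟨h.two, h.le, inv_mem h.nx, by rw [cent_inv]; exact h.fix⟩

namespace St
variable {x z y c k s u : G} {φ : G → Equiv.Perm GolayPt} (h : St x z φ y c k s u)
include h

theorem wc {g : G} (c1 : g * x = x * g) (c2 : g * (z * c) = z * c * g) : g * c = c * g := by
  have := (show Commute g z from h.zc g c1).inv_right.mul_right c2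
  simpa using this.eq

theorem bd1 {X : Subgroup G} (p : IsPGroup 2 X) (l1 : X ≤ centralizer {x}) (l2 : X ≤ centralizer {z * c})
    (n : y ∈ normalizer (X : Set G)) : X ≤ h.S := fun g hg => by
  have c1 := mc.1 (l1 hg)
  have i := mul_mem hg (conj_mem_of_mem_normalizer n hg)
  have t := h.φT (mc.1 (l1 i)) (T2.of_mem p i)
  rw [h.mul _ _ c1 (h.ccj h.cy c1), h.φ_conj h.cy c1, h.φy] at t
  exact h.mem_lf.2 ⟨c1, Sb_of (h.mem g c1) (by
    rw [← h.φc, ← h.mul _ _ c1 h.cx, ← h.mul _ _ h.cx c1, h.wc c1 (mc.1 (l2 hg))]) (h.φT c1 (T2.of_mem p hg)) t,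
    T2.of_mem p hg⟩

variable (z1 : z ≠ 1)
include z1

theorem z2 : orderOf z = 2 := h.oz.resolve_left fun e => z1 (orderOf_eq_one_iff.1 e)
theorem uz : u * z * u⁻¹ = z * c := (h.cs.resolve_left z1).2
theorem card_S : Nat.card h.S = 128 := by rw [h.card_lf, card_Sb, h.z2 z1]

theorem class_S : {w | ∃ n ∈ h.S, n * y * n⁻¹ = w}.ncard = 16 := by
  have := card_class h.S y
  rw [h.card_S z1, show h.S ⊓ centralizer {y} = h.D from le_antisymm
    (fun g hg => h.mem_D.2 ⟨h.Sx hg.1, mc.1 hg.2, T2.of_mem h.two_S hg.1⟩)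
    fun g hg => ⟨h.F_le (h.D_le hg), mc.2 (h.mem_D.1 hg).2.1⟩, h.card_D, h.z2 z1] at this
  omega

theorem bd2 {X : Subgroup G} (g : Gd y (z * c) X) (l : X ≤ centralizer {x}) : Nat.card X ≤ 32 ∧
    (Nat.card X = 32 → z * c ∈ X ∧ ∀ b ∈ h.S, ∃ r ∈ X, r * y * r⁻¹ = b * y * b⁻¹) := by
  have l1 := h.bd1 g.two l g.le g.nx
  have c1 := card_class X y
  have c2 := card_le_of_le g.fix
  have o : Nat.card (zpowers (z * c)) = 2 := by rw [Nat.card_zpowers, ← h.uz z1, ocj, h.z2 z1]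
  have sub : {w | ∃ n ∈ X, n * y * n⁻¹ = w} ⊆ {w | ∃ n ∈ h.S, n * y * n⁻¹ = w} := fun w ⟨n, hn, e⟩ => ⟨n, l1 hn, e⟩
  have c3 := Set.ncard_le_ncard sub
  rw [h.class_S z1] at c3
  rw [o] at c2
  refine ⟨c1 ▸ Nat.mul_le_mul c3 c2, fun e => ⟨((eq_of_le_of_card_ge g.fix (by rw [o]; nlinarith)).ge (mem_zpowers _)).1,
    fun b hb => (Set.eq_of_subset_of_ncard_le sub (by rw [h.class_S z1]; nlinarith)).ge ⟨b, hb, rfl⟩⟩⟩

theorem bd3 {X R : Subgroup G} (g : Gd y (z * c) X) (l : X ≤ centralizer {x}) (g' : Gd y (z * c) R)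
    (l' : R ≤ centralizer {x}) (e : Nat.card R = 32) : X ≤ R := fun a ha => by
  obtain ⟨i1, i2⟩ := (h.bd2 z1 g' l').2 e
  obtain ⟨r, hr, e2⟩ := i2 _ (h.bd1 g.two l g.le g.nx (inv_mem ha))
  rw [inv_inv] at e2
  obtain ⟨i, hi, e3⟩ := fix3 (I := X ⊓ R) (a := a) (not3 g.two.to_inf_left) h.y3 (ninf g.nx g'.nx)
    ⟨by simpa [mul_assoc] using mul_mem (inv_mem ha) (conj_mem_of_mem_normalizer g.nx ha), by
      rw [← e2]; simpa [mul_assoc] using mul_mem hr (conj_mem_of_mem_normalizer g'.nx (inv_mem hr))⟩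
  exact (mul_mem_cancel_right (mem_inf.1 hi).2).1 (zpowers_le.2 i1 (g.fix ⟨mul_mem ha hi.1, mc.2 e3⟩))

theorem fr {m : G} (hm : m * x = x * m) : u * m⁻¹ * x * (u * m⁻¹)⁻¹ = y ∧ u * m⁻¹ * z * (u * m⁻¹)⁻¹ = z * c ∧
    cj (u * m⁻¹) (centralizer {m * y * m⁻¹}) = centralizer {x} := by
  refine ⟨?_, ?_, ?_⟩
  · rw [← h.ux]; nth_rewrite 2 [← cjc.2 (h.cinv hm)]; group
  · rw [← h.uz z1]; nth_rewrite 2 [← h.cjz (h.cinv hm)]; group
  · rw [cj_cent, ← cent_inv x, ← h.uy]; group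

theorem bdA {m : G} (hm : m * x = x * m) {X : Subgroup G} (g : Gd x z X) :
    Nat.card ↥(X ⊓ centralizer {m * y * m⁻¹}) ≤ 32 := by
  obtain ⟨e1, e2, e3⟩ := h.fr z1 hm
  have := (g.inf (h.ccj hm h.cy).symm).cj (u * m⁻¹)
  rw [e1, e2] at this
  rw [← card_cj (u * m⁻¹)]
  exact (h.bd2 z1 this (e3 ▸ cj_mono _ inf_le_right)).1

theorem bdB {m : G} (hm : m * x = x * m) {X R : Subgroup G} (g : Gd x z X) (g' : Gd x z R)
    (e : Nat.card ↥(R ⊓ centralizer {m * y * m⁻¹}) = 32) : X ⊓ centralizer {m * y * m⁻¹} ≤ R := by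
  obtain ⟨e1, e2, e3⟩ := h.fr z1 hm
  have i := (g.inf (h.ccj hm h.cy).symm).cj (u * m⁻¹)
  have i' := (g'.inf (h.ccj hm h.cy).symm).cj (u * m⁻¹)
  rw [e1, e2] at i i'
  exact (cj_le_cj_iff.1 (h.bd3 z1 i (e3 ▸ cj_mono _ inf_le_right) i' (e3 ▸ cj_mono _ inf_le_right)
    (by rw [card_cj, e]))).trans inf_le_left

theorem bdC {m : G} (hm : m * x = x * m) {X : Subgroup G} (p : IsPGroup 2 X) (l : X ≤ centralizer {z})
    (n : x ∈ normalizer (X : Set G)) : X ⊓ centralizer {m * y * m⁻¹} ≤ cj m (cj u⁻¹ h.S) := by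
  obtain ⟨e1, e2, e3⟩ := h.fr z1 hm
  rw [← cj_mul, le_cj_iff, mul_inv_rev, inv_inv]
  refine h.bd1 (isPGroup_cj _ p.to_inf_left) (e3 ▸ cj_mono _ inf_le_right)
    (by rw [← e2, ← cj_cent (u * m⁻¹)]; exact cj_mono _ (inf_le_left.trans l)) (ncj ?_)
  rw [show (u * m⁻¹)⁻¹ * y * (u * m⁻¹) = x by rw [← e1]; group]
  exact ninf n (nce (h.ccj hm h.cy).symm)

omit z1 in
theorem lines {m : G} (hm : m * x = x * m) : x * (m * y * m⁻¹) = m * s * y * (m * s)⁻¹ ∧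
    x * (x * (m * y * m⁻¹)) = m * s * s * y * (m * s * s)⁻¹ ∧ m * y * m⁻¹ ∉ zpowers x := by
  have e : ∀ g, x * (m * g * m⁻¹) = m * (x * g) * m⁻¹ := fun g => by rw [cjm, cjc.2 hm]
  refine ⟨by rw [e, ← h.sy]; group, by rw [e, e, ← h.sxy, ← h.sy]; group, fun i => h.hy ?_⟩
  simpa [mul_assoc] using conj_mem_of_mem_normalizer' (nzp hm) i

theorem three32 {m : G} (hm : m * x = x * m) {X : Subgroup G} (p : IsPGroup 2 X) (nx : x ∈ normalizer (X : Set G))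
    (n : m * y * m⁻¹ ∈ normalizer (X : Set G)) (g : ∀ m', m' * x = x * m' → m' * y * m'⁻¹ ∈ EE x (m * y * m⁻¹) →
      Nat.card ↥(X ⊓ centralizer {m' * y * m'⁻¹}) ≤ 32)
    (e : Nat.card ↥(X ⊓ centralizer {x}) * 2 ^ 15 ≤ Nat.card ↥(X ⊓ centralizer {x} ⊓ centralizer {m * y * m⁻¹}) ^ 3 *
      Nat.card X) : ∀ m', m' = m ∨ m' = m * s ∨ m' = m * s * s → Nat.card ↥(X ⊓ centralizer {m' * y * m'⁻¹}) = 32 := by
  obtain ⟨e1, e2, -⟩ := h.lines hm
  have i1 := mem_sup_left (T := zpowers (m * y * m⁻¹)) (mem_zpowers x)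
  have i2 := mem_sup_right (S := zpowers x) (mem_zpowers (m * y * m⁻¹))
  have b1 := g m hm i2
  have b2 := g _ (h.cmul hm h.sx) (e1 ▸ mul_mem i1 i2)
  have b3 := g _ (h.cmul (h.cmul hm h.sx) h.sx) (e2 ▸ mul_mem i1 (mul_mem i1 i2))
  rw [← wie p h.cube (cj_cube h.y3) (h.ccj hm h.cy).symm nx n, e2, e1, mul_assoc, mul_assoc] at e
  have := Nat.le_of_mul_le_mul_left e Nat.card_pos
  have key : ∀ a b d : ℕ, a ≤ 32 → b ≤ 32 → d ≤ 32 → 2 ^ 15 ≤ a * (b * d) → a = 32 := fun a b d i1 i2 i3 i4 => by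
    have := Nat.mul_le_mul_left a (Nat.mul_le_mul i2 i3)
    omega
  rintro _ (rfl | rfl | rfl)
  exacts [key _ _ _ b1 b2 b3 this, key _ _ _ b2 b1 b3 (by rwa [mul_left_comm]),
    key _ _ _ b3 b1 b2 (by rwa [mul_comm, mul_assoc])]

theorem fixz {X : Subgroup G} (g : Gd x z X) (hz : z ∈ X) {e : G} (he : e * x = x * e) :
    Nat.card ↥(X ⊓ centralizer {x}) = 2 ∧ Nat.card ↥(X ⊓ centralizer {x} ⊓ centralizer {e}) = 2 := by
  rw [show X ⊓ centralizer {x} = zpowers z from le_antisymm g.fix (zpowers_le.2 ⟨hz, mc.2 h.zx⟩),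
    inf_eq_left.2 (zpowers_le.2 (mc.2 (h.zc e he).symm)), Nat.card_zpowers, h.z2 z1]
  exact ⟨rfl, rfl⟩

theorem Q32 {m : G} (hm : m * x = x * m) {Q : Subgroup G} (g : Gd x z Q) (hz : z ∈ Q) (e : Nat.card Q = 2 ^ 13)
    (n : m * y * m⁻¹ ∈ normalizer (Q : Set G)) :
    ∀ m', m' = m ∨ m' = m * s ∨ m' = m * s * s → Nat.card ↥(Q ⊓ centralizer {m' * y * m'⁻¹}) = 32 :=
  h.three32 z1 hm g.two g.nx n (fun _ i _ => h.bdA z1 i g) (by
    rw [(h.fixz z1 g hz (h.ccj hm h.cy)).1, (h.fixz z1 g hz (h.ccj hm h.cy)).2, e]; norm_num)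

theorem UQ {m : G} (hm : m * x = x * m) {Q X : Subgroup G} (g : Gd x z Q) (hz : z ∈ Q) (e : Nat.card Q = 2 ^ 13)
    (n : m * y * m⁻¹ ∈ normalizer (Q : Set G)) (g' : Gd x z X) (n' : m * y * m⁻¹ ∈ normalizer (X : Set G)) : X ≤ Q := by
  obtain ⟨e1, e2, e3⟩ := h.lines hm
  have i := h.Q32 z1 hm g hz e n
  exact gen4 h.x3 (cj_cube h.y3) (h.ccj hm h.cy).symm e3 (not3 g'.two) g'.nx n' (g'.fix.trans (zpowers_le.2 hz))
    (h.bdB z1 hm g' g (i _ (by simp))) (e1 ▸ h.bdB z1 (h.cmul hm h.sx) g' g (i _ (by simp)))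
    (e2 ▸ h.bdB z1 (h.cmul (h.cmul hm h.sx) h.sx) g' g (i _ (by simp)))

theorem gd_of {L : Subgroup G} (l : L ≤ centralizer {z}) (nx : x ∈ normalizer (L : Set G))
    (ny : y ∈ normalizer (L : Set G)) (f : L ⊓ centralizer {x} ≤ zpowers z) : Gd x z L := by
  have n3 : ¬ 3 ∣ Nat.card L := not3_of_cent h.cube nx fun d => by
    have := d.trans (card_dvd_of_le f)
    rw [Nat.card_zpowers, h.z2 z1] at this
    norm_num at this
  have key : ∀ m, m * x = x * m → IsPGroup 2 ↥(L ⊓ centralizer {m * y * m⁻¹}) := fun m hm => isP2 fun g hg => by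
    obtain ⟨-, e2, e3⟩ := h.fr z1 hm
    have c1 := mc.1 (e3.le (conj_mem_cj.2 hg.2))
    have c2 := h.wc c1 (by rw [← e2, ← cjm, ← cjm, mc.1 (l hg.1)])
    have := h.T2_of c1 (by rw [← h.φc, ← h.mul _ _ c1 h.cx, ← h.mul _ _ h.cx c1, c2]) (by
      rw [ocj]
      exact Nat.Coprime.coprime_dvd_left (orderOf_dvd_natCard (⟨g, hg.1⟩ : L) |> fun d => by rwa [← orderOf_coe] at d)
        ((Nat.Prime.coprime_iff_not_dvd Nat.prime_three).2 n3).symm)
    simpa [mul_assoc] using this.conj' (u * m⁻¹)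
  refine ⟨two4 h.x3 h.y3 h.xy h.hy n3 nx ny fun e he => ?_, l, nx, f⟩
  rcases he with rfl | rfl | rfl | rfl
  exacts [(isPGroup_zpowers (k := 1) (by rw [pow_one, pow_two, h.zz])).to_le f,
    by have := key 1 (by simp); rwa [one_mul, inv_one, mul_one] at this, h.sy ▸ key s h.sx, by
    have := key (s * s) (h.cmul h.sx h.sx)
    rwa [show s * s * y * (s * s)⁻¹ = s * (s * y * s⁻¹) * s⁻¹ by group, h.sy, h.sxy] at this]

omit z1 in
theorem kerL {L : Subgroup G} (n : ∀ g, g * x = x * g → g ∈ normalizer (L : Set G)) (hx : x ∉ L) :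
    L ⊓ centralizer {x} ≤ zpowers z := fun g hg => by
  have c1 := mc.1 hg.2
  have e : φ g = 1 := by
    by_contra e
    exact hx (h.le_of_norm (fun k hk _ => conj_mem_of_mem_normalizer (n k hk)) hg.1 c1 e (mc.2 rfl))
  obtain ⟨q1, q2⟩ := h.ker_dec ((h.ker g c1).1 e)
  have i := pow_mem (mem_inf.1 hg).1 4
  rcases zp3 h.cube q1 with j | j | j <;> rw [j] at i
  · rw [show g = g ^ 4 * (g ^ 3)⁻¹ by group, j, one_mul]; exact inv_mem q2
  exacts [absurd i hx, absurd (inv_mem_iff.1 i) hx]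

end St

theorem Sv.exists_Q0 {x z y c k s u j : G} {V : Subgroup G} {φ : G → Equiv.Perm GolayPt}
    (h : Sv x z φ y c k s u V j) : ∃ Q, Gd x z Q ∧ z ∈ Q ∧ Nat.card Q = 2 ^ 13 ∧ s ∈ normalizer (Q : Set G) := by
  obtain ⟨P, p1, p2, p3, p4, p5, p6, p7⟩ := h.exists_Sig
  have z1 := h.z1
  have e1 : P ⊓ centralizer {x} = h.F := le_antisymm p7 (le_inf p6 fun g hg => mc.2 (h.mem_F.1 hg).1)
  have w1 := wie p1 h.cube h.y3 h.xy (p3 h.xE) (p3 h.yE)
  have r1 : 128 ≤ Nat.card ↥(P ⊓ centralizer {y}) := by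
    rw [← h.card_S z1, ← card_cj u⁻¹]
    refine card_le_of_le (le_inf p5 (cj_le_iff'.2 fun g hg => mc.2 ?_))
    have := conj_comm.1 (show g * (u * y * u⁻¹) = u * y * u⁻¹ * g by
      rw [h.uy]; exact (show Commute g x from h.Sx hg).inv_right.eq)
    rwa [inv_inv]
  rw [← h.sxy, card_inf_conj p4, ← h.sy, card_inf_conj p4, e1, show h.F ⊓ centralizer {y} = h.D from le_antisymm
    (fun g hg => h.mem_D.2 ⟨(h.mem_F.1 hg.1).1, mc.1 hg.2, (h.mem_F.1 hg.1).2.2⟩)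
    fun g hg => ⟨h.D_le hg, mc.2 (h.mem_D.1 hg).2.1⟩, h.card_F, h.card_D, h.toSt.z2 z1] at w1
  have r2 : 2 ^ 17 ≤ Nat.card P := by
    have := Nat.mul_le_mul (Nat.mul_le_mul r1 r1) r1
    nlinarith
  have fs : h.F ⊓ centralizer {s} ≤ zpowers z := fun g hg => h.mz.2 (h.kerT (h.mem_F.1 hg.1).1
    (S_fpf (h.mem_lf.1 hg.1).2.1 (by
      rw [← h.φs, ← h.mul _ _ h.sx (h.mem_F.1 hg.1).1, ← h.mul _ _ (h.mem_F.1 hg.1).1 h.sx, mc.1 hg.2]))
    (h.mem_F.1 hg.1).2.2)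
  have zF := h.D_le h.zD
  have r3 := h.three32 z1 h.kx p1 (p3 h.xE) (h.se ▸ p4) (fun m hm i => by
    have := h.bdA z1 hm (X := P ⊓ centralizer {m * y * m⁻¹}) ⟨p1.to_inf_left, inf_le_left.trans p2,
      ninf (p3 h.xE) (nce (h.ccj hm h.cy).symm), fun g hg => fs ⟨p7 ⟨hg.1.1, hg.2⟩, mc.2 ?_⟩⟩
    · rwa [inf_assoc, inf_idem] at this
    rw [← h.se] at i
    have c1 : Commute g x := mc.1 hg.2
    have c2 : Commute g (m * y * m⁻¹) := mc.1 hg.1.2
    obtain ⟨b, hb, i2⟩ := memE h.cube h.s3 h.sx.symm i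
    have c3 : Commute g b ∧ b ∉ zpowers x := by
      rcases i2 with i2 | i2
      exacts [i2 ▸ ⟨c2, (h.lines hm).2.2⟩, ⟨by simpa [i2] using c2.inv_right, fun j => (h.lines hm).2.2 (i2 ▸ inv_mem j)⟩]
    rcases hb with rfl | rfl | rfl | rfl | rfl
    exacts [absurd (one_mem _) c3.2, absurd (mem_zpowers _) c3.2, c3.1, by simpa using (c1.inv_right.mul_right c3.1).eq,
      by simpa using (c1.inv_right.mul_right (c1.inv_right.mul_right c3.1)).eq]) (by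
    rw [e1, ← h.se, show h.F ⊓ centralizer {s} = zpowers z from le_antisymm fs
      (zpowers_le.2 ⟨zF, mc.2 (h.zc s h.sx).symm⟩), Nat.card_zpowers, h.card_F, h.toSt.z2 z1]
    omega)
  have nk : ∀ g ∈ EE x y, k * g * k⁻¹ ∈ normalizer (cj k P : Set G) := fun g hg => ncj (by simpa [mul_assoc] using p3 hg)
  have g : Gd x z (P ⊓ cj k P) := ⟨p1.to_inf_left, inf_le_left.trans p2, ninf (p3 h.xE) (cjc.2 h.kx ▸ nk x h.xE),
    fun g hg => by
      have c1 := mc.1 hg.2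
      have i1 := p7 ⟨hg.1.1, hg.2⟩
      have i2 := (h.mem_lf.1 (p7 ⟨mem_cj.1 hg.1.2, mc.2 (h.cmul (h.cmul (h.cinv h.kx) c1) h.kx)⟩)).2.1
      rw [h.mul _ _ (h.cmul (h.cinv h.kx) c1) h.kx, h.mul _ _ (h.cinv h.kx) c1, h.φ_inv h.kx, h.φk] at i2
      exact h.mz.2 (h.kerT c1 (K_ti (h.mem_lf.1 i1).2.1 i2) (h.mem_F.1 i1).2.2)⟩
  have hz : z ∈ P ⊓ cj k P := ⟨p6 zF, h.cjz h.kx ▸ conj_mem_cj.2 (p6 zF)⟩
  have ns : s ∈ normalizer ((P ⊓ cj k P : Subgroup G) : Set G) := ninf p4 (h.se ▸ nk y h.yE)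
  refine ⟨_, g, hz, ?_, ns⟩
  have r4 : ∀ m, m * x = x * m → m ∈ normalizer (P : Set G) → Nat.card ↥(P ⊓ centralizer {k * m * y * (k * m)⁻¹}) = 32 →
      Nat.card ↥(P ⊓ cj k P ⊓ centralizer {k * m * y * (k * m)⁻¹}) = 32 := fun m hm n e => by
    rw [inf_right_comm, inf_eq_left.2 ((h.bdC z1 (h.cmul h.kx hm) p1 p2 (p3 h.xE)).trans ?_), e]
    rw [cj_mul]
    exact cj_mono k ((cj_mono m p5).trans (cj_eq_of_mem_normalizer n).le)
  have w2 := wie g.two h.cube (cj_cube h.y3) (h.ccj h.kx h.cy).symm g.nx (h.se ▸ ns)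
  have a1 := r4 1 (by simp) (one_mem _) (r3 _ (by simp))
  have a2 := r4 s h.sx p4 (r3 _ (by simp))
  have a3 := r4 (s * s) (h.cmul h.sx h.sx) (mul_mem p4 p4) (r3 _ (by simp [mul_assoc]))
  rw [mul_one] at a1
  rw [← mul_assoc k s s] at a3
  rw [(h.lines h.kx).2.1, (h.lines h.kx).1, a1, a2, a3, (h.fixz z1 g hz (h.ccj h.kx h.cy)).1,
    (h.fixz z1 g hz (h.ccj h.kx h.cy)).2] at w2
  omega

/-- the configuration with the group of order `2¹³` -/
structure Sq (x z : G) (φ : G → Equiv.Perm GolayPt) (y c k s u : G) (Q : Subgroup G) : Prop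
    extends St x z φ y c k s u where
  z1 : z ≠ 1
  gd : Gd x z Q
  zQ : z ∈ Q
  card : Nat.card Q = 2 ^ 13
  NQ : toSt.toHw.N0 ≤ normalizer (Q : Set G)
  out : ∃ t, t * t = 1 ∧ t * y = y * t ∧ t * x * t⁻¹ = x⁻¹

theorem St.exists_Sq {x z y c k s u : G} {φ : G → Equiv.Perm GolayPt} (h : St x z φ y c k s u) :
    ∃ y s u Q, Sq x z φ y c k s u Q := by
  obtain ⟨y, s, u, V, j, h⟩ := h.exists_Sv
  obtain ⟨Q, g, hz, e, ns⟩ := h.exists_Q0
  have z1 := h.z1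
  have gn : ∀ n ∈ h.N0, Gd x z (cj n Q) := fun n hn => by
    have := g.cj n
    rw [cjc.2 (h.norm_z hn)] at this
    rcases hn with i | i <;> rw [i] at this
    exacts [this, by simpa using this.inv]
  have ny : y ∈ normalizer (Q : Set G) := mem_normalizer_of_cj_le (h.UQ z1 h.kx g hz e (h.se ▸ ns)
    (gn y (h.K_le (mc.2 h.cy))) (ncj (by
      rw [← h.se, show y⁻¹ * s * y = y⁻¹ * (s * y * s⁻¹) * s by group, h.sy, h.xy.eq, inv_mul_cancel_left]
      exact mul_mem g.nx ns)))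
  have nq : ∀ n ∈ h.N0, n⁻¹ * y * n ∈ normalizer (Q : Set G) → n ∈ normalizer (Q : Set G) := fun n hn i =>
    mem_normalizer_of_cj_le (h.UQ z1 (m := 1) (by simp) g hz e (by simpa using ny) (gn n hn) (by simpa using ncj i))
  have ker : ∀ a b, a * x = x * a → b * x = x * b → φ a = φ b → b ∈ normalizer (Q : Set G) →
      a ∈ normalizer (Q : Set G) := fun a b ha hb i n => by
    obtain ⟨t, ht, rfl⟩ := h.eq_mul ha hb i
    exact mul_mem n (zpowers_le.2 (mul_mem g.nx (le_normalizer hz)) ht)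
  have K : ∀ a, a * x = x * a → a ∈ normalizer (Q : Set G) := fun a ha => by
    obtain ⟨b, b1, b2, b3⟩ := h.mem_bar.1 (gen_M22 (L := h.bar (normalizer (Q : Set G)))
      (h.mem_bar.2 ⟨y, ny, h.cy, h.φy⟩) (fun m hm i => by
        obtain ⟨a, ha, rfl⟩ := h.surj m hm
        obtain ⟨b, b1, b2, b3⟩ := h.mem_bar.1 i
        exact h.mem_bar.2 ⟨a, nq a (h.K_le (mc.2 ha)) (ker _ b (h.cmul (h.cmul (h.cinv ha) h.cy) ha) b2 (by
          rw [h.mul _ _ (h.cmul (h.cinv ha) h.cy) ha, h.mul _ _ (h.cinv ha) h.cy, h.φ_inv ha, h.φy, b3]) b1), ha, rfl⟩)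
      (h.mem a ha))
    exact ker a b ha b2 b3.symm b1
  refine ⟨y, s, u, Q, h.toSt, z1, g, hz, e, fun n hn => nq n hn (K _ (h.conj_K hn h.cy)), u * j * u⁻¹,
    cj_sq (h.sq1 h.jx h.jT (h.φj ▸ rels.2.2.2.2.2.2.2.2.2.2.2.2.1)), by rw [← h.ux, ← cjm, ← cjm, h.jx], ?_⟩
  rw [← inv_inv x, ← h.uy, show u * j * u⁻¹ * (u * y * u⁻¹)⁻¹ * (u * j * u⁻¹)⁻¹ = u * (j * y * j⁻¹)⁻¹ * u⁻¹ by group,
    h.jy, inv_inv, inv_inv]

end H66.Sev
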