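import Mathlib
import Cfsg.Agent.Lib.J4L.ExAlt
import Cfsg.Agent.Lib.Schur.Basic
import Cfsg.Agent.Lib.Fusion.GenExtra
import Cfsg.Agent.Lib.Invol.BaerSuzuki

/-!
# An element of order three with centraliser `6·M22`: the `3`-local facts
-/

set_option autoImplicit false
set_option linter.unusedSectionVars false

namespace H66.Six
open Cfsg H15 Subgroup
open scoped commutatorElement

variable {G : Type*} [Group G]

/-- `C(x)` is a perfect central extension of `M22` by `⟨x z⟩ ≅ Z₆`, `φ` is the projection -/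
structure Hy (x z : G) (φ : G → Equiv.Perm GolayPt) : Prop where
  x3 : orderOf x = 3
  z2 : orderOf z = 2
  zx : z * x = x * z
  zc : ∀ k, k * x = x * k → k * z = z * k
  mul : ∀ a b, a * x = x * a → b * x = x * b → φ (a * b) = φ a * φ b
  mem : ∀ a, a * x = x * a → φ a ∈ Spor.M22
  surj : ∀ s ∈ Spor.M22, ∃ a, a * x = x * a ∧ φ a = s
  ker : ∀ a, a * x = x * a → (φ a = 1 ↔ a ∈ zpowers (x * z))
  perf : centralizer {x} ≤ ⁅centralizer ({x} : Set G), centralizer ({x} : Set G)⁆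

theorem mc {g y : G} : g ∈ centralizer ({y} : Set G) ↔ g * y = y * g := mem_centralizer_singleton_iff

theorem conj_comm {g a x : G} : a * (g * x * g⁻¹) = g * x * g⁻¹ * a ↔ g⁻¹ * a * g * x = x * (g⁻¹ * a * g) := by
  constructor
  · intro h
    calc g⁻¹ * a * g * x = g⁻¹ * (a * (g * x * g⁻¹)) * g := by group
      _ = x * (g⁻¹ * a * g) := by rw [h]; group
  · intro h
    calc a * (g * x * g⁻¹) = g * (g⁻¹ * a * g * x) * g⁻¹ := by group
      _ = g * x * g⁻¹ * a := by rw [h]; group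

theorem cent_conj (g x : G) :
    centralizer {g * x * g⁻¹} = (centralizer ({x} : Set G)).map (MulAut.conj g).toMonoidHom := by
  ext a
  rw [H95.mem_map_conj, mc, mc, conj_comm]

theorem center_M22 {s : Equiv.Perm GolayPt} (hs : s ∈ M24) (h : ∀ y ∈ Spor.M22, s * y = y * s) : s = 1 :=
  eq_one_of_comm_beta_delta hs (h _ H31.J4X.beta_facts.1)
    (h _ (good_M22 inM24_deltaC (by decide +kernel) (by decide +kernel)).2)

theorem zpowers_three {x c : G} (hx : orderOf x = 3) (hc : c ∈ zpowers x) : c = 1 ∨ c = x ∨ c = x⁻¹ := by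
  have h3 : x ^ 3 = 1 := by rw [← hx, pow_orderOf_eq_one]
  have hf : IsOfFinOrder x := orderOf_pos_iff.1 (by omega)
  obtain ⟨n, rfl⟩ := (hf.mem_powers_iff_mem_zpowers).2 hc
  show x ^ n = 1 ∨ x ^ n = x ∨ x ^ n = x⁻¹
  rw [pow_eq_pow_mod n h3]
  have : n % 3 < 3 := Nat.mod_lt _ (by norm_num)
  generalize n % 3 = r at this
  interval_cases r
  · simp
  · simp
  · exact Or.inr (Or.inr (eq_inv_of_mul_eq_one_left (by rw [← pow_succ, h3])))

namespace Hy
variable {x z : G} {φ : G → Equiv.Perm GolayPt} (h : Hy x z φ)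
include h

theorem cube : x ^ 3 = 1 := by rw [← h.x3, pow_orderOf_eq_one]
theorem zz : z * z = 1 := H95.mul_self_of_orderOf_eq_two h.z2
theorem z1 : z ≠ 1 := H95.ne_one_of_orderOf_eq_two h.z2
theorem x1 : x ≠ 1 := fun c => by have := h.x3; rw [c, orderOf_one] at this; omega
theorem xinv : x⁻¹ = x * x := inv_eq_of_mul_eq_one_right (by rw [← h.cube, pow_three])
theorem x_ne_inv : x ≠ x⁻¹ := fun c => h.x1 (by
  have := h.xinv
  rw [← c] at this
  exact (mul_eq_left.1 this.symm))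

theorem conj (g : G) : Hy (g * x * g⁻¹) (g * z * g⁻¹) fun a => φ (g⁻¹ * a * g) where
  x3 := by rw [← h.x3]; exact orderOf_injective (MulAut.conj g).toMonoidHom (MulAut.conj g).injective x
  z2 := by rw [← h.z2]; exact orderOf_injective (MulAut.conj g).toMonoidHom (MulAut.conj g).injective z
  zx := conj_comm.2 (by simpa [mul_assoc] using h.zx)
  zc k hk := conj_comm.2 (h.zc _ (conj_comm.1 hk))
  mul a b ha hb := by
    rw [← h.mul _ _ (conj_comm.1 ha) (conj_comm.1 hb)]; congr 1; group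
  mem a ha := h.mem _ (conj_comm.1 ha)
  surj s hs := by
    obtain ⟨a, ha, e⟩ := h.surj s hs
    exact ⟨g * a * g⁻¹, conj_comm.2 (by simpa [mul_assoc] using ha), by simpa [mul_assoc] using e⟩
  ker a ha := by
    rw [h.ker _ (conj_comm.1 ha), ← H95.mem_map_conj, MonoidHom.map_zpowers]
    simp
  perf := by
    rw [cent_conj, ← map_commutator]
    exact map_mono h.perf

/-- the projection as a homomorphism -/
def φh : centralizer ({x} : Set G) →* Equiv.Perm GolayPt :=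
  MonoidHom.mk' (fun a => φ a) fun a b => h.mul a b (mc.1 a.2) (mc.1 b.2)

theorem φh_apply (a : centralizer ({x} : Set G)) : h.φh a = φ a := rfl
theorem φ_one : φ 1 = 1 := h.φh.map_one
theorem φ_inv {a : G} (ha : a * x = x * a) : φ a⁻¹ = (φ a)⁻¹ := h.φh.map_inv ⟨a, mc.2 ha⟩
theorem φ_pow {a : G} (ha : a * x = x * a) (n : ℕ) : φ (a ^ n) = φ a ^ n := h.φh.map_pow ⟨a, mc.2 ha⟩ n
theorem φ_conj {a b : G} (ha : a * x = x * a) (hb : b * x = x * b) : φ (a * b * a⁻¹) = φ a * φ b * (φ a)⁻¹ := by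
  have : h.φh (⟨a, mc.2 ha⟩ * ⟨b, mc.2 hb⟩ * (⟨a, mc.2 ha⟩)⁻¹) = h.φh ⟨a, mc.2 ha⟩ * h.φh ⟨b, mc.2 hb⟩ *
    (h.φh ⟨a, mc.2 ha⟩)⁻¹ := by rw [map_mul, map_mul, map_inv]
  exact this

theorem order6 : orderOf (x * z) = 6 := by
  rw [(show Commute x z from h.zx.symm).orderOf_mul_eq_mul_orderOf_of_coprime (by rw [h.x3, h.z2]; norm_num),
    h.x3, h.z2]

theorem xz4 : (x * z) ^ 4 = x := by
  rw [(show Commute x z from h.zx.symm).mul_pow, show z ^ 4 = (z * z) ^ 2 by rw [← pow_two, ← pow_mul], h.zz, one_pow, mul_one,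
    pow_succ, h.cube, one_mul]

theorem xz3 : (x * z) ^ 3 = z := by
  rw [(show Commute x z from h.zx.symm).mul_pow, h.cube, one_mul, pow_three, h.zz, mul_one]

theorem φ_x : φ x = 1 := (h.ker x rfl).2 (by have := pow_mem (mem_zpowers (x * z)) 4; rwa [h.xz4] at this)
theorem φ_z : φ z = 1 := (h.ker z h.zx).2 (by have := pow_mem (mem_zpowers (x * z)) 3; rwa [h.xz3] at this)

theorem ker_dec {a : G} (ha : a ∈ zpowers (x * z)) : a ^ 4 ∈ zpowers x ∧ a ^ 3 ∈ zpowers z := by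
  obtain ⟨n, rfl⟩ := ha
  refine ⟨⟨n, ?_⟩, ⟨n, ?_⟩⟩
  · show x ^ n = ((x * z) ^ n) ^ 4
    rw [← zpow_natCast, ← zpow_mul, mul_comm, zpow_mul, zpow_natCast, h.xz4]
  · show z ^ n = ((x * z) ^ n) ^ 3
    rw [← zpow_natCast, ← zpow_mul, mul_comm, zpow_mul, zpow_natCast, h.xz3]

theorem ker_comm {a k : G} (ha : a ∈ zpowers (x * z)) (hk : k * x = x * k) : k * a = a * k := by
  obtain ⟨n, rfl⟩ := ha
  exact (((show Commute k x from hk).mul_right (h.zc k hk)).zpow_right n).eq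

theorem ker_three {a : G} (ha : a * x = x * a) (e : φ a = 1) (h3 : a ^ 3 = 1) : a ∈ zpowers x := by
  have := (h.ker_dec ((h.ker a ha).1 e)).1
  rwa [pow_succ, h3, one_mul] at this

theorem ker_two {a : G} (ha : a * x = x * a) (e : φ a = 1) {k : ℕ} (h2 : a ^ 2 ^ k = 1) : a = 1 ∨ a = z := by
  have h6 : a ^ 6 = 1 := by
    have := orderOf_dvd_of_mem_zpowers ((h.ker a ha).1 e)
    rw [h.order6] at this
    exact orderOf_dvd_iff_pow_eq_one.1 this
  have h2' : a ^ 2 = 1 := by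
    have h3 : (a ^ 2) ^ 3 = 1 := by rw [← pow_mul, h6]
    have h4 : (a ^ 2) ^ 2 ^ k = 1 := by rw [← pow_mul, mul_comm, pow_mul, h2, one_pow]
    exact (pow_eq_one_iff_of_coprime (Nat.Coprime.pow_right k (by norm_num))).1 ⟨h3, h4⟩
  have := (h.ker_dec ((h.ker a ha).1 e)).2
  rw [pow_succ, h2', one_mul] at this
  exact (H95.mem_zpowers_iff_of_sq h.zz).1 this

theorem range_φh : h.φh.range = Spor.M22 := by
  ext s
  constructor
  · rintro ⟨a, rfl⟩; exact h.mem a (mc.1 a.2)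
  · intro hs
    obtain ⟨a, ha, e⟩ := h.surj s hs
    exact ⟨⟨a, mc.2 ha⟩, e⟩

theorem ker_le : zpowers (x * z) ≤ centralizer {x} := fun _ ha => mc.2 (h.ker_comm ha rfl).symm

theorem ker_φh : h.φh.ker = (zpowers (x * z)).subgroupOf (centralizer {x}) := by
  ext a
  exact h.ker a (mc.1 a.2)

theorem card_K : Nat.card (centralizer ({x} : Set G)) = 2661120 := by
  have := h.φh.ker.card_mul_index
  rw [index_ker, h.range_φh, card_M22, h.ker_φh, Nat.card_congr (subgroupOfEquivOfLe h.ker_le).toEquiv,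
    Nat.card_zpowers, h.order6] at this
  exact this.symm

/-- a subgroup normalised by `K = C(x)` and containing a non-central element of `K` contains `K` -/
theorem le_of_norm {N : Subgroup G} (hN : ∀ k, k * x = x * k → ∀ n ∈ N, k * n * k⁻¹ ∈ N) {n : G} (hn : n ∈ N)
    (c : n * x = x * n) (h1 : φ n ≠ 1) : centralizer {x} ≤ N := by
  have := isSimple_M22
  have hN' : (((N.subgroupOf _).map h.φh).subgroupOf Spor.M22).Normal := ⟨by
    rintro ⟨_, hx⟩ ⟨a, ha, rfl⟩ ⟨y, hy⟩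
    obtain ⟨k, hk, rfl⟩ := h.surj y hy
    exact ⟨⟨k, mc.2 hk⟩ * a * (⟨k, mc.2 hk⟩)⁻¹, hN k hk a ha, h.φ_conj hk (mc.1 a.2)⟩⟩
  have dec : ∀ a, a * x = x * a → ∃ n ∈ N, n * x = x * n ∧ ∃ c ∈ zpowers (x * z), a = n * c := by
    rcases hN'.eq_bot_or_eq_top with c' | c'
    · exact absurd (congrArg Subtype.val (mem_bot.1 (c'.le (show (⟨_, h.mem n c⟩ : Spor.M22) ∈ _ from
        ⟨⟨n, mc.2 c⟩, hn, rfl⟩)))) h1
    · intro a ha
      obtain ⟨b, hb, e⟩ := subgroupOf_eq_top.1 c' (h.mem a ha)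
      have hb' := mc.1 b.2
      have hc : (b : G)⁻¹ * a ∈ centralizer {x} := mul_mem (inv_mem b.2) (mc.2 ha)
      refine ⟨b, hb, hb', (b : G)⁻¹ * a, (h.ker _ (mc.1 hc)).1 ?_, by group⟩
      rw [h.mul _ _ (mc.1 (inv_mem b.2)) ha, h.φ_inv hb', ← e, φh_apply, inv_mul_cancel]
  refine h.perf.trans (commutator_le.2 fun a ha b hb => ?_)
  obtain ⟨n1, i1, j1, c1, k1, rfl⟩ := dec a (mc.1 ha)
  obtain ⟨n2, i2, j2, c2, k2, rfl⟩ := dec b (mc.1 hb)
  have e1 : Commute n2 c1 := h.ker_comm k1 j2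
  have e2 : Commute n1 c2 := h.ker_comm k2 j1
  have e3 : Commute n2 c2 := h.ker_comm k2 j2
  have e4 : Commute c1 c2 := h.ker_comm k2 (mc.1 (h.ker_le k1))
  have : ⁅n1 * c1, n2 * c2⁆ = n1 * n2 * n1⁻¹ * n2⁻¹ := by
    rw [commutatorElement_def]
    calc n1 * c1 * (n2 * c2) * (n1 * c1)⁻¹ * (n2 * c2)⁻¹
        = n1 * (c1 * (n2 * c2)) * c1⁻¹ * n1⁻¹ * c2⁻¹ * n2⁻¹ := by group
      _ = n1 * n2 * (c2 * n1⁻¹) * c2⁻¹ * n2⁻¹ := by rw [(e1.symm.mul_right e4).eq]; group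
      _ = _ := by rw [e2.symm.inv_right.eq]; group
  rw [this]
  exact mul_mem (mul_mem (mul_mem i1 i2) (inv_mem i1)) (inv_mem i2)

theorem conj_K {n k : G} (hn : n * x * n⁻¹ = x ∨ n * x * n⁻¹ = x⁻¹) (hk : k * x = x * k) :
    n⁻¹ * k * n * x = x * (n⁻¹ * k * n) := by
  rw [← conj_comm]
  rcases hn with e | e <;> rw [e]
  exacts [hk, (show Commute k x from hk).inv_right.eq]

theorem inv_N {n : G} (hn : n * x * n⁻¹ = x ∨ n * x * n⁻¹ = x⁻¹) :
    n⁻¹ * x * n⁻¹⁻¹ = x ∨ n⁻¹ * x * n⁻¹⁻¹ = x⁻¹ := by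
  have := h.x1
  rcases hn with e | e
  · left
    calc n⁻¹ * x * n⁻¹⁻¹ = n⁻¹ * (n * x * n⁻¹) * n⁻¹⁻¹ := by rw [e]
      _ = x := by group
  · right
    calc n⁻¹ * x * n⁻¹⁻¹ = (n⁻¹ * x⁻¹ * n⁻¹⁻¹)⁻¹ := by group
      _ = (n⁻¹ * (n * x * n⁻¹) * n⁻¹⁻¹)⁻¹ := by rw [e]
      _ = x⁻¹ := by group

theorem conj_K' {n k : G} (hn : n * x * n⁻¹ = x ∨ n * x * n⁻¹ = x⁻¹) (hk : k * x = x * k) :
    n * k * n⁻¹ * x = x * (n * k * n⁻¹) := by
  simpa using h.conj_K (h.inv_N hn) hk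

theorem central {a : G} (ha : ∀ k, k * x = x * k → k * a = a * k) : φ a = 1 := by
  have hx := (ha x rfl).symm
  refine center_M22 (h.mem a hx).1.1 fun y hy => ?_
  obtain ⟨k, hk, rfl⟩ := h.surj y hy
  rw [← h.mul _ _ hx hk, ← h.mul _ _ hk hx, ha k hk]

/-- `N(⟨x⟩)` centralises `z` -/
theorem norm_z {n : G} (hn : n * x * n⁻¹ = x ∨ n * x * n⁻¹ = x⁻¹) : n * z = z * n := by
  have hc : ∀ k, k * x = x * k → k * (n * z * n⁻¹) = n * z * n⁻¹ * k := fun k hk =>
    conj_comm.2 (h.zc _ (h.conj_K hn hk))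
  rcases h.ker_two (hc x rfl).symm (h.central hc) (k := 1) (by rw [pow_one, conj_pow, pow_two, h.zz]; simp) with e | e
  · exact absurd (by simpa [mul_inv_eq_one] using e) h.z1
  · exact mul_inv_eq_iff_eq_mul.1 e

variable [Finite G]

theorem card_three {P : Subgroup G} (hP : IsPGroup 3 P) (hK : P ≤ centralizer {x}) : Nat.card P ∣ 27 := by
  have := Fact.mk Nat.prime_three
  obtain ⟨n, hn⟩ := hP.exists_card_eq
  have := card_dvd_of_le hK
  rw [h.card_K, hn, show 2661120 = 3 ^ 3 * 98560 by norm_num] at this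
  rw [hn]
  exact (Nat.Coprime.pow_left n (by norm_num)).dvd_of_dvd_mul_right this

theorem exists_P {y : G} (c : y * x = x * y) (h3 : y ^ 3 = 1) :
    ∃ P : Subgroup G, P ≤ centralizer {x} ∧ Nat.card P = 27 ∧ x ∈ P ∧ y ∈ P := by
  have := Fact.mk Nat.prime_three
  let x' : centralizer ({x} : Set G) := ⟨x, mc.2 rfl⟩
  let y' : centralizer ({x} : Set G) := ⟨y, mc.2 c⟩
  have pg : ∀ a : centralizer ({x} : Set G), a ^ 3 = 1 → IsPGroup 3 (zpowers a) := fun a ha =>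
    IsPGroup.of_card_dvd_pow (n := 1) (by rw [Nat.card_zpowers]; exact orderOf_dvd_of_pow_eq_one ha)
  have hn : (zpowers x').Normal := ⟨fun a ha g => by
    obtain ⟨n, rfl⟩ := ha
    rw [((show Commute g x' from Subtype.ext (mc.1 g.2)).zpow_right n).eq, mul_inv_cancel_right]
    exact ⟨n, rfl⟩⟩
  obtain ⟨R, hR⟩ := ((pg x' (Subtype.ext h.cube)).to_sup_of_normal_left (pg y' (Subtype.ext h3))).exists_le_sylow
  refine ⟨(R : Subgroup _).map (centralizer {x}).subtype, map_subtype_le _, ?_,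
    ⟨x', hR (mem_sup_left (mem_zpowers _)), rfl⟩, ⟨y', hR (mem_sup_right (mem_zpowers _)), rfl⟩⟩
  rw [card_map_of_injective (subtype_injective _), R.card_eq_multiplicity, h.card_K,
    show 2661120 = 3 ^ 3 * 98560 by norm_num, Nat.factorization_mul_apply_of_coprime (by norm_num),
    Nat.factorization_pow_self Nat.prime_three, Nat.factorization_eq_zero_of_not_dvd (by norm_num)]
  rfl

theorem P_facts {P : Subgroup G} (hK : P ≤ centralizer {x}) (c : Nat.card P = 27) (hx : x ∈ P) :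
    (∀ a ∈ P, (∀ b ∈ P, b * a = a * b) → a ∈ zpowers x) ∧ ∀ a ∈ P, ∀ b ∈ P, a * b * a⁻¹ * b⁻¹ ∈ zpowers x := by
  have := Fact.mk Nat.prime_three
  have na : commutator P ≠ ⊥ := fun e => by
    let x' : centralizer ({x} : Set G) := ⟨x, mc.2 rfl⟩
    have i1 : x' ∈ center (centralizer ({x} : Set G)) := mem_center_iff.2 fun g => Subtype.ext (mc.1 g.2)
    have i2 : x' ∈ commutator (centralizer ({x} : Set G)) := by
      have := h.perf x'.2
      rw [← map_subtype_commutator] at this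
      obtain ⟨a, ha, e⟩ := this
      exact (show a = x' from Subtype.ext e) ▸ ha
    have i3 := mem_map_of_mem (centralizer ({x} : Set G)).subtype
      (H60.pow_index_mem_commutator (P.subgroupOf (centralizer {x})) i1 i2)
    rw [map_commutator, subgroupOf_map_subtype, inf_eq_left.2 hK, ← map_subtype_commutator, e, Subgroup.map_bot,
      mem_bot, map_pow] at i3
    have i4 := (P.subgroupOf (centralizer {x})).card_mul_index
    rw [Nat.card_congr (subgroupOfEquivOfLe hK).toEquiv, c, h.card_K] at i4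
    have i5 := orderOf_dvd_of_pow_eq_one i3
    rw [show (P.subgroupOf (centralizer {x})).index = 98560 by omega] at i5
    exact absurd (h.x3 ▸ i5 : 3 ∣ 98560) (by norm_num)
  obtain ⟨⟨-, -, e1⟩, e2⟩ := H93.isExtraspecial_of_card_cube (p := 3) (G := P) c na
  have e3 : zpowers (⟨x, hx⟩ : P) = center P := eq_of_le_of_card_ge
    (zpowers_le.2 (mem_center_iff.2 fun g => Subtype.ext (mc.1 (hK g.2))))
    (by rw [e2, Nat.card_zpowers, ← orderOf_coe, h.x3])
  have e4 : ∀ a : P, a ∈ center P → (a : G) ∈ zpowers x := fun a ha => by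
    rw [← e3] at ha
    obtain ⟨n, rfl⟩ := ha
    exact ⟨n, by simp⟩
  exact ⟨fun a ha hc => e4 ⟨a, ha⟩ (mem_center_iff.2 fun g => Subtype.ext (hc g g.2)),
    fun a ha b hb => e4 ⁅(⟨a, ha⟩ : P), (⟨b, hb⟩ : P)⁆ (e1.le (commutator_mem_commutator (mem_top _) (mem_top _)))⟩

theorem shear {y : G} (c : y * x = x * y) (h3 : y ^ 3 = 1) (hy : y ∉ zpowers x) :
    ∃ s, s * x = x * s ∧ s * y * s⁻¹ = x * y := by
  obtain ⟨P, hK, cP, hx, hyP⟩ := h.exists_P c h3
  obtain ⟨f1, f2⟩ := h.P_facts hK cP hx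
  obtain ⟨a, ha, e⟩ : ∃ a ∈ P, a * y ≠ y * a := by
    by_contra hn
    push Not at hn
    exact hy (f1 y hyP hn)
  have ca := mc.1 (hK ha)
  rcases zpowers_three h.x3 (f2 a ha y hyP) with e1 | e1 | e1
  · exact absurd (by rw [mul_inv_eq_one, mul_inv_eq_iff_eq_mul] at e1; exact e1) e
  · exact ⟨a, ca, mul_inv_eq_iff_eq_mul.1 e1⟩
  · have e2 : a * y * a⁻¹ = x⁻¹ * y := mul_inv_eq_iff_eq_mul.1 e1
    refine ⟨a⁻¹, (show Commute a x from ca).inv_left.eq, ?_⟩
    calc a⁻¹ * y * a⁻¹⁻¹ = a⁻¹ * x * (x⁻¹ * y) * a := by group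
      _ = x * y := by rw [← e2, (show Commute a x from ca).inv_left.eq]; group

theorem eq_of_le {P T : Subgroup G} (hK : P ≤ centralizer {x}) (c : Nat.card P = 27) (hx : x ∈ P)
    (hT : IsPGroup 3 T) (hle : P ≤ T) : T = P := by
  have := Fact.mk Nat.prime_three
  by_contra hne
  obtain ⟨n, hn, hn1, hn2⟩ := H9.exists_mem_normalizer_of_lt hT (lt_of_le_of_ne hle (Ne.symm hne))
  have e : T ⊓ centralizer {x} = P := (eq_of_le_of_card_ge (le_inf hle hK)
    (c ▸ Nat.le_of_dvd (by norm_num) (h.card_three (hT.to_inf_left) inf_le_right))).symm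
  refine hn1 (e ▸ ⟨hn, mc.2 ?_⟩)
  have i1 := (h.P_facts hK c hx).1 _ (H95.conj_mem_of_normalizer hn2 hx) fun b hb =>
    conj_comm.2 (mc.1 (hK (H95.conj_mem_of_normalizer' hn2 hb)))
  rcases zpowers_three h.x3 i1 with e1 | e1 | e1
  · exact absurd (by simpa [mul_inv_eq_one] using e1) h.x1
  · exact mul_inv_eq_iff_eq_mul.1 e1
  · have c2 : Commute (n ^ 2) x := by
      refine mul_inv_eq_iff_eq_mul.1 ?_
      calc n ^ 2 * x * (n ^ 2)⁻¹ = n * (n * x * n⁻¹) * n⁻¹ := by rw [pow_two]; group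
        _ = n * x⁻¹ * n⁻¹ := by rw [e1]
        _ = (n * x * n⁻¹)⁻¹ := by group
        _ = x := by rw [e1, inv_inv]
    obtain ⟨k, hk⟩ := hT ⟨n, hn⟩
    have hk' : n ^ 3 ^ k = 1 := congrArg Subtype.val hk
    obtain ⟨m, hm⟩ : Odd (3 ^ k) := Odd.pow (by norm_num)
    have : n = (n ^ 2) ^ (m + 1) := by
      rw [← pow_mul, show 2 * (m + 1) = 3 ^ k + 1 by omega, pow_succ, hk', one_mul]
    rw [this]
    exact (c2.pow_left _).eq

theorem exists_in (S : Sylow 3 G) : ∃ x z φ, Hy x z φ ∧ x ∈ (S : Subgroup G) ∧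
    (S : Subgroup G) ≤ centralizer {x} ∧ Nat.card (S : Subgroup G) = 27 := by
  have := Fact.mk Nat.prime_three
  obtain ⟨P, hK, cP, hx, -⟩ := h.exists_P rfl h.cube
  obtain ⟨T, hT⟩ := (IsPGroup.of_card (p := 3) (n := 3) cP).exists_le_sylow
  have e := h.eq_of_le hK cP hx T.isPGroup' hT
  obtain ⟨g, rfl⟩ := MulAction.exists_smul_eq G T S
  have e' : ((g • T : Sylow 3 G) : Subgroup G) = P.map (MulAut.conj g).toMonoidHom := by rw [← e]; rfl
  refine ⟨_, _, _, h.conj g, ?_, ?_, ?_⟩ <;> rw [e']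
  · exact ⟨x, hx, rfl⟩
  · rw [cent_conj]; exact map_mono hK
  · rw [card_map_of_injective (MulAut.conj g).injective, cP]

theorem not_81 : ¬ 81 ∣ Nat.card G := fun c => by
  have := Fact.mk Nat.prime_three
  obtain ⟨S⟩ : Nonempty (Sylow 3 G) := inferInstance
  obtain ⟨-, -, -, -, -, -, e⟩ := h.exists_in S
  have := (S.pow_dvd_card_of_pow_dvd_card (n := 4) c)
  rw [e] at this
  norm_num at this

/-- a conjugate `y` of `x` in `C(x) ∖ ⟨x⟩` forces `x` to be real -/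
theorem exists_inv {y w : G} {ψ : G → Equiv.Perm GolayPt} (h' : Hy y w ψ) (c : y * x = x * y) (hy : y ∉ zpowers x) :
    ∃ t, t * x * t⁻¹ = x⁻¹ := by
  have hx : x ∉ zpowers y := fun e => by
    rcases zpowers_three h'.x3 e with e | e | e
    · exact h.x1 e
    · exact hy (e ▸ mem_zpowers _)
    · exact hy (by rw [e]; simp)
  obtain ⟨s, s1, s2⟩ := h.shear c h'.cube hy
  obtain ⟨r, r1, r2⟩ := h'.shear c.symm h.cube hx
  have s0 : s * x * s⁻¹ = x := by rw [s1]; group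
  have r0 : r⁻¹ * y * r = y := by rw [mul_assoc, ← r1]; group
  have r3 : r⁻¹ * x * r = y⁻¹ * x := by
    calc r⁻¹ * x * r = (r⁻¹ * y * r)⁻¹ * (r⁻¹ * (y * x) * r) := by group
      _ = y⁻¹ * x := by rw [r0, ← r2]; group
  have e1 : s * r⁻¹ * s * x * (s * r⁻¹ * s)⁻¹ = y⁻¹ := by
    calc s * r⁻¹ * s * x * (s * r⁻¹ * s)⁻¹ = s * (r⁻¹ * (s * x * s⁻¹) * r) * s⁻¹ := by group
      _ = s * (y⁻¹ * x) * s⁻¹ := by rw [s0, r3]
      _ = (s * y * s⁻¹)⁻¹ * (s * x * s⁻¹) := by group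
      _ = y⁻¹ := by rw [s0, s2]; group
  have e2 : s * r⁻¹ * s * y * (s * r⁻¹ * s)⁻¹ = x := by
    calc s * r⁻¹ * s * y * (s * r⁻¹ * s)⁻¹ = s * (r⁻¹ * (s * y * s⁻¹) * r) * s⁻¹ := by group
      _ = s * ((r⁻¹ * y * r) * (r⁻¹ * x * r)) * s⁻¹ := by rw [s2, ← c]; group
      _ = x := by rw [r0, r3, mul_inv_cancel_left, s0]
  generalize s * r⁻¹ * s = w at e1 e2
  refine ⟨w * w, ?_⟩
  calc w * w * x * (w * w)⁻¹ = w * (w * x * w⁻¹) * w⁻¹ := by group
    _ = w * y⁻¹ * w⁻¹ := by rw [e1]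
    _ = (w * y * w⁻¹)⁻¹ := by group
    _ = x⁻¹ := by rw [e2]

end Hy

theorem exists_Hy [Finite G] {x : G} (hx : orderOf x = 3)
    (hperf : ⁅(⊤ : Subgroup (centralizer ({x} : Set G))), (⊤ : Subgroup (centralizer ({x} : Set G)))⁆ = ⊤)
    (hZc : Nat.card (center (centralizer ({x} : Set G))) = 6)
    (e : centralizer ({x} : Set G) ⧸ center (centralizer ({x} : Set G)) ≃* Spor.M22) : ∃ z φ, Hy x z φ := by
  classical
  have := Fact.mk Nat.prime_two
  obtain ⟨z, hz⟩ := exists_prime_orderOf_dvd_card' (G := center (centralizer ({x} : Set G))) 2 (by rw [hZc]; norm_num)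
  have z2 : orderOf ((z : centralizer ({x} : Set G)) : G) = 2 := by rw [orderOf_coe, orderOf_coe, hz]
  let x' : center (centralizer ({x} : Set G)) := ⟨⟨x, mc.2 rfl⟩, mem_center_iff.2 fun g => Subtype.ext (mc.1 g.2)⟩
  have zx := mc.1 z.1.2
  have e6 : zpowers (x' * z) = ⊤ := by
    refine eq_top_of_card_eq _ ?_
    rw [hZc, Nat.card_zpowers, ← orderOf_coe, ← orderOf_coe]
    exact ((show Commute x _ from zx.symm).orderOf_mul_eq_mul_orderOf_of_coprime
      (by rw [hx, z2]; norm_num)).trans (by rw [hx, z2])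
  let f : centralizer ({x} : Set G) →* Equiv.Perm GolayPt :=
    Spor.M22.subtype.comp (e.toMonoidHom.comp (QuotientGroup.mk' _))
  have fk : ∀ m, f m = 1 ↔ m ∈ center _ := fun m =>
    ((OneMemClass.coe_eq_one (x := e m)).trans (MulEquiv.map_eq_one_iff _)).trans (QuotientGroup.eq_one_iff _)
  let φ : G → Equiv.Perm GolayPt := fun a => if ha : a ∈ centralizer {x} then f ⟨a, ha⟩ else 1
  have hφ : ∀ a (ha : a * x = x * a), φ a = f ⟨a, mc.2 ha⟩ := fun a ha => dif_pos (mc.2 ha)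
  refine ⟨z, φ, hx, z2, zx, fun k hk => congrArg Subtype.val (mem_center_iff.1 z.2 ⟨k, mc.2 hk⟩),
    fun a b ha hb => ?_, fun a ha => ?_, fun s hs => ?_, fun a ha => ?_, ?_⟩
  · rw [hφ a ha, hφ b hb, hφ _ (mc.1 (mul_mem (mc.2 ha) (mc.2 hb))), ← map_mul]; rfl
  · rw [hφ a ha]; exact (e _).2
  · obtain ⟨a, ha⟩ := e.surjective ⟨s, hs⟩
    obtain ⟨m, rfl⟩ := QuotientGroup.mk_surjective a
    exact ⟨m, mc.1 m.2, (hφ m (mc.1 m.2)).trans (congrArg Subtype.val ha)⟩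
  · rw [hφ a ha, fk]
    constructor
    · intro c
      obtain ⟨n, hn⟩ := e6.ge (mem_top ⟨_, c⟩)
      exact ⟨n, by simpa using congrArg (fun t : center (centralizer ({x} : Set G)) => ((t : centralizer ({x} : Set G)) : G)) hn⟩
    · rintro ⟨n, hn⟩
      have : (⟨a, mc.2 ha⟩ : centralizer ({x} : Set G)) = ((x' * z) ^ n : center _) := Subtype.ext (by simpa using hn.symm)
      rw [this]
      exact SetLike.coe_mem _
  · rw [← map_subtype_commutator, _root_.commutator, hperf, ← MonoidHom.range_eq_map, range_subtype]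

end H66.Six
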