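import Cfsg.Agent.Lib.J4.Six1
import Cfsg.Agent.Lib.J4.PGen
import Cfsg.Agent.Lib.Wielandt.FixPoint
import Cfsg.Agent.Lib.Transfer.Control

/-!
# An element of order three with centraliser `6·M22`: `O₂(C(z))` is extraspecial of order `2¹³`
-/

set_option autoImplicit false
set_option linter.unusedSectionVars false

namespace H66.Six
open Cfsg H15 H95 Subgroup

variable {G : Type*} [Group G]

/-- powers of an element of order dividing three -/
def hom3 {x : G} (hx : x ^ 3 = 1) : Multiplicative (ZMod 3) →* G :=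
  MonoidHom.mk' (fun a => x ^ a.toAdd.val) fun a b => by
    rw [toAdd_mul, ZMod.val_add, ← pow_eq_pow_mod _ hx, pow_add]

/-- the lines of `Z₃ × Z₃` -/
def line (c d : ZMod 3) : Subgroup (Multiplicative (ZMod 3) × Multiplicative (ZMod 3)) where
  carrier := {e | c * e.1.toAdd + d * e.2.toAdd = 0}
  one_mem' := by simp
  mul_mem' {a b} ha hb := by
    simp only [Set.mem_ofPred_eq, Prod.fst_mul, Prod.snd_mul, toAdd_mul] at ha hb ⊢
    linear_combination ha + hb
  inv_mem' {a} ha := by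
    simp only [Set.mem_ofPred_eq, Prod.fst_inv, Prod.snd_inv, toAdd_inv] at ha ⊢
    linear_combination -ha

instance decLine (c d : ZMod 3) : DecidablePred (· ∈ line c d) := fun e =>
  inferInstanceAs (Decidable (c * e.1.toAdd + d * e.2.toAdd = 0))

/-- Wielandt's fixed point formula for `Z₃ × Z₃` -/
theorem wie [Finite G] {Q : Subgroup G} (hQ : IsPGroup 2 Q) {x y : G} (x3 : x ^ 3 = 1) (y3 : y ^ 3 = 1)
    (c : Commute x y) (nx : x ∈ normalizer (Q : Set G)) (ny : y ∈ normalizer (Q : Set G)) :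
    Nat.card ↥(Q ⊓ centralizer {x}) * Nat.card ↥(Q ⊓ centralizer {y}) * Nat.card ↥(Q ⊓ centralizer {x * y}) *
      Nat.card ↥(Q ⊓ centralizer {x * (x * y)}) =
      Nat.card ↥(Q ⊓ centralizer {x} ⊓ centralizer {y}) ^ 3 * Nat.card Q := by
  classical
  have := Fact.mk Nat.prime_two
  let x' : normalizer (Q : Set G) := ⟨x, nx⟩
  let y' : normalizer (Q : Set G) := ⟨y, ny⟩
  have x3' : x' ^ 3 = 1 := Subtype.ext x3
  have y3' : y' ^ 3 = 1 := Subtype.ext y3
  have c' : Commute x' y' := Subtype.ext c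
  let ι := (hom3 x3').noncommCoprod (hom3 y3') fun a b => c'.pow_pow _ _
  have ιa : ∀ e, (ι e : G) = x ^ e.1.toAdd.val * y ^ e.2.toAdd.val := fun e => rfl
  let θ := Q.normalizerMonoidHom.comp ι
  have θa : ∀ e (q : Q), θ e q = q ↔ (q : G) ∈ centralizer {(ι e : G)} := fun e q => by
    rw [Subtype.ext_iff, mc, eq_comm]
    exact eq_mul_inv_iff_mul_eq
  have := hQ.isNilpotent
  obtain ⟨n, hn⟩ := hQ.exists_card_eq
  have key := H53.Wielandt.card_formula (ι := Fin 4) (κ := Fin 4) ![line 0 1, line 1 0, line 1 2, line 1 1]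
    ![⊤, ⊥, ⊥, ⊥] (fun g => by
      have e1 : ∀ i : Fin 4, g ∈ ![line 0 1, line 1 0, line 1 2, line 1 1] i ↔
          (![0, 1, 1, 1] i * g.1.toAdd + ![1, 0, 2, 1] i * g.2.toAdd = 0) := fun i => by
        fin_cases i <;> exact Iff.rfl
      have e2 : ∀ i : Fin 4, g ∈ ![⊤, ⊥, ⊥, (⊥ : Subgroup _)] i ↔ (i = 0 ∨ g = 1) := fun i => by
        fin_cases i <;> simp
      rw [Nat.card_congr (Equiv.subtypeEquivRight e1), Nat.card_congr (Equiv.subtypeEquivRight e2),
        Nat.card_eq_fintype_card, Nat.card_eq_fintype_card, Fintype.card_subtype, Fintype.card_subtype]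
      clear e1 e2
      revert g
      decide) (H := Q) inferInstance (by
      rw [hn, Nat.card_prod]
      exact Nat.Coprime.pow_right _ (by simp; decide)) θ
  have fx : ∀ (c d : ZMod 3) (e : Multiplicative (ZMod 3) × Multiplicative (ZMod 3)) (a : G), (ι e : G) = a →
      e ∈ line c d → (∀ g ∈ line c d, g = 1 ∨ g = e ∨ g = e * e) → Nat.card (line c d) = 3 →
      Nat.card {q : Q // ∀ a ∈ line c d, θ a q = q} ^ Nat.card (line c d) =
        Nat.card ↥(Q ⊓ centralizer {a}) ^ 3 := fun c d e a ha h1 h2 h3 => by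
    rw [h3, ← ha]
    congr 1
    refine Nat.card_congr ⟨fun q => ⟨q.1, q.1.2, (θa e q.1).1 (q.2 e h1)⟩, fun q => ⟨⟨q.1, q.2.1⟩, fun g hg => ?_⟩,
      fun _ => rfl, fun _ => rfl⟩
    have := (θa e ⟨q.1, q.2.1⟩).2 q.2.2
    rcases h2 g hg with rfl | rfl | rfl
    · rw [map_one]; rfl
    · exact this
    · rw [map_mul, MulAut.mul_apply, this, this]
  have c3 : ∀ c d : ZMod 3, (c, d) ≠ 0 → Nat.card (line c d) = 3 := fun c d => by
    rw [Nat.card_eq_fintype_card, Fintype.card_subtype]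
    revert c d
    decide
  have f0 : Nat.card {q : Q // ∀ a ∈ (⊥ : Subgroup _), θ a q = q} = Nat.card Q :=
    Nat.card_congr (Equiv.subtypeUnivEquiv fun q a ha => by rw [mem_bot.1 ha, map_one]; rfl)
  have f1 : Nat.card {q : Q // ∀ a ∈ (⊤ : Subgroup _), θ a q = q} =
      Nat.card ↥(Q ⊓ centralizer {x} ⊓ centralizer {y}) := by
    refine Nat.card_congr ⟨fun q => ⟨q.1, ⟨q.1.2, ?_⟩, ?_⟩, fun q => ⟨⟨q.1, q.2.1.1⟩, fun g _ => (θa _ _).2 ?_⟩,
      fun _ => rfl, fun _ => rfl⟩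
    · have := (θa (Multiplicative.ofAdd 1, 1) q.1).1 (q.2 _ (mem_top _))
      rwa [ιa, show (Multiplicative.ofAdd (1 : ZMod 3)).toAdd.val = 1 from rfl,
        show (1 : Multiplicative (ZMod 3)).toAdd.val = 0 from rfl, pow_one, pow_zero, mul_one] at this
    · have := (θa (1, Multiplicative.ofAdd 1) q.1).1 (q.2 _ (mem_top _))
      rwa [ιa, show (Multiplicative.ofAdd (1 : ZMod 3)).toAdd.val = 1 from rfl,
        show (1 : Multiplicative (ZMod 3)).toAdd.val = 0 from rfl, pow_one, pow_zero, one_mul] at this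
    · rw [ιa]
      exact mc.2 (((show Commute (q.1 : G) x from mc.1 q.2.1.2).pow_right _).mul_right
        ((show Commute (q.1 : G) y from mc.1 q.2.2).pow_right _)).eq
  simp only [Fin.prod_univ_four, Matrix.cons_val_zero, Matrix.cons_val_one, Matrix.cons_val] at key
  rw [fx 0 1 (Multiplicative.ofAdd 1, 1) x (by rw [ιa]; show x ^ 1 * y ^ 0 = x; simp) (by decide) (by decide)
      (c3 _ _ (by decide)),
    fx 1 0 (1, Multiplicative.ofAdd 1) y (by rw [ιa]; show x ^ 0 * y ^ 1 = y; simp) (by decide) (by decide)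
      (c3 _ _ (by decide)),
    fx 1 2 (Multiplicative.ofAdd 1, Multiplicative.ofAdd 1) (x * y)
      (by rw [ιa]; exact congrArg₂ _ (pow_one _) (pow_one _)) (by decide) (by decide) (c3 _ _ (by decide)),
    fx 1 1 (Multiplicative.ofAdd 2, Multiplicative.ofAdd 1) (x * (x * y))
      (by rw [ιa, ← mul_assoc]; exact congrArg₂ _ (pow_two _) (pow_one _)) (by decide) (by decide)
      (c3 _ _ (by decide)), f0, f1, card_bot, card_top, Nat.card_prod] at key
  refine Nat.pow_left_injective (n := 3) (by norm_num) ?_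
  simp only [mul_pow, ← pow_mul]
  rw [key]
  simp only [Nat.card_eq_fintype_card, Fintype.card_multiplicative, ZMod.card]
  ring

theorem card_inf_conj {R : Subgroup G} {s : G} (hs : s ∈ normalizer (R : Set G)) (y : G) :
    Nat.card ↥(R ⊓ centralizer {s * y * s⁻¹}) = Nat.card ↥(R ⊓ centralizer {y}) := by
  rw [← card_map_of_injective (K := R ⊓ centralizer {y}) (f := (MulAut.conj s).toMonoidHom) (MulAut.conj s).injective]
  congr 2
  ext a
  rw [mem_map_conj, mem_inf, mem_inf, mc, mc, conj_comm, (mem_normalizer_iff''.1 hs a)]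

/-- the centraliser of an involution of `M22` is not `2`-closed -/
theorem not_closed {t r : Equiv.Perm GolayPt} (ht : t ∈ Spor.M22) (t1 : t ≠ 1) (t2 : t * t = 1)
    {T : Subgroup (Equiv.Perm GolayPt)} (hT : T ≤ Spor.M22 ⊓ centralizer {t}) (c : Nat.card T = 128)
    (hr : r ∈ Spor.M22 ⊓ centralizer {t}) (nr : r ∈ normalizer (T : Set _)) (o : orderOf r = 3) : False := by
  obtain ⟨-, k, hk, rfl⟩ := H75.J4.M22_invol ht t1 t2
  have cC : Nat.card ↥(Spor.M22 ⊓ centralizer {k * permOf H96.Geo.M22.c2A * k⁻¹}) = 384 := by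
    rw [card_inf_conj (le_normalizer hk), H96.Geo.M22.card_cent2A]
  have e : T ⊔ zpowers r = Spor.M22 ⊓ centralizer {k * permOf H96.Geo.M22.c2A * k⁻¹} := by
    refine eq_of_le_of_card_ge (sup_le hT (zpowers_le.2 hr)) (cC ▸ Nat.le_of_dvd Nat.card_pos ?_)
    exact Nat.Coprime.mul_dvd_of_dvd_of_dvd (m := 128) (n := 3) (by norm_num) (c ▸ card_dvd_of_le le_sup_left)
      (by rw [← o, ← Nat.card_zpowers]; exact card_dvd_of_le le_sup_right)
  have key : ∀ a : ℕ, Good Spor.M22 a → mulP a H96.Geo.M22.c2A = mulP H96.Geo.M22.c2A a → powP a 2 = idP →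
      k * permOf a * k⁻¹ ∈ T := fun a ha h1 h2 => by
    refine H66.J4.mem_of_card hT (e ▸ sup_le le_normalizer (zpowers_le.2 nr)) (a := 3) (by rw [cC, c])
      (mem_inf.2 ⟨mul_mem (mul_mem hk ha.2) (inv_mem hk), mc.2 (conj_comm.2 ?_)⟩) ?_
    · have o2 : okP H96.Geo.M22.c2A = true := by decide +kernel
      simpa [mul_assoc] using (mulP_eq_iff ha.1 o2 o2 ha.1).1 h1
    · refine Nat.Coprime.coprime_dvd_left (orderOf_dvd_of_pow_eq_one (n := 2) ?_) (by norm_num)
      rw [conj_pow, permOf_pow_eq_one ha.1 h2]; simp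
  have ga : Good Spor.M22 956887698774292501209725733669833408 :=
    good_M22 (by decide +kernel) (by decide +kernel) (by decide +kernel)
  have gb : Good Spor.M22 984169187118468521504517259810654656 :=
    good_M22 (by decide +kernel) (by decide +kernel) (by decide +kernel)
  have i := mul_mem (key _ ga (by decide +kernel) (by decide +kernel)) (key _ gb (by decide +kernel) (by decide +kernel))
  have ok := okP_mulP ga.1 gb.1
  have e3 := permOf_pow_eq_one ok (n := 3) (by decide +kernel)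
  have e1 := permOf_ne_one ok (i := 1) (by norm_num) (by decide +kernel)
  rw [permOf_mulP ga.1 gb.1] at e3 e1
  generalize permOf 956887698774292501209725733669833408 = a at i e3 e1
  generalize permOf 984169187118468521504517259810654656 = b at i e3 e1
  rw [show k * a * k⁻¹ * (k * b * k⁻¹) = k * (a * b) * k⁻¹ by group] at i
  have i2 := pow_card_eq_one' (x := (⟨_, i⟩ : T))
  rw [c, Subtype.ext_iff] at i2
  have i3 : (a * b) ^ 128 = 1 := by simpa [conj_pow, mul_inv_eq_one] using i2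
  exact e1 ((pow_eq_one_iff_of_coprime (by norm_num)).1 ⟨e3, i3⟩)

/-- `Q` is a self-centralising normal `2`-subgroup of `C(z)` -/
structure Qs (z : G) (Q : Subgroup G) : Prop where
  pg : IsPGroup 2 Q
  le : ∀ q ∈ Q, q * z = z * q
  norm : ∀ g, g * z = z * g → g ∈ normalizer (Q : Set G)
  cent : ∀ g, g * z = z * g → (∀ q ∈ Q, q * g = g * q) → g ∈ Q

theorem Qs.z_mem {z : G} {Q : Subgroup G} (q : Qs z Q) : z ∈ Q := q.cent z rfl q.le

theorem Qs.conj {z : G} {Q : Subgroup G} (q : Qs z Q) {g a : G} (hg : g * z = z * g) (ha : a ∈ Q) :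
    g * a * g⁻¹ ∈ Q := conj_mem_of_normalizer (q.norm g hg) ha

namespace Hy
variable {x z : G} {φ : G → Equiv.Perm GolayPt} (h : Hy x z φ)
include h

/-- the image in `M22` -/
def bar (P : Subgroup G) : Subgroup (Equiv.Perm GolayPt) := (P.subgroupOf (centralizer {x})).map h.φh

theorem mem_bar {P : Subgroup G} {s : Equiv.Perm GolayPt} : s ∈ h.bar P ↔ ∃ a ∈ P, a * x = x * a ∧ φ a = s :=
  ⟨fun ⟨a, ha, e⟩ => ⟨a, ha, mc.1 a.2, e⟩, fun ⟨a, ha, c, e⟩ => ⟨⟨a, mc.2 c⟩, ha, e⟩⟩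

theorem card_bar {P : Subgroup G} (hP : P ≤ centralizer {x}) (inj : ∀ a ∈ P, φ a = 1 → a = 1) :
    Nat.card (h.bar P) = Nat.card P := by
  rw [← Nat.card_congr (subgroupOfEquivOfLe hP).toEquiv]
  exact (Nat.card_congr (Equiv.ofBijective (h.φh.subgroupMap (P.subgroupOf (centralizer {x}))) ⟨(injective_iff_map_eq_one _).2 fun a ha =>
    Subtype.ext (Subtype.ext (inj _ a.2 (congrArg Subtype.val ha :))), h.φh.subgroupMap_surjective _⟩)).symm

variable {Q : Subgroup G} (q : Qs z Q)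
include q

theorem x_not : x ∉ Q := fun c => by
  obtain ⟨k, hk⟩ := q.pg ⟨x, c⟩
  exact h.x1 ((pow_eq_one_iff_of_coprime (Nat.Coprime.pow_right k (by norm_num))).1
    ⟨h.cube, congrArg Subtype.val hk⟩)

theorem fix {a : G} (ha : a ∈ Q) (c : a * x = x * a) : a = 1 ∨ a = z := by
  obtain ⟨k, hk⟩ := q.pg ⟨a, ha⟩
  refine h.ker_two c ?_ (congrArg Subtype.val hk)
  by_contra h1
  exact h.x_not q (h.le_of_norm (fun k hk n hn => q.conj (h.zc k hk) hn) ha c h1 (mc.2 rfl))

theorem inf_eq {R : Subgroup G} (hR : R ≤ Q) (hz : z ∈ R) : R ⊓ centralizer {x} = zpowers z :=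
  le_antisymm (fun _ ha => (mem_zpowers_iff_of_sq h.zz).2 (h.fix q (hR ha.1) (mc.1 ha.2)))
    (zpowers_le.2 ⟨hz, mc.2 h.zx⟩)

variable [Finite G]

theorem big {R : Subgroup G} (hR : R ≤ Q) (hz : z ∈ R) (hn : ∀ k, k * x = x * k → ∀ r ∈ R, k * r * k⁻¹ ∈ R) :
    (∀ r ∈ R, r = 1 ∨ r = z) ∨ 2 ^ 11 ≤ Nat.card R := by
  have := Fact.mk Nat.prime_two
  have : Fact (Nat.Prime 11) := ⟨by norm_num⟩
  obtain ⟨u, hu⟩ := exists_prime_orderOf_dvd_card' (G := centralizer ({x} : Set G)) 11 (by rw [h.card_K]; norm_num)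
  have cu := mc.1 u.2
  have u1 : φ u ≠ 1 := fun e => by
    have := orderOf_dvd_of_mem_zpowers ((h.ker u cu).1 e)
    rw [h.order6, orderOf_coe, hu] at this
    norm_num at this
  by_cases c : (u : G) ∈ centralizer (R : Set G)
  · left
    have := h.le_of_norm (N := centralizer (R : Set G)) (fun k hk n hn' => mem_centralizer_iff.2 fun r hr =>
      conj_comm.2 (mem_centralizer_iff.1 hn' _
        (by simpa using hn k⁻¹ (show Commute k x from hk).inv_left.eq r hr))) c cu u1 (mc.2 rfl)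
    exact fun r hr => h.fix q (hR hr) (mem_centralizer_iff.1 this r hr)
  · right
    have e := H4.card_modEq_card_inf_centralizer (q := 11) (mem_normalizer_of_finite (hn u cu)) (k := 1)
      (by rw [pow_one, ← hu, ← orderOf_coe, pow_orderOf_eq_one])
    obtain ⟨a, ha⟩ := (q.pg.to_le hR).exists_card_eq
    obtain ⟨b, hb⟩ := ((q.pg.to_le hR).to_inf_left (K := centralizer {(u : G)})).exists_card_eq
    have l1 : 2 ∣ Nat.card ↥(R ⊓ centralizer {(u : G)}) := by
      rw [← h.z2, ← Nat.card_zpowers]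
      exact card_dvd_of_le (zpowers_le.2 ⟨hz, mc.2 (h.zc u cu).symm⟩)
    have l2 : Nat.card ↥(R ⊓ centralizer {(u : G)}) < Nat.card R := by
      by_contra hc
      have := eq_of_le_of_card_ge (inf_le_left : R ⊓ centralizer {(u : G)} ≤ R) (not_lt.1 hc)
      exact c (mem_centralizer_iff.2 fun r hr => mc.1 (this.ge hr).2)
    rw [ha, hb] at e l2
    rw [hb] at l1
    rw [ha]
    refine Nat.pow_le_pow_right (by norm_num) ?_
    have l3 := (Nat.pow_lt_pow_iff_right (by norm_num)).1 l2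
    by_contra hc
    have l4 : b ≠ 0 := by rintro rfl; norm_num at l1
    have : a < 11 := by omega
    interval_cases a <;> interval_cases b <;> first | omega | exact absurd e (by decide)

variable {y : G} (c : y * x = x * y) (y3 : y ^ 3 = 1) (hy : y ∉ zpowers x)
include c y3 hy

theorem cube_card {R : Subgroup G} (hR : R ≤ Q) (hz : z ∈ R) (hn : ∀ k, k * x = x * k → ∀ r ∈ R, k * r * k⁻¹ ∈ R) :
    Nat.card ↥(R ⊓ centralizer {y}) ^ 3 = 4 * Nat.card R := by
  obtain ⟨s, s1, s2⟩ := h.shear c y3 hy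
  have ns := mem_normalizer_of_finite (hn s s1)
  have e := wie (q.pg.to_le hR) h.cube y3 c.symm (mem_normalizer_of_finite (hn x rfl))
    (mem_normalizer_of_finite (hn y c))
  have s3 : s * (x * y) * s⁻¹ = x * (x * y) := by rw [← mul_assoc, s1, mul_assoc x, mul_assoc x, s2]
  rw [← s3, card_inf_conj ns, ← s2, card_inf_conj ns, h.inf_eq q hR hz,
    inf_eq_left.2 (zpowers_le.2 (mc.2 (h.zc y c).symm)), Nat.card_zpowers, h.z2] at e
  nlinarith

theorem irr (cQ : Nat.card Q = 2 ^ 13) {R : Subgroup G} (hR : R ≤ Q) (hz : z ∈ R)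
    (hn : ∀ k, k * x = x * k → ∀ r ∈ R, k * r * k⁻¹ ∈ R) : (∀ r ∈ R, r = 1 ∨ r = z) ∨ R = Q := by
  have := Fact.mk Nat.prime_two
  refine (h.big q hR hz hn).imp_right fun l => eq_of_le_of_card_ge hR ?_
  have e := h.cube_card q c y3 hy hR hz hn
  obtain ⟨a, ha⟩ := (q.pg.to_le hR).exists_card_eq
  obtain ⟨b, hb⟩ := ((q.pg.to_le hR).to_inf_left (K := centralizer {y})).exists_card_eq
  have l2 := card_le_of_le hR
  rw [ha, hb, ← pow_mul, show 4 = 2 ^ 2 from rfl, ← pow_add] at e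
  rw [ha] at l l2
  rw [cQ] at l2
  rw [ha, cQ]
  have l3 := Nat.pow_right_injective le_rfl e
  have l4 := (Nat.pow_le_pow_iff_right (by norm_num)).1 l
  have l5 := (Nat.pow_le_pow_iff_right (by norm_num)).1 l2
  exact Nat.pow_le_pow_right (by norm_num) (by omega)

end Hy

namespace Hy
variable [Finite G] {x z : G} {φ : G → Equiv.Perm GolayPt} (h : Hy x z φ) {Q : Subgroup G} (q : Qs z Q)
  {y w : G} {ψ : G → Equiv.Perm GolayPt} (h' : Hy y w ψ) (c : y * x = x * y) (hy : y ∉ zpowers x)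
include h q

theorem big_Q : 2 ^ 11 ≤ Nat.card Q :=
  (h.big q le_rfl q.z_mem fun k hk _ hr => q.conj (h.zc k hk) hr).resolve_left fun e =>
    h.x_not q (q.cent x h.zx.symm fun a ha => by
      rcases e a ha with rfl | rfl
      exacts [by simp, h.zx])

include h' c hy

theorem inj {a : G} (ha : a ∈ Q ⊓ centralizer {y}) (e : ψ a = 1) : a = 1 := by
  obtain ⟨k, hk⟩ := q.pg ⟨a, ha.1⟩
  refine (h'.ker_two (mc.1 ha.2) e (congrArg Subtype.val hk)).resolve_right ?_
  rintro rfl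
  obtain rfl : a = z := (h.fix q ha.1 (h'.zc x c.symm).symm).resolve_left h'.z1
  have e1 := h.cube_card q c h'.cube hy le_rfl q.z_mem fun k hk _ hr => q.conj (h.zc k hk) hr
  have e2 := h.big_Q q
  rw [h'.inf_eq q le_rfl q.z_mem, Nat.card_zpowers, h.z2] at e1
  omega

theorem card_Q : Nat.card Q = 2 ^ 13 := by
  have := Fact.mk Nat.prime_two
  have := Fact.mk Nat.prime_three
  have e := h.cube_card q c h'.cube hy le_rfl q.z_mem fun k hk _ hr => q.conj (h.zc k hk) hr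
  have l := h.big_Q q
  have e3 := H4.card_modEq_card_inf_centralizer (q := 3) (q.norm x h.zx.symm) (k := 1) h.cube
  have cb := h'.card_bar (P := Q ⊓ centralizer {y}) inf_le_right fun a => h.inj q h' c hy
  have le : h'.bar (Q ⊓ centralizer {y}) ≤ Spor.M22 := fun s hs => by
    obtain ⟨a, -, i, rfl⟩ := h'.mem_bar.1 hs
    exact h'.mem a i
  have d := card_dvd_of_le le
  obtain ⟨a, ha⟩ := q.pg.exists_card_eq
  obtain ⟨b, hb⟩ := (q.pg.to_inf_left (K := centralizer {y})).exists_card_eq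
  rw [h.inf_eq q le_rfl q.z_mem, Nat.card_zpowers, h.z2, ha] at e3
  rw [ha, hb, ← pow_mul, show 4 = 2 ^ 2 from rfl, ← pow_add] at e
  rw [cb, hb, card_M22, show 443520 = 2 ^ 7 * 3465 by norm_num] at d
  have l1 := (Nat.pow_dvd_pow_iff_le_right (by norm_num)).1
    ((Nat.Coprime.pow_left b (by norm_num)).dvd_of_dvd_mul_right d)
  rw [ha] at l ⊢
  have l3 := Nat.pow_right_injective le_rfl e
  have l4 := (Nat.pow_le_pow_iff_right (by norm_num)).1 l
  have : b = 5 ∨ b = 6 ∨ b = 7 := by omega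
  rcases this with rfl | rfl | rfl
  · rw [show a = 13 by omega]
  · rw [show a = 16 by omega] at e3
    exact absurd e3 (by decide)
  exfalso
  have zy := (h.zc y c).symm
  have x3 : ψ x ^ 3 = 1 := by rw [← h'.φ_pow c.symm, h.cube, h'.φ_one]
  have x1 : ψ x ≠ 1 := fun e => by
    rcases zpowers_three h'.x3 (h'.ker_three c.symm e h.cube) with e | e | e
    · exact h.x1 e
    · exact hy (e ▸ mem_zpowers _)
    · exact hy (by rw [e]; simp)
  refine not_closed (t := ψ z) (r := ψ x) (h'.mem z zy) (fun e => h.z1 (h.inj q h' c hy ⟨q.z_mem, mc.2 zy⟩ e))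
    (by rw [← h'.mul _ _ zy zy, h.zz, h'.φ_one]) (fun s hs => ⟨le hs, ?_⟩) (cb.trans hb)
    ⟨h'.mem x c.symm, mc.2 (by rw [← h'.mul _ _ zy c.symm, ← h'.mul _ _ c.symm zy, h.zx])⟩
    (mem_normalizer_of_finite fun s hs => ?_) (orderOf_eq_prime x3 x1)
  · obtain ⟨a, i1, i2, rfl⟩ := h'.mem_bar.1 hs
    exact mc.2 (by rw [← h'.mul _ _ zy i2, ← h'.mul _ _ i2 zy, q.le a i1.1])
  · obtain ⟨a, i1, i2, rfl⟩ := h'.mem_bar.1 hs
    have i3 : x * a * x⁻¹ ∈ centralizer {y} := mul_mem (mul_mem (mc.2 c.symm) i1.2) (inv_mem (mc.2 c.symm))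
    exact h'.mem_bar.2 ⟨_, ⟨q.conj h.zx.symm i1.1, i3⟩, mc.1 i3, h'.φ_conj c.symm i2⟩

theorem comm_sq : ∀ a ∈ Q, a * a ∈ zpowers z ∧ ∀ b ∈ Q, a * b * a⁻¹ * b⁻¹ ∈ zpowers z := by
  have := Fact.mk Nat.prime_two
  have cQ := h.card_Q q h' c hy
  have zc : ∀ {a g : G}, g * z = z * g → a ∈ zpowers z → g * a * g⁻¹ = a := fun {a g} hg ha => by
    rcases (mem_zpowers_iff_of_sq h.zz).1 ha with rfl | rfl
    · simp
    · rw [hg, mul_inv_cancel_right]
  let R : Subgroup G :=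
    { carrier := {a | a ∈ Q ∧ a * a ∈ zpowers z ∧ ∀ b ∈ Q, a * b * a⁻¹ * b⁻¹ ∈ zpowers z}
      one_mem' := ⟨one_mem _, by simp, by simp⟩
      mul_mem' := fun {a b} ha hb => ⟨mul_mem ha.1 hb.1, by
        have e := zc (q.le a ha.1) (hb.2.2 a ha.1)
        rw [show a * b * (a * b) = a * (b * a * b⁻¹ * a⁻¹) * a⁻¹ * (a * a) * (b * b) by group, e]
        exact mul_mem (mul_mem (hb.2.2 a ha.1) ha.2.1) hb.2.1, fun d hd => by
        have e := zc (q.le a ha.1) (hb.2.2 d hd)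
        rw [show a * b * d * (a * b)⁻¹ * d⁻¹ = a * (b * d * b⁻¹ * d⁻¹) * a⁻¹ * (a * d * a⁻¹ * d⁻¹) by group, e]
        exact mul_mem (hb.2.2 d hd) (ha.2.2 d hd)⟩
      inv_mem' := fun {a} ha => ⟨inv_mem ha.1, by simpa using inv_mem ha.2.1, fun d hd => by
        have e := zc (q.le _ (inv_mem ha.1)) (inv_mem (ha.2.2 d hd))
        rw [show a⁻¹ * d * a⁻¹⁻¹ * d⁻¹ = a⁻¹ * (a * d * a⁻¹ * d⁻¹)⁻¹ * a⁻¹⁻¹ by group, e]
        exact inv_mem (ha.2.2 d hd)⟩ }
  have hR := h.irr q c h'.cube hy cQ (R := R) (fun _ ha => ha.1)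
    ⟨q.z_mem, by rw [h.zz]; exact one_mem _, fun b hb => by rw [← q.le b hb]; simp⟩
    fun k hk r hr => ⟨q.conj (h.zc k hk) hr.1, by
      rw [show k * r * k⁻¹ * (k * r * k⁻¹) = k * (r * r) * k⁻¹ by group, zc (h.zc k hk) hr.2.1]
      exact hr.2.1, fun b hb => by
      have i := hr.2.2 _ (q.conj (g := k⁻¹) (show Commute k z from h.zc k hk).inv_left.eq hb)
      rw [← zc (h.zc k hk) i] at i
      convert i using 1
      group⟩
  refine fun a ha => (((hR.resolve_left fun e => ?_).ge ha).2 :)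
  have hN : ((zpowers z).subgroupOf Q).Normal := ⟨fun n hn g => by
    rw [mem_subgroupOf] at hn ⊢
    exact (congrArg (· ∈ zpowers z) (zc (q.le g g.2) hn)).mpr hn⟩
  have hp := q.pg.to_quotient ((zpowers z).subgroupOf Q)
  have nt : Nontrivial (Q ⧸ (zpowers z).subgroupOf Q) := by
    rw [QuotientGroup.nontrivial_iff, Ne, subgroupOf_eq_top]
    intro l
    have := card_le_of_le l
    rw [cQ, Nat.card_zpowers, h.z2] at this
    norm_num at this
  have nt2 := hp.center_nontrivial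
  obtain ⟨n, hn0, hn⟩ := (hp.to_subgroup (center _)).nontrivial_iff_card.1 nt2
  obtain ⟨g, hg⟩ := exists_prime_orderOf_dvd_card' (G := center (Q ⧸ (zpowers z).subgroupOf Q)) 2
    (hn ▸ dvd_pow_self 2 hn0.ne')
  obtain ⟨b, hb⟩ := QuotientGroup.mk_surjective g.1
  have b1 : (b : G) ∉ zpowers z := fun i => by
    have : g = 1 := Subtype.ext (hb ▸ (QuotientGroup.eq_one_iff b).2 i)
    rw [this, orderOf_one] at hg
    omega
  refine b1 ((mem_zpowers_iff_of_sq h.zz).2 (e b ⟨b.2, ?_, fun d hd => ?_⟩))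
  · refine mem_subgroupOf.1 ((QuotientGroup.eq_one_iff (b * b)).1 ?_)
    rw [QuotientGroup.mk_mul, hb]
    exact congrArg Subtype.val (mul_self_of_orderOf_eq_two hg)
  · refine mem_subgroupOf.1 ((QuotientGroup.eq_one_iff (N := (zpowers z).subgroupOf Q)
      (b * ⟨d, hd⟩ * b⁻¹ * (⟨d, hd⟩ : Q)⁻¹)).1 ?_)
    rw [QuotientGroup.mk_mul, QuotientGroup.mk_mul, QuotientGroup.mk_mul, QuotientGroup.mk_inv, QuotientGroup.mk_inv,
      hb, ← mem_center_iff.1 g.2]
    group

theorem nonab : ∃ a ∈ Q, ∃ b ∈ Q, a * b ≠ b * a := by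
  by_contra hn
  push Not at hn
  have cQ := h.card_Q q h' c hy
  let R : Subgroup G :=
    { carrier := {a | a ∈ Q ∧ a * a = 1}
      one_mem' := ⟨one_mem _, by simp⟩
      mul_mem' := fun {a b} ha hb => ⟨mul_mem ha.1 hb.1, by
        rw [mul_assoc, ← mul_assoc b, hn b hb.1 a ha.1, mul_assoc, hb.2, mul_one, ha.2]⟩
      inv_mem' := fun {a} ha => ⟨inv_mem ha.1, by rw [← mul_inv_rev, ha.2, inv_one]⟩ }
  rcases h.irr q c h'.cube hy cQ (R := R) (fun _ ha => ha.1) ⟨q.z_mem, h.zz⟩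
    fun k hk r hr => ⟨q.conj (h.zc k hk) hr.1, by
      rw [show k * r * k⁻¹ * (k * r * k⁻¹) = k * (r * r) * k⁻¹ by group, hr.2]; simp⟩ with e | e
  · refine h.x_not q (q.cent x h.zx.symm fun a ha => ?_)
    have i := q.conj h.zx.symm ha
    have s : x * (a * a) * x⁻¹ = a * a := by
      rcases (mem_zpowers_iff_of_sq h.zz).1 (h.comm_sq q h' c hy a ha).1 with e | e <;> rw [e]
      · simp
      · rw [← h.zx, mul_inv_cancel_right]
    rcases e (a⁻¹ * (x * a * x⁻¹)) ⟨mul_mem (inv_mem ha) i, by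
      rw [mul_assoc, ← mul_assoc (x * a * x⁻¹), hn _ i _ (inv_mem ha), mul_assoc a⁻¹,
        show x * a * x⁻¹ * (x * a * x⁻¹) = x * (a * a) * x⁻¹ by group, s]; group⟩ with e1 | e1
    · exact (mul_inv_eq_iff_eq_mul.1 (inv_mul_eq_one.1 e1).symm).symm
    · exfalso
      have e2 : x * a * x⁻¹ = a * z := inv_mul_eq_iff_eq_mul.1 e1
      have e3 : x * z * x⁻¹ = z := by rw [← h.zx, mul_inv_cancel_right]
      have e4 : x * (a * z) * x⁻¹ = a := by
        rw [show x * (a * z) * x⁻¹ = x * a * x⁻¹ * (x * z * x⁻¹) by group, e2, e3, mul_assoc, h.zz, mul_one]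
      have e5 : x ^ 3 * a * (x ^ 3)⁻¹ = a * z := by
        rw [show x ^ 3 * a * (x ^ 3)⁻¹ = x * (x * (x * a * x⁻¹) * x⁻¹) * x⁻¹ by rw [pow_three]; group, e2, e4, e2]
      rw [h.cube] at e5
      exact h.z1 (by simpa using e5)
  · have e1 := h.cube_card q c h'.cube hy le_rfl q.z_mem fun k hk _ hr => q.conj (h.zc k hk) hr
    have e2 := H75.J4.card_elem_M22 (E := h'.bar (Q ⊓ centralizer {y})) (fun s hs => by
      obtain ⟨a, -, i, rfl⟩ := h'.mem_bar.1 hs
      exact h'.mem a i) fun s hs => by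
      obtain ⟨a, i1, i2, rfl⟩ := h'.mem_bar.1 hs
      rw [← h'.mul _ _ i2 i2, (e.ge i1.1).2, h'.φ_one]
    rw [h'.card_bar inf_le_right fun a => h.inj q h' c hy] at e2
    have := Nat.pow_le_pow_left e2 3
    rw [e1, cQ] at this
    norm_num at this

theorem l3 : L3 Q z := by
  have na := h.nonab q h' c hy
  have nd : ∀ a ∈ Q, (∀ b ∈ Q, a * b = b * a) → a = 1 ∨ a = z := fun a ha e => by
    rcases h.irr q c h'.cube hy (h.card_Q q h' c hy) (R := Q ⊓ centralizer (Q : Set G)) inf_le_left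
      ⟨q.z_mem, mem_centralizer_iff.2 q.le⟩ (fun k hk r hr => ⟨q.conj (h.zc k hk) hr.1,
        mem_centralizer_iff.2 fun b hb => conj_comm.2 (mem_centralizer_iff.1 hr.2 _
          (conj_mem_of_normalizer' (q.norm k (h.zc k hk)) hb))⟩) with e1 | e1
    · exact e1 a ⟨ha, mem_centralizer_iff.2 fun b hb => (e b hb).symm⟩
    · obtain ⟨a, ha, b, hb, e⟩ := na
      exact absurd (mem_centralizer_iff.1 (e1.ge hb).2 a ha) e
  refine ⟨⟨q.z_mem, h.z1, h.zz, q.le, fun a ha b hb => ?_, nd, na⟩, fun g hg => nd g (q.cent g (hg z q.z_mem).symm hg)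
    fun b hb => (hg b hb).symm, q.norm⟩
  rcases (mem_zpowers_iff_of_sq h.zz).1 ((h.comm_sq q h' c hy a ha).2 b hb) with e | e
  · left
    rwa [mul_inv_eq_one, mul_inv_eq_iff_eq_mul] at e
  · right
    rw [mul_inv_eq_iff_eq_mul, mul_inv_eq_iff_eq_mul] at e
    rw [e, q.le _ (mul_mem hb ha), mul_assoc]

end Hy

end H66.Six
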