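import Cfsg.Agent.Lib.J4.Six2

/-!
# An overgroup of `2^{1+12}.3M22` with Sylow `3`-subgroups of order 27 preserves the `F₄`-structure
-/

set_option autoImplicit false
set_option linter.unusedSectionVars false
set_option maxRecDepth 100000

namespace H66.Six
open Cfsg H15 H95 H75.J4 Subgroup
open H54 (band band_eq_true bimp bimp_eq_true bor bor_eq_true cntLt cntLt_eq tb allLt allLt_iff)

/-- the vectors of type a -/
def TA : ℕ := 0x222120002010000020010104001010802100101a010610c810180c0604ac6a402000111c100804600000080a1004a6c0000006041a408ca100004080c860010120011106100a0840100c0a000068c4000100048c0c04a601064a080080010100001400a800c0000010866c4140a080101800ca6060804010a4c001010010000220100018010c10a40106000c004a086000040060080040001ac084a10681c010110a00460600ca81040800008c0040011c80a8c10400600060400000a1001012001000ca14866c0118a4468100c0a010000800400a0080000c60000140010102006c8400a8410000ca0100006001110246a00011c100110281100002001202222100000001140000100a160808c64ca0001c0840008a04600064a0c10000801101160a800ca00840104cc4616a8001100408000006c1000080a000004011000200081c04160c0a8004008000a04161001a0660a14800c001c081400000001002000a46c1846100000800a000c00101120c408100a10001126001101210020222100014000a6886c00c800a400401000116a0c0800c41a010480061000000010208c46ca040000110a6018001010000020a61410080000112c0101012010202220040a860c0a041016000c1008010001284c0001061011002a1100012000212220080001100100002400011021002022200010002001202220102022212222220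
/-- the vectors `t` of type a with `t + 521` of type a -/
def M0 : ℕ := 0x200000000000000000000040000008000000008000400480008000400000000200010000000000000000008100020400000000400000080000000000000010000010000000000000000080000004000000004000800840004000800000000000010002000000000000004000020801000000800000040000000000000000002200000000108008400040008000000400000000000000000100000000280000010000040020000000000000000000000108020000000000020400000210010000010000004024800080004000000800000000000000000000020000040010000002080000001000000000000000000004020001000000000801000000012002000000000000000000008000000400080000400000080004000400080000000000100028000000000000400400280010000080000004000000080000000000000000000000000000004000000800040000800000040008000800040000000000000024001000000000800800040010002040000008000000040000000000000000000100000400280008000400000000000000000000000000000210000000100000020000000010000000000010000000200010000000100000010000100000000000020800040014000800000000000000000000000000000000012000000020000001000000002000000000002000000010002000000020000002000020000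
/-- a basis of vectors of type a, consecutive sums of type a -/
def BB : ℕ := 0x82140123e1050310090a104509100d011209
def BI : ℕ := 0x82a4a80411ec00a0fc0820aa0e80442c50a8

theorem TA_iff {v : ℕ} (hv : v < 4096) : tb TA v = true ↔ wt (supp v) = 2 := by
  have := (allLt_iff _ _).1 (show allLt (fun v => band (bimp (tb TA v) (Nat.beq (wt (supp v)) 2))
    (bimp (Nat.beq (wt (supp v)) 2) (tb TA v))) 4096 = true by decide +kernel) v hv
  simp only [band_eq_true, bimp_eq_true, Nat.beq_eq] at this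
  exact ⟨this.1, this.2⟩

theorem M0_iff {v : ℕ} (hv : v < 4096) : tb M0 v = true ↔ tb TA v = true ∧ tb TA (v ^^^ 521) = true := by
  have := (allLt_iff _ _).1 (show allLt (fun v => band (bimp (tb M0 v) (band (tb TA v) (tb TA (Nat.xor v 521))))
    (bimp (tb TA v) (bimp (tb TA (Nat.xor v 521)) (tb M0 v)))) 4096 = true by decide +kernel) v hv
  simp only [band_eq_true, bimp_eq_true] at this
  exact ⟨this.1, fun h => this.2 h.1 h.2⟩

noncomputable def NN (w : ℕ) : ℕ := cntLt (fun t => Bool.rec false (tb TA (Nat.xor t w)) (tb M0 t)) 4096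

theorem NN_eq (w : ℕ) : NN w = ((Finset.range 4096).filter fun t => tb M0 t = true ∧ tb TA (t ^^^ w) = true).card := by
  rw [NN, cntLt_eq]
  congr 1
  refine Finset.filter_congr fun t _ => ?_
  cases tb M0 t <;> simp

theorem NN_chk1 : allLt (fun w => bimp (tb M0 w) (bor (Nat.beq w 1374) (bor (Nat.beq w 1879)
    (Nat.blt (NN w) 121)))) 2048 = true := by decide +kernel

theorem NN_chk2 : allLt (fun w => H54.force (Nat.add w 2048) fun w => bimp (tb M0 w) (Nat.blt (NN w) 121)) 2048 = true := by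
  decide +kernel

theorem om_of {F : ℕ → ℕ} (lt : ∀ v, v < 4096 → F v < 4096)
    (add : ∀ v w, v < 4096 → w < 4096 → F (v ^^^ w) = F v ^^^ F w)
    (inj : ∀ v w, v < 4096 → w < 4096 → F v = F w → v = w)
    (ta : ∀ v, v < 4096 → tb TA v = true → tb TA (F v) = true) (h0 : F 521 = 521) :
    F 1374 = 1374 ∨ F 1374 = 1879 := by
  have m0 : ∀ v, v < 4096 → tb M0 v = true → tb M0 (F v) = true := fun v hv h => by
    rw [M0_iff hv] at h
    rw [M0_iff (lt v hv), ← h0, ← add v 521 hv (by norm_num)]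
    exact ⟨ta v hv h.1, ta _ (xor_lt hv (by norm_num)) h.2⟩
  have l : NN 1374 ≤ NN (F 1374) := by
    rw [NN_eq, NN_eq]
    refine Finset.card_le_card_of_injOn F (fun t ht => ?_) fun a ha b hb e => ?_
    · simp only [Finset.coe_filter, Finset.mem_range, Set.mem_ofPred_eq] at ht ⊢
      rw [← add t 1374 ht.1 (by norm_num)]
      exact ⟨lt t ht.1, m0 t ht.1 ht.2.1, ta _ (xor_lt ht.1 (by norm_num)) ht.2.2⟩
    · simp only [Finset.coe_filter, Finset.mem_range, Set.mem_ofPred_eq] at ha hb
      exact inj a b ha.1 hb.1 e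
  rw [show NN 1374 = 121 by decide +kernel] at l
  have i1 := lt 1374 (by norm_num)
  have i2 := m0 1374 (by norm_num) (by decide +kernel)
  generalize F 1374 = w at l i1 i2
  by_cases hw : w < 2048
  · have := (allLt_iff _ _).1 NN_chk1 w hw
    simp only [bimp_eq_true, bor_eq_true, Nat.beq_eq, Nat.blt_eq] at this
    have := this i2
    omega
  · have := (allLt_iff _ _).1 NN_chk2 (w - 2048) (by omega)
    rw [H54.force_eq, show Nat.add (w - 2048) 2048 = w by simp; omega] at this
    simp only [bimp_eq_true, Nat.blt_eq] at this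
    have := this i2
    omega

/-- an additive map which is a scalar on each vector of type a is a scalar -/
theorem scalar {F : ℕ → ℕ} (add : ∀ v w, v < 4096 → w < 4096 → F (v ^^^ w) = F v ^^^ F w)
    (h : ∀ v, v < 4096 → tb TA v = true → F v = mv Om v ∨ F v = mv Om (mv Om v)) :
    (∀ v, v < 4096 → F v = mv Om v) ∨ ∀ v, v < 4096 → F v = mv Om (mv Om v) := by
  have F0 : F 0 = 0 := by simpa using add 0 0 (by norm_num) (by norm_num)
  have c1 : ∀ i, i < 12 → H54.dig 12 BB i < 4096 ∧ tb TA (H54.dig 12 BB i) = true := by decide +kernel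
  have c2 : ∀ i, i < 11 → tb TA (H54.dig 12 BB i ^^^ H54.dig 12 BB (i + 1)) = true := by decide +kernel
  have ne : ∀ v, v < 4096 → mv Om v = mv Om (mv Om v) → tb TA v = true → False := fun v hv e t => by
    rw [mv_Om_Om hv] at e
    obtain rfl : v = 0 := by
      have := congrArg (mv Om v ^^^ ·) e
      simpa using this.symm
    exact absurd t (by decide +kernel)
  have step : ∀ A B : ℕ → ℕ, (∀ v w, v < 4096 → w < 4096 → A (v ^^^ w) = A v ^^^ A w) →
      (∀ v w, v < 4096 → w < 4096 → B (v ^^^ w) = B v ^^^ B w) →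
      (∀ v, v < 4096 → tb TA v = true → F v = A v ∨ F v = B v) → (∀ v, v < 4096 → A v = B v → tb TA v = true → False) →
      F (H54.dig 12 BB 0) = A (H54.dig 12 BB 0) → ∀ v, v < 4096 → F v = A v := fun A B aA aB h ne h0 => by
    have b : ∀ i, i < 12 → F (H54.dig 12 BB i) = A (H54.dig 12 BB i) := fun i => by
      induction i with
      | zero => exact fun _ => h0
      | succ i ih =>
        intro hi
        obtain ⟨l1, t1⟩ := c1 i (by omega)
        obtain ⟨l2, t2⟩ := c1 _ hi
        refine (h _ l2 t2).resolve_right fun e => ?_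
        have e0 := ih (by omega)
        rcases h _ (xor_lt l1 l2) (c2 i (by omega)) with e1 | e1
        · rw [add _ _ l1 l2, aA _ _ l1 l2, e0, e] at e1
          exact ne _ l2 (Nat.xor_right_injective e1).symm t2
        · rw [add _ _ l1 l2, aB _ _ l1 l2, e0, e] at e1
          exact ne _ l1 (Nat.xor_left_injective e1) t1
    have A0 : A 0 = 0 := by simpa using aA 0 0 (by norm_num) (by norm_num)
    have all : ∀ c, c < 4096 → F (mv BB c) = A (mv BB c) :=
      xor_induction12 (by rw [mv_zero, F0, A0]) (fun i hi => by rw [mv_two_pow _ hi]; exact b i hi)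
        fun a b ha hb i1 i2 => by
          rw [mv_xor _ ha hb, add _ _ (mv_lt _ _) (mv_lt _ _), aA _ _ (mv_lt _ _) (mv_lt _ _), i1, i2]
    intro v hv
    have := all (mv BI v) (mv_lt _ _)
    rwa [← mv_mm _ _ v hv, show mm BB BI = Id12 by decide +kernel, mv_Id v hv] at this
  have a1 : ∀ v w, v < 4096 → w < 4096 → mv Om (v ^^^ w) = mv Om v ^^^ mv Om w := fun v w hv hw => mv_xor _ hv hw
  have a2 : ∀ v w, v < 4096 → w < 4096 → mv Om (mv Om (v ^^^ w)) = mv Om (mv Om v) ^^^ mv Om (mv Om w) :=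
    fun v w hv hw => by rw [mv_xor _ hv hw, mv_xor _ (mv_lt _ _) (mv_lt _ _)]
  exact (h _ (c1 0 (by norm_num)).1 (c1 0 (by norm_num)).2).imp (step _ _ a1 a2 h ne)
    (step _ _ a2 a1 (fun v hv t => (h v hv t).symm) fun v hv e => ne v hv e.symm)

variable {G : Type*} [Group G]

theorem card_class (N : Subgroup G) (y : G) : Nat.card N =
    {w | ∃ n ∈ N, n * y * n⁻¹ = w}.ncard * Nat.card ↥(N ⊓ centralizer {y}) := by
  let _ : MulAction N G := MulAction.compHom G (MulAut.conj.comp N.subtype)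
  have e1 : MulAction.stabilizer N y = (centralizer {y}).subgroupOf N := by
    ext n
    rw [mem_subgroupOf, mc, ← mul_inv_eq_iff_eq_mul]
    rfl
  have e2 : MulAction.orbit N y = {w | ∃ n ∈ N, n * y * n⁻¹ = w} := by
    ext w
    exact ⟨fun ⟨n, e⟩ => ⟨n, n.2, e⟩, fun ⟨n, hn, e⟩ => ⟨⟨n, hn⟩, e⟩⟩
  rw [← e2, ← MulAction.index_stabilizer, e1, inf_comm, ← H1.card_subgroupOf_eq, mul_comm, card_mul_index]

/-- coordinates on `Q` -/
structure CD (z ω : G) (Q : Subgroup G) (s : ℕ → G) : Prop where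
  l3 : L3 Q z
  mem : ∀ a, a ∈ Q ↔ ∃ v, v < 4096 ∧ ∃ c : ℕ, a = s v * z ^ c
  mul : ∀ v w, v < 4096 → w < 4096 → s v * s w = s (v ^^^ w) * z ^ bt v w
  inj : ∀ v w a b : ℕ, v < 4096 → w < 4096 → s v * z ^ a = s w * z ^ b → v = w
  s0 : s 0 = 1
  om : ∀ v, v < 4096 → ω * s v * ω⁻¹ = s (mv Om v)
  ωz : ω * z = z * ω
  ta : ∀ v, v < 4096 → wt (supp v) = 2 → ∃ k, k * z = z * k ∧ k * ω = ω * k ∧ k * s 521 * k⁻¹ = s v
  tb : ∀ v, v < 4096 → wt (supp v) = 6 → ∃ k, k * z = z * k ∧ k * s 180 * k⁻¹ = s v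
  r3 : ∃ r, r * z = z * r ∧ orderOf r = 3 ∧ r * s 548 = s 548 * r

/-- `g` centralises `z` and takes the vector `v` to `w` -/
def Rl (z : G) (s : ℕ → G) (g : G) (v w : ℕ) : Prop :=
  g * z = z * g ∧ v < 4096 ∧ w < 4096 ∧ ∃ c : ℕ, g * s v * g⁻¹ = s w * z ^ c

namespace CD
variable {z ω : G} {Q : Subgroup G} {s : ℕ → G} (d : CD z ω Q s)
include d

theorem s_mem {v : ℕ} (hv : v < 4096) : s v ∈ Q := (d.mem _).2 ⟨v, hv, 0, by simp⟩

theorem zpow_cases (c : ℕ) : z ^ c = 1 ∨ z ^ c = z := d.l3.mem_zpowers.1 (pow_mem (mem_zpowers z) c)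

theorem zc {g : G} (hg : g * z = z * g) (c : ℕ) : g * z ^ c = z ^ c * g := ((show Commute g z from hg).pow_right c).eq

theorem ex {g : G} (hg : g * z = z * g) : ∃ F : ℕ → ℕ, ∀ v, v < 4096 → Rl z s g v (F v) := by
  have : ∀ v, ∃ w, v < 4096 → Rl z s g v w := fun v => by
    by_cases hv : v < 4096
    · obtain ⟨w, hw, e⟩ := (d.mem _).1 (conj_mem_of_normalizer (d.l3.norm g hg) (d.s_mem hv))
      exact ⟨w, fun _ => ⟨hg, hv, hw, e⟩⟩
    · exact ⟨0, fun h => absurd h hv⟩
  exact ⟨_, fun v => (this v).choose_spec⟩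

theorem uniq {g : G} {v w w' : ℕ} (a : Rl z s g v w) (b : Rl z s g v w') : w = w' := by
  obtain ⟨-, -, i1, c, e⟩ := a
  obtain ⟨-, -, i2, c', e'⟩ := b
  exact d.inj _ _ _ _ i1 i2 (e.symm.trans e')

theorem trans {g g' : G} {u v w : ℕ} (a : Rl z s g' u v) (b : Rl z s g v w) : Rl z s (g * g') u w := by
  obtain ⟨z1, i1, -, c, e⟩ := a
  obtain ⟨z2, -, i2, c', e'⟩ := b
  refine ⟨((show Commute g z from z2).mul_left z1).eq, i1, i2, c' + c, ?_⟩
  calc g * g' * s u * (g * g')⁻¹ = g * (g' * s u * g'⁻¹) * g⁻¹ := by group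
    _ = g * s v * g⁻¹ * (g * z ^ c) * g⁻¹ := by rw [e]; group
    _ = _ := by rw [e', d.zc z2]; group

theorem symm {g : G} {v w : ℕ} (a : Rl z s g v w) : Rl z s g⁻¹ w v := by
  obtain ⟨z1, i1, i2, c, e⟩ := a
  refine ⟨(show Commute g z from z1).inv_left.eq, i2, i1, c, ?_⟩
  have e2 : z ^ c * z ^ c = 1 := by rw [← (Commute.refl z).mul_pow, d.l3.sq, one_pow]
  calc g⁻¹ * s w * g⁻¹⁻¹ = g⁻¹ * (s w * z ^ c) * (z ^ c * g) * (g⁻¹ * (z ^ c * z ^ c)⁻¹ * g) := by group
    _ = s v * z ^ c := by rw [← e, ← d.zc z1, e2]; group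

theorem xor {g : G} {v w v' w' : ℕ} (a : Rl z s g v w) (b : Rl z s g v' w') : Rl z s g (v ^^^ v') (w ^^^ w') := by
  obtain ⟨z1, i1, i2, c, e⟩ := a
  obtain ⟨-, j1, j2, c', e'⟩ := b
  refine ⟨z1, xor_lt i1 j1, xor_lt i2 j2, bt w w' + c + c' + bt v v', ?_⟩
  have e2 : z ^ bt v v' * z ^ bt v v' = 1 := by rw [← (Commute.refl z).mul_pow, d.l3.sq, one_pow]
  have e3 : s (v ^^^ v') = s v * s v' * z ^ bt v v' := by rw [d.mul _ _ i1 j1, mul_assoc, e2, mul_one]
  calc g * s (v ^^^ v') * g⁻¹ = g * s v * g⁻¹ * (g * s v' * g⁻¹) * (g * z ^ bt v v') * g⁻¹ := by rw [e3]; group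
    _ = s w * (z ^ c * s w') * z ^ c' * z ^ bt v v' := by rw [e, e', d.zc z1]; group
    _ = _ := by rw [← d.zc (d.l3.central _ (d.s_mem j2)), ← mul_assoc, d.mul _ _ i2 j2]; group

theorem sq {v : ℕ} (hv : v < 4096) (c : ℕ) : s v * z ^ c * (s v * z ^ c) = z ^ qc v := by
  have e2 : z ^ c * z ^ c = 1 := by rw [← (Commute.refl z).mul_pow, d.l3.sq, one_pow]
  calc s v * z ^ c * (s v * z ^ c) = s v * (z ^ c * s v) * z ^ c := by group
    _ = s v * s v * (z ^ c * z ^ c) := by rw [← d.zc (d.l3.central _ (d.s_mem hv))]; group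
    _ = _ := by rw [e2, mul_one, d.mul _ _ hv hv, Nat.xor_self, d.s0, one_mul, qc_eq v hv]

theorem sing {g : G} {v w : ℕ} (a : Rl z s g v w) (h : qc v = 0 ∧ v ≠ 0) : qc w = 0 ∧ w ≠ 0 := by
  constructor
  · obtain ⟨z1, i1, i2, c, e⟩ := a
    have e1 := d.sq i2 c
    have e2 := d.sq i1 0
    rw [h.1, pow_zero, mul_one] at e2
    rw [← e, show g * s v * g⁻¹ * (g * s v * g⁻¹) = g * (s v * s v) * g⁻¹ by group, e2] at e1
    by_contra hn
    rw [show qc w = 1 by have := qc_le w; omega] at e1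
    exact d.l3.ne_one (by simpa using e1.symm)
  · rintro rfl
    exact h.2 (d.uniq (d.symm a) ⟨(d.symm a).1, by norm_num, by norm_num, 0, by simp [d.s0]⟩)

theorem of_conj {k : G} {v w : ℕ} (hk : k * z = z * k) (hv : v < 4096) (hw : w < 4096) (e : k * s v * k⁻¹ = s w) :
    Rl z s k v w := ⟨hk, hv, hw, 0, by simpa using e⟩

variable [Finite G]

theorem not_fused (h81 : ¬ 81 ∣ Nat.card G) {g : G} (a : Rl z s g 521 180) : False := by
  classical
  obtain ⟨r, r1, r2, r3⟩ := d.r3
  obtain ⟨k, k1, -, k2⟩ := d.ta 548 (by norm_num) (by decide +kernel)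
  have k3 := d.symm (d.of_conj k1 (by norm_num) (by norm_num) k2)
  have all : ∀ v, v < 4096 → qc v = 0 → v ≠ 0 → ∃ n, Rl z s n 548 v := fun v hv h h0 => by
    rcases orb_sing v hv h with e | e | e
    · exact absurd e h0
    · obtain ⟨l, l1, -, l2⟩ := d.ta v hv e.1
      exact ⟨_, d.trans k3 (d.of_conj l1 (by norm_num) hv l2)⟩
    · obtain ⟨l, l1, l2⟩ := d.tb v hv e.1
      exact ⟨_, d.trans (d.trans k3 a) (d.of_conj l1 (by norm_num) hv l2)⟩
  have e : {w | ∃ n ∈ centralizer {z}, n * s 548 * n⁻¹ = w} = (fun p : ℕ × ℕ => s p.1 * z ^ p.2) ''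
      ↑(((Finset.range 4096).filter fun v => band (Nat.beq (qc v) 0) (Nat.blt 0 v) = true) ×ˢ Finset.range 2) := by
    ext w
    simp only [Set.mem_ofPred_eq, Set.mem_image, Finset.mem_coe, Finset.mem_product, Finset.mem_filter,
      Finset.mem_range, band_eq_true, Nat.beq_eq, Nat.blt_eq]
    constructor
    · rintro ⟨n, hn, rfl⟩
      obtain ⟨F, hF⟩ := d.ex (mc.1 hn)
      have i := hF 548 (by norm_num)
      have i2 := d.sing i (by decide +kernel)
      obtain ⟨-, -, i3, c, e⟩ := i
      exact ⟨(F 548, c % 2), ⟨⟨i3, i2.1, by omega⟩, Nat.mod_lt _ (by norm_num)⟩, by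
        rw [e, pow_eq_pow_mod c (show z ^ 2 = 1 by rw [pow_two, d.l3.sq])]⟩
    · rintro ⟨⟨v, c⟩, ⟨⟨i1, i2, i3⟩, -⟩, rfl⟩
      obtain ⟨n, n1, -, -, c', e⟩ := all v i1 i2 (by omega)
      obtain ⟨y, y1, y2⟩ := d.l3.exists_conj (x := s v * z ^ c') ((d.mem _).2 ⟨v, i1, c', rfl⟩)
        (fun e => i3.ne' (d.inj v 0 c' 0 i1 (by norm_num) (by simpa [d.s0] using e)))
        (fun e => i3.ne' (d.inj v 0 c' 1 i1 (by norm_num) (by simpa [d.s0] using e)))
      have y3 : y * n * s 548 * (y * n)⁻¹ = s v * z ^ c' * z := by rw [← y2, ← e]; group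
      have y4 : y * n ∈ centralizer {z} := mul_mem (mc.2 (d.l3.central y y1)) (mc.2 n1)
      rcases d.zpow_cases c with e1 | e1 <;> rcases d.zpow_cases c' with e2 | e2 <;> simp only [e1] <;>
        rw [e2] at e y3
      · exact ⟨n, mc.2 n1, e⟩
      · exact ⟨_, y4, by rw [y3, mul_assoc, d.l3.sq]⟩
      · exact ⟨_, y4, by rw [y3, mul_one]⟩
      · exact ⟨n, mc.2 n1, e⟩
  have c := card_class (centralizer {z}) (s 548)
  rw [e, Set.InjOn.ncard_image, Set.ncard_coe_finset, Finset.card_product, ← cntLt_eq,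
    show cntLt (fun v => band (Nat.beq (qc v) 0) (Nat.blt 0 v)) 4096 = 2079 by decide +kernel] at c
  · refine h81 (Dvd.dvd.trans ?_ (card_subgroup_dvd_card (centralizer {z})))
    rw [c]
    refine mul_dvd_mul (a := 27) (c := 3) (by simp) ?_
    rw [← r2, ← Nat.card_zpowers]
    exact card_dvd_of_le (zpowers_le.2 ⟨mc.2 r1, mc.2 r3⟩)
  · rintro ⟨v, a⟩ h1 ⟨w, b⟩ h2 e
    simp only [Finset.mem_coe, Finset.mem_product, Finset.mem_filter, Finset.mem_range] at h1 h2 e
    obtain rfl := d.inj _ _ _ _ h1.1.1 h2.1.1 e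
    have e' := pow_injOn_Iio_orderOf (x := z) (by rw [d.l3.orderOf_eq]; exact h1.2)
      (by rw [d.l3.orderOf_eq]; exact h2.2) (mul_left_cancel e)
    rw [e']

variable (h81 : ¬ 81 ∣ Nat.card G)
include h81

theorem pres {g : G} {v w : ℕ} (a : Rl z s g v w) (h : H54.tb TA v = true) : H54.tb TA w = true := by
  have hv := (TA_iff a.2.1).1 h
  obtain ⟨i1, i2⟩ := d.sing a (supp_qc v a.2.1 (by rintro e; rw [e] at hv; exact absurd hv (by decide)))
  rcases orb_sing w a.2.2.1 i1 with e | e | e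
  · exact absurd e i2
  · exact (TA_iff a.2.2.1).2 e.1
  · obtain ⟨k, k1, -, k2⟩ := d.ta v a.2.1 hv
    obtain ⟨l, l1, l2⟩ := d.tb w a.2.2.1 e.1
    exact (d.not_fused h81 (d.trans (d.trans (d.of_conj k1 (by norm_num) a.2.1 k2) a)
      (d.symm (d.of_conj l1 (by norm_num) a.2.2.1 l2)))).elim

theorem fix_om {g : G} (a : Rl z s g 521 521) : Rl z s g 1374 1374 ∨ Rl z s g 1374 1879 := by
  obtain ⟨F, hF⟩ := d.ex a.1
  have := om_of (F := F) (fun v hv => (hF v hv).2.2.1)
    (fun v w hv hw => d.uniq (hF _ (xor_lt hv hw)) (d.xor (hF v hv) (hF w hw)))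
    (fun v w hv hw e => d.uniq (d.symm (hF v hv)) (e ▸ d.symm (hF w hw)))
    (fun v hv => d.pres h81 (hF v hv)) (d.uniq (hF _ (by norm_num)) a)
  have i := hF 1374 (by norm_num)
  rcases this with e | e <;> rw [e] at i
  exacts [Or.inl i, Or.inr i]

/-- `C(z)` normalises `Q⟨ω⟩` -/
theorem norm {g : G} (hg : g * z = z * g) : g * ω * g⁻¹ ∈ Q ⊔ zpowers ω := by
  have om : ∀ v, v < 4096 → Rl z s ω v (mv Om v) := fun v hv => d.of_conj d.ωz hv (mv_lt _ _) (d.om v hv)
  have hx : g * ω * g⁻¹ * z = z * (g * ω * g⁻¹) :=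
    (((show Commute g z from hg).mul_left d.ωz).mul_left (show Commute g z from hg).inv_left).eq
  obtain ⟨F, hF⟩ := d.ex hx
  obtain ⟨E, hE⟩ := d.ex (show Commute g z from hg).inv_left.eq
  have kom : ∀ k v w, k * ω = ω * k → Rl z s k v w → Rl z s k (mv Om v) (mv Om w) := fun k v w c a => by
    have := d.trans (d.trans (d.symm (om v a.2.1)) a) (om w a.2.2.1)
    rwa [← mul_assoc, ← c, mul_inv_cancel_right] at this
  have key : ∀ w, w < 4096 → H54.tb TA w = true → F w = mv Om w ∨ F w = mv Om (mv Om w) := fun w hw t => by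
    have i := hE w hw
    obtain ⟨k, k1, k2, k3⟩ := d.ta _ i.2.2.1 ((TA_iff i.2.2.1).1 (d.pres h81 i t))
    obtain ⟨l, l1, l2, l3⟩ := d.ta _ hw ((TA_iff hw).1 t)
    have k4 := d.of_conj k1 (by norm_num) i.2.2.1 k3
    have l4 := d.of_conj l1 (by norm_num) hw l3
    have j := d.symm i
    rw [inv_inv] at j
    have k5 := kom _ _ _ k2 k4
    have l5 := kom _ _ _ l2 l4
    have l6 := kom _ _ _ l2 l5
    rw [show mv Om 521 = 1374 by decide +kernel] at k5 l5 l6
    rw [show mv Om 1374 = 1879 by decide +kernel] at l6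
    have fin : ∀ t u, Rl z s l t u → Rl z s (l⁻¹ * (g * k)) 1374 t → F w = u := fun t u a b => by
      have := d.trans (d.trans i (om _ i.2.2.1)) (d.trans (d.trans (d.symm k5) b) a)
      rw [show l * (l⁻¹ * (g * k) * k⁻¹) * (ω * g⁻¹) = g * ω * g⁻¹ by group] at this
      exact d.uniq (hF w hw) this
    exact (d.fix_om h81 (d.trans (d.trans k4 j) (d.symm l4))).imp (fin _ _ l5) (fin _ _ l6)
  have fin : ∀ a, a ∈ zpowers ω → (∀ v, v < 4096 → Rl z s a v (F v)) → g * ω * g⁻¹ ∈ Q ⊔ zpowers ω := fun a ha h => by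
    have : g * ω * g⁻¹ * a⁻¹ ∈ Q := d.l3.mem_of_trivial fun q hq => by
      obtain ⟨v, hv, c, rfl⟩ := (d.mem q).1 hq
      obtain ⟨A, hA⟩ := d.ex (d.symm (h v hv)).1
      have i := hA v hv
      have i2 := d.symm i
      rw [inv_inv] at i2
      have i3 := d.trans i (hF _ i.2.2.1)
      rw [d.uniq (h _ i.2.2.1) i2] at i3
      obtain ⟨j1, -, -, c', e⟩ := i3
      generalize g * ω * g⁻¹ * a⁻¹ = n at j1 e
      have : n * (s v * z ^ c) * n⁻¹ = s v * z ^ c * z ^ c' := by
        calc n * (s v * z ^ c) * n⁻¹ = n * s v * n⁻¹ * (n * z ^ c) * n⁻¹ := by group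
          _ = _ := by rw [e, d.zc j1]; group
      rw [this]
      exact (d.zpow_cases c').imp (fun e => by rw [e, mul_one]) fun e => by rw [e]
    simpa using mul_mem (mem_sup_left this) (mem_sup_right ha)
  rcases scalar (F := F) (fun v w hv hw => d.uniq (hF _ (xor_lt hv hw)) (d.xor (hF v hv) (hF w hw))) key with e | e
  · exact fin ω (mem_zpowers ω) fun v hv => e v hv ▸ om v hv
  · exact fin (ω * ω) (mul_mem (mem_zpowers ω) (mem_zpowers ω)) fun v hv =>
      e v hv ▸ d.trans (om v hv) (om _ (mv_lt _ _))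

end CD

end H66.Six
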