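import Cfsg.Agent.Lib.J4.Six3

/-!
# An element of order three with centraliser `6·M22` in a group of characteristic 2 type
-/

set_option autoImplicit false
set_option linter.unusedSectionVars false
set_option maxRecDepth 100000

namespace H66.Six
open Cfsg H15 H95 H75.J4 Subgroup
open scoped commutatorElement

variable {G : Type*} [Group G]

namespace Hy
variable {x z : G} {φ : G → Equiv.Perm GolayPt} (h : Hy x z φ)
include h

/-- the normaliser of `⟨x⟩` -/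
def N0 : Subgroup G where
  carrier := {n | n * x * n⁻¹ = x ∨ n * x * n⁻¹ = x⁻¹}
  one_mem' := Or.inl (by simp)
  inv_mem' := h.inv_N
  mul_mem' {a b} ha hb := by
    have e : a * b * x * (a * b)⁻¹ = a * (b * x * b⁻¹) * a⁻¹ := by group
    have e' : a * x⁻¹ * a⁻¹ = (a * x * a⁻¹)⁻¹ := by group
    rcases hb with i | i <;> rcases ha with j | j <;> simp only [Set.mem_ofPred_eq, e, i, e', j] <;> simp

theorem K_le : centralizer {x} ≤ h.N0 := fun a ha => Or.inl (by rw [mc.1 ha, mul_inv_cancel_right])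

theorem wd {n k k' : G} (hn : n ∈ h.N0) (hk : k * x = x * k) (hk' : k' * x = x * k') (e : φ k = φ k') :
    φ (n * k * n⁻¹) = φ (n * k' * n⁻¹) := by
  have hc : k⁻¹ * k' ∈ centralizer {x} := mul_mem (inv_mem (mc.2 hk)) (mc.2 hk')
  have e1 : φ (k⁻¹ * k') = 1 := by rw [h.mul _ _ (mc.1 (inv_mem (mc.2 hk))) hk', h.φ_inv hk, e, inv_mul_cancel]
  have e2 : φ (n * (k⁻¹ * k') * n⁻¹) = 1 := h.central fun a ha =>
    conj_comm.2 (h.ker_comm ((h.ker _ (mc.1 hc)).1 e1) (h.conj_K hn ha))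
  rw [show n * k' * n⁻¹ = n * k * n⁻¹ * (n * (k⁻¹ * k') * n⁻¹) by group,
    h.mul _ _ (h.conj_K' hn hk) (h.conj_K' hn (mc.1 hc)), e2, mul_one]

theorem ex_s {n : G} (hn : n ∈ h.N0) : ∃ s ∈ M22ext, ∀ k, k * x = x * k → φ (n * k * n⁻¹) = s * φ k * s⁻¹ := by
  choose L hL eL using fun s : Spor.M22 => h.surj s s.2
  let a : Spor.M22 →* Spor.M22 := MonoidHom.mk' (fun s => ⟨φ (n * L s * n⁻¹), h.mem _ (h.conj_K' hn (hL s))⟩)
    fun s t => Subtype.ext (by
      have c : L s * L t * x = x * (L s * L t) := mc.1 (mul_mem (mc.2 (hL s)) (mc.2 (hL t)))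
      show φ (n * L (s * t) * n⁻¹) = φ (n * L s * n⁻¹) * φ (n * L t * n⁻¹)
      rw [← h.mul _ _ (h.conj_K' hn (hL s)) (h.conj_K' hn (hL t)),
        h.wd hn (hL _) c (by rw [h.mul _ _ (hL s) (hL t), eL, eL, eL]; rfl)]
      congr 1
      group)
  have inj : Function.Injective a := (injective_iff_map_eq_one a).2 fun s hs => Subtype.ext (by
    have := h.wd (inv_mem hn) (h.conj_K' hn (hL s)) (k' := 1) (by simp)
      ((congrArg Subtype.val hs).trans h.φ_one.symm)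
    simpa [mul_assoc, eL, h.φ_one] using this)
  obtain ⟨s, hs, e⟩ := aut_M22 (MulEquiv.ofBijective a (Finite.injective_iff_bijective.1 inj))
  exact ⟨s, hs, fun k hk => (h.wd hn hk (hL ⟨φ k, h.mem k hk⟩) (eL ⟨φ k, h.mem k hk⟩).symm).trans (e ⟨φ k, h.mem k hk⟩)⟩

theorem uq {s s' : Equiv.Perm GolayPt} (hs : s ∈ M22ext) (hs' : s' ∈ M22ext)
    (e : ∀ k, k * x = x * k → s * φ k * s⁻¹ = s' * φ k * s'⁻¹) : s = s' :=
  (inv_mul_eq_one.1 (center_M22 (M22ext_le_M24 (mul_mem (inv_mem hs') hs)) fun y hy => by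
    obtain ⟨k, hk, rfl⟩ := h.surj y hy
    rw [mul_assoc, mul_inv_eq_iff_eq_mul.1 (e k hk)]; group)).symm

theorem exists_rho : ∃ ρ : h.N0 →* Equiv.Perm GolayPt, (∀ n, ρ n ∈ M22ext) ∧
    (∀ n : h.N0, n * x = x * n → ρ n = φ n) ∧ ∀ n : h.N0, ρ n = 1 → (n : G) ∈ zpowers (x * z) := by
  choose p pm hp using fun n : h.N0 => h.ex_s n.2
  have pK : ∀ n : h.N0, n * x = x * n → p n = φ n := fun n c =>
    h.uq (pm _) (M22_le_ext (h.mem _ c)) fun k hk => by rw [← hp _ k hk, h.φ_conj c hk]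
  refine ⟨MonoidHom.mk' p fun a b => h.uq (pm _) (mul_mem (pm a) (pm b)) fun k hk => ?_, pm, pK, fun n e => ?_⟩
  · rw [← hp _ k hk, show ((a * b : h.N0) : G) * k * ((a * b : h.N0) : G)⁻¹ = a * (b * k * (b : G)⁻¹) * (a : G)⁻¹ by
      push_cast; group, hp _ _ (h.conj_K' b.2 hk), hp _ k hk]
    group
  · have e' : p n = 1 := e
    have c : ∀ k, k * x = x * k → n * k * (n : G)⁻¹ * k⁻¹ ∈ zpowers (x * z) := fun k hk => by
      have c1 := h.conj_K' n.2 hk
      have c2 := mc.1 (inv_mem (mc.2 hk))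
      rw [← h.ker _ (mc.1 (mul_mem (mc.2 c1) (mc.2 c2))), h.mul _ _ c1 c2, hp _ k hk, e', h.φ_inv hk]
      group
    have c2 : (n : G) * x = x * n := by
      refine (mc.1 ((h.perf.trans (commutator_le.2 fun a ha b hb => ?_) : _ ≤ centralizer {(n : G)}) (mc.2 rfl))).symm
      have i1 := c a (mc.1 ha)
      have i2 := c b (mc.1 hb)
      obtain ⟨c1, e1⟩ : ∃ c1, c1 = n * a * (n : G)⁻¹ * a⁻¹ := ⟨_, rfl⟩
      obtain ⟨c2, e2⟩ : ∃ c2, c2 = n * b * (n : G)⁻¹ * b⁻¹ := ⟨_, rfl⟩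
      rw [← e1] at i1
      rw [← e2] at i2
      have f1 : Commute b c1 := h.ker_comm i1 (mc.1 hb)
      have f2 : Commute a c2 := h.ker_comm i2 (mc.1 ha)
      have f3 : Commute a c1 := h.ker_comm i1 (mc.1 ha)
      have f4 : Commute c1 c2 := h.ker_comm i2 (mc.1 (h.ker_le i1))
      refine mc.2 (mul_inv_eq_iff_eq_mul.1 ?_).symm
      rw [commutatorElement_def]
      calc n * (a * b * a⁻¹ * b⁻¹) * (n : G)⁻¹ = c1 * a * (c2 * b) * (c1 * a)⁻¹ * (c2 * b)⁻¹ := by rw [e1, e2]; group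
        _ = c1 * (a * c2 * b * a⁻¹) * c1⁻¹ * b⁻¹ * c2⁻¹ := by group
        _ = c2 * (a * b * a⁻¹ * b⁻¹) * c2⁻¹ := by
          rw [(((f3.symm.mul_right f4).mul_right f1.symm).mul_right f3.symm.inv_right).eq, f2.eq]; group
        _ = _ := by
          rw [← h.ker_comm i2 (mc.1 (mul_mem (mul_mem (mul_mem ha hb) (inv_mem ha)) (inv_mem hb)))]; group
    exact (h.ker n c2).1 ((pK n c2).symm.trans e')

variable [Finite G] {Q : Subgroup G} (q : Qs z Q)
include q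

theorem inf_N0 {a : G} (ha : a ∈ Q) (hn : a ∈ h.N0) : a = 1 ∨ a = z := by
  refine h.fix q ha (mul_inv_eq_iff_eq_mul.1 (hn.resolve_right fun e => h.x_not q ?_))
  have := mul_mem ha (q.conj h.zx.symm (inv_mem ha))
  rw [show a * (x * a⁻¹ * x⁻¹) = a * x * a⁻¹ * x⁻¹ by group, e, ← mul_inv_rev, ← h.xinv, inv_inv] at this
  exact this

theorem N0_le : h.N0 ≤ normalizer (Q : Set G) := fun n hn => q.norm n (h.norm_z hn)

theorem exists_pi {t : G} (ht : t * x * t⁻¹ = x⁻¹) {H : Subgroup G} (e : H = Q ⊔ h.N0) :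
    ∃ π : H →* Equiv.Perm GolayPt, π.range = M22ext ∧ ∀ g : H, π g = 1 ↔ (g : G) ∈ Q ⊔ zpowers x := by
  obtain ⟨ρ, r1, r2, r3⟩ := h.exists_rho
  have dec : ∀ g : H, ∃ n : h.N0, (g : G) * (n : G)⁻¹ ∈ Q := fun g => by
    obtain ⟨a, ha, b, hb, e⟩ := (mem_sup_iff_of_norm (h.N0_le q)).1 (e.le g.2)
    exact ⟨⟨b, hb⟩, by simpa [← e] using ha⟩
  choose L hL using dec
  have key : ∀ (g : H) (n : h.N0), (g : G) * (n : G)⁻¹ ∈ Q → ρ (L g) = ρ n := fun g n hn => by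
    have i : ((n * (L g)⁻¹ : h.N0) : G) ∈ Q := by
      have := mul_mem (inv_mem hn) (hL g)
      simpa [mul_assoc] using this
    have c : ((n * (L g)⁻¹ : h.N0) : G) * x = x * (n * (L g)⁻¹ : h.N0) ∧ φ (n * (L g)⁻¹ : h.N0) = 1 := by
      rcases h.inf_N0 q i (n * (L g)⁻¹).2 with e | e <;> rw [e]
      exacts [⟨by simp, h.φ_one⟩, ⟨h.zx, h.φ_z⟩]
    have := (r2 _ c.1).trans c.2
    rw [map_mul, map_inv, mul_inv_eq_one] at this
    exact this.symm
  let π : H →* Equiv.Perm GolayPt := MonoidHom.mk' (fun g => ρ (L g)) fun a b => by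
    rw [← map_mul]
    refine key _ _ ?_
    have := mul_mem (hL a) (conj_mem_of_normalizer (h.N0_le q (L a).2) (hL b))
    convert this using 1
    push_cast
    group
  have πN : ∀ n : h.N0, π ⟨n, e.ge (mem_sup_right n.2)⟩ = ρ n := fun n => key _ n (by simp)
  have le : Spor.M22 ≤ π.range := fun s hs => by
    obtain ⟨k, hk, rfl⟩ := h.surj s hs
    exact ⟨_, (πN ⟨k, h.K_le (mc.2 hk)⟩).trans (r2 _ hk)⟩
  have le2 : π.range ≤ M22ext := by rintro _ ⟨g, rfl⟩; exact r1 _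
  refine ⟨π, eq_of_le_of_card_ge le2 ?_, fun g => ⟨fun i => ?_, fun i => ?_⟩⟩
  · have d1 := card_dvd_of_le le
    have d2 := card_le_of_le le2
    have d3 : Nat.card π.range ≠ Nat.card Spor.M22 := fun c => by
      have c2 := eq_of_le_of_card_ge le c.le
      obtain ⟨k, hk, e1⟩ := h.surj _ (c2.ge ⟨_, πN ⟨t, Or.inr ht⟩⟩)
      have := h.ker_le (r3 ((⟨k, h.K_le (mc.2 hk)⟩ : h.N0)⁻¹ * ⟨t, Or.inr ht⟩) (by
        rw [map_mul, map_inv, r2 _ hk, ← e1, inv_mul_cancel]))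
      have := mc.1 ((mul_mem_cancel_left (inv_mem (mc.2 hk))).1 this)
      rw [this, mul_inv_cancel_right] at ht
      exact h.x_ne_inv ht
    rw [card_M22] at d1 d3
    rw [card_M22ext] at d2 ⊢
    have := Nat.card_pos (α := π.range)
    omega
  · have j : zpowers (x * z) ≤ Q ⊔ zpowers x :=
      zpowers_le.2 (mul_mem (mem_sup_right (mem_zpowers x)) (mem_sup_left q.z_mem))
    simpa using mul_mem (mem_sup_left (hL g)) (j (r3 _ i))
  · have j : zpowers x ≤ centralizer {x} := zpowers_le.2 (mc.2 rfl)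
    obtain ⟨a, ha, b, hb, e⟩ := (mem_sup_iff_of_norm (j.trans (h.K_le.trans (h.N0_le q)))).1 i
    refine (key g ⟨b, h.K_le (j hb)⟩ (by simpa [← e] using ha)).trans ((r2 _ (mc.1 (j hb))).trans ?_)
    rcases zpowers_three h.x3 hb with rfl | rfl | rfl
    exacts [h.φ_one, h.φ_x, by rw [h.φ_inv rfl, h.φ_x, inv_one]]

theorem card_N (cQ : Nat.card Q = 2 ^ 13) : Nat.card ↥(Q ⊔ zpowers x) = 3 * 2 ^ 13 := by
  refine Nat.dvd_antisymm ?_ (Nat.Coprime.mul_dvd_of_dvd_of_dvd (by norm_num) ?_ (cQ ▸ card_dvd_of_le le_sup_left))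
  · have := H1.card_sup_dvd_of_le_normalizer (zpowers_le.2 (q.norm x h.zx.symm))
    rwa [sup_comm, Nat.card_zpowers, h.x3, cQ] at this
  · rw [← h.x3, ← Nat.card_zpowers]
    exact card_dvd_of_le le_sup_right

theorem sup_le_H : Q ⊔ h.N0 ≤ centralizer {z} :=
  sup_le (fun a ha => mc.2 (q.le a ha)) fun _ hn => mc.2 (h.norm_z hn)

theorem exists_CD (l : L3 Q z) (cQ : Nat.card Q = 2 ^ 13) {t : G} (ht : t * x * t⁻¹ = x⁻¹) :
    ∃ ω s, zpowers ω = zpowers x ∧ CD z ω Q s := by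
  obtain ⟨H, eH⟩ : ∃ H, H = Q ⊔ h.N0 := ⟨_, rfl⟩
  obtain ⟨π, p1, p2⟩ := h.exists_pi q ht eH
  have QH : Q ≤ H := eH ▸ le_sup_left
  have xH : x ∈ H := eH ▸ mem_sup_right (h.K_le (mc.2 rfl))
  have Hz : ∀ g : H, (g : G) * z = z * g := fun g => mc.1 (h.sup_le_H q (eH.le g.2))
  have NH : Q ⊔ zpowers x ≤ H := sup_le QH (zpowers_le.2 xH)
  have ek : π.ker = (Q ⊔ zpowers x).subgroupOf H := Subgroup.ext p2
  have cQ' : Nat.card (Q.subgroupOf H) = 2 ^ 13 := by rw [Nat.card_congr (subgroupOfEquivOfLe QH).toEquiv, cQ]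
  have A : H31.J4X.HD (⟨z, QH q.z_mem⟩ : H) ⟨x, xH⟩ (Q.subgroupOf H) π :=
    ⟨l.toES.subgroupOf QH, (normal_subgroupOf_iff_le_normalizer QH).2 fun g hg => q.norm g (Hz ⟨g, hg⟩),
      (l.subgroupOf QH).cent, cQ', by rw [← orderOf_coe, h.x3], p1, fun a ha => (p2 a).2 (mem_sup_left ha),
      (p2 _).2 (mem_sup_right (mem_zpowers x)),
      by rw [ek, Nat.card_congr (subgroupOfEquivOfLe NH).toEquiv, h.card_N q cQ],
      fun a ha c => (h.fix q ha (congrArg Subtype.val c)).imp Subtype.ext Subtype.ext⟩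
  obtain ⟨m, m1, m2, m3⟩ := A.exists_Md
  have mz : (m.z : G) = z := by rw [m1]
  have mQ : m.Q = Q.subgroupOf H := by
    refine eq_of_le_of_card_ge (fun a ha => ?_) (by rw [cQ', m.card_Q]; norm_num)
    refine H66.J4.mem_of_card (le_sup_left : Q ≤ Q ⊔ zpowers x)
      (sup_le le_normalizer (zpowers_le.2 (q.norm x h.zx.symm))) (a := 3) (by rw [h.card_N q cQ, cQ])
      ((p2 a).1 (m3 ▸ m.π_Q ha)) (Nat.Coprime.coprime_dvd_left (orderOf_dvd_of_pow_eq_one (n := 4) ?_) (by norm_num))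
    exact congrArg Subtype.val (m.L3.pow_four ha)
  refine ⟨m.ω, fun v => m.s v, ?_, l, fun a => ⟨fun ha => ?_, ?_⟩, fun v w hv hw => ?_, fun v w a b hv hw e => ?_,
    congrArg Subtype.val m.s_zero, fun v hv => congrArg Subtype.val (m.ω_s v hv), Hz _, fun v hv e => ?_,
    fun v hv e => ?_, ?_⟩
  · have := congrArg (Subgroup.map H.subtype) m2
    rwa [MonoidHom.map_zpowers, MonoidHom.map_zpowers] at this
  · obtain ⟨v, hv, c, e⟩ := m.mem_Q.1 (mQ.ge (show (⟨a, QH ha⟩ : H) ∈ Q.subgroupOf H from ha))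
    exact ⟨v, hv, c, by rw [← mz]; exact congrArg Subtype.val e⟩
  · rintro ⟨v, hv, c, rfl⟩
    exact mul_mem (mQ.le (m.s_mem_Q hv)) (pow_mem q.z_mem c)
  · rw [← mz]; exact congrArg Subtype.val (m.s_mul v w hv hw)
  · rw [← mz] at e
    exact (m.s_eq hv hw (Subtype.ext e)).1
  · obtain ⟨k, p, a, i1, i2, rfl⟩ := Md.exists_KR_a (m := m) hv e
    exact ⟨k, Hz k, congrArg Subtype.val (i1.comm_ω i2),
      congrArg Subtype.val (i1.act0 (by norm_num) (by rw [i2, zero_mul]))⟩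
  · obtain ⟨k, p, a, i1, i2, rfl⟩ := Md.exists_KR_b (m := m) hv e
    exact ⟨k, Hz k, congrArg Subtype.val (i1.act0 (by norm_num) (by rw [i2, zero_mul]))⟩
  · obtain ⟨a, -, ka, -, a3, -⟩ := m.exists_a3
    refine ⟨a, Hz a, ?_, ?_⟩
    · rw [orderOf_coe]
      refine orderOf_eq_prime a3 fun e => ?_
      subst e
      exact absurd (ka.mat_unique m.KR_one) (by decide +kernel)
    · have := ka.act0 (v := 548) (by norm_num) (by decide +kernel)
      rw [show mv X3a 548 = 548 by decide +kernel] at this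
      exact congrArg Subtype.val (mul_inv_eq_iff_eq_mul.1 this)

theorem cent_eq (l : L3 Q z) (cQ : Nat.card Q = 2 ^ 13) {t : G} (ht : t * x * t⁻¹ = x⁻¹) :
    centralizer {z} ≤ normalizer ((Q ⊔ zpowers x : Subgroup G) : Set G) ∧ centralizer {z} = Q ⊔ h.N0 := by
  have := Fact.mk Nat.prime_three
  obtain ⟨ω, s, e, d⟩ := h.exists_CD q l cQ ht
  have n1 : ∀ g, g * z = z * g → ∀ a ∈ Q ⊔ zpowers x, g * a * g⁻¹ ∈ Q ⊔ zpowers x := fun g hg a ha => by
    refine mem_map_conj.1 ((sup_le (fun b hb => mem_map_conj.2 ?_) ?_ :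
      Q ⊔ zpowers x ≤ (Q ⊔ zpowers x).map (MulAut.conj g⁻¹).toMonoidHom) ha) |> fun i => by simpa using i
    · simpa using mem_sup_left (q.conj hg hb)
    · rw [← e]
      exact zpowers_le.2 (mem_map_conj.2 (by simpa using d.norm h.not_81 hg))
  refine ⟨le_normalizer_of_conj fun g hg => n1 g (mc.1 hg), le_antisymm (fun g hg => ?_) (h.sup_le_H q)⟩
  have cN := h.card_N q cQ
  have xN : x ∈ Q ⊔ zpowers x := mem_sup_right (mem_zpowers x)
  have syl : ∀ a : ↥(Q ⊔ zpowers x), orderOf a = 3 → ∃ P : Sylow 3 ↥(Q ⊔ zpowers x), zpowers a = P := fun a ha =>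
    ⟨Sylow.ofCard (zpowers a) (by
      rw [Nat.card_zpowers, ha, cN, Nat.factorization_mul_apply_of_coprime (by norm_num),
        Nat.Prime.factorization_self Nat.prime_three, Nat.factorization_eq_zero_of_not_dvd (by norm_num)]
      rfl), rfl⟩
  obtain ⟨P1, e1⟩ := syl ⟨x, xN⟩ (by rw [← orderOf_coe, h.x3])
  obtain ⟨P2, e2⟩ := syl ⟨_, n1 g (mc.1 hg) x xN⟩ (by rw [← orderOf_coe]; exact (h.conj g).x3)
  obtain ⟨n, hn⟩ := MulAction.exists_smul_eq ↥(Q ⊔ zpowers x) P2 P1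
  have i : n * ⟨_, n1 g (mc.1 hg) x xN⟩ * n⁻¹ ∈ zpowers (⟨x, xN⟩ : ↥(Q ⊔ zpowers x)) := by
    rw [e1, ← hn, Sylow.coe_subgroup_smul, ← e2]
    exact ⟨_, mem_zpowers _, rfl⟩
  have i2 : (n * g) * x * (n * g : G)⁻¹ ∈ zpowers x := by
    obtain ⟨k, hk⟩ := i
    exact ⟨k, by simpa [mul_assoc] using congrArg Subtype.val hk⟩
  have i3 : (n : G) * g ∈ h.N0 := (zpowers_three h.x3 i2).resolve_left (h.conj _).x1
  have i4 : (n : G) ∈ Q ⊔ h.N0 := (sup_le_sup_left (zpowers_le.2 (h.K_le (mc.2 rfl))) Q) n.2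
  exact (mul_mem_cancel_left i4).1 (mem_sup_right i3)

end Hy

theorem qs_core [Finite G] {z : G} (hz : orderOf z = 2) (h2 : IsCharacteristicTwoType G) :
    Qs z (twoCoreOfCentralizer z) := by
  have e : normalizer (zpowers z : Set G) = centralizer {z} := by
    refine le_antisymm (fun n hn => mc.2 (mul_inv_eq_iff_eq_mul.1 ?_)) (H66.J4.cent_le_norm z)
    refine ((mem_zpowers_iff_of_sq (mul_self_of_orderOf_eq_two hz)).1
      (conj_mem_of_normalizer hn (mem_zpowers z))).resolve_left fun e => ne_one_of_orderOf_eq_two hz ?_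
    simpa [mul_inv_eq_one] using e
  have c := h2.2 (zpowers z) (IsPGroup.of_card (n := 1) (by rw [Nat.card_zpowers, hz, pow_one]))
    (by simpa using ne_one_of_orderOf_eq_two hz)
  rw [e] at c
  refine ⟨H1.isPGroup_pCore.map _, fun a ha => mc.1 (map_subtype_le _ ha), fun g hg => ?_, fun g hg k => ?_⟩
  · refine mem_normalizer_of_finite ?_
    rintro _ ⟨a, ha, rfl⟩
    exact ⟨_, (pCore_normal 2 _).conj_mem a ha ⟨g, mc.2 hg⟩, rfl⟩
  · exact ⟨⟨g, mc.2 hg⟩, c fun a ha => Subtype.ext (k a ⟨a, ha, rfl⟩), rfl⟩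

/-- the recognition, given a self-centralising normal `2`-subgroup `O₂(C(z))` -/
theorem Hy.main [Finite G] {x z : G} {φ : G → Equiv.Perm GolayPt} (h : Hy x z φ)
    (q : Qs z (twoCoreOfCentralizer z)) {g : G} (c : g * x * g⁻¹ * x = x * (g * x * g⁻¹))
    (hy : g * x * g⁻¹ ∉ zpowers x) : IsOfJankoFourTypeWith z (zpowers x) := by
  have l := h.l3 q (h.conj g) c hy
  have cQ := h.card_Q q (h.conj g) c hy
  obtain ⟨t, ht⟩ := h.exists_inv (h.conj g) c hy
  obtain ⟨n1, n2⟩ := h.cent_eq q l cQ ht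
  obtain ⟨π, p1, p2⟩ := h.exists_pi q ht n2
  obtain ⟨e2⟩ := MM.M22ext_equiv
  have ek : π.ker = (twoCoreOfCentralizer z ⊔ zpowers x).subgroupOf (centralizer {z}) := Subgroup.ext p2
  have nn : ((twoCoreOfCentralizer z ⊔ zpowers x).subgroupOf (centralizer {z})).Normal := ek ▸ π.normal_ker
  have cz : centralizer (zpowers x : Set G) = centralizer {x} := by
    rw [zpowers_eq_closure, centralizer_closure]
  have KH : centralizer {x} ≤ centralizer ({z} : Set G) := fun k hk => mc.2 (h.zc k (mc.1 hk))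
  refine ⟨h.z2, l.isExtraspecial, cQ, fun a ha => q.cent a (mc.1 ha.1) ha.2,
    ⟨twoCoreOfCentralizer z ⊔ zpowers x, le_sup_left, sup_le l.le_centralizer (zpowers_le.2 (mc.2 h.zx.symm)), n1,
      by rw [h.card_N q cQ, cQ], ⟨nn, ⟨((QuotientGroup.quotientMulEquivOfEq ek.symm).trans
        ((QuotientGroup.quotientKerEquivRange π).trans (MulEquiv.subgroupCongr p1))).trans e2⟩⟩, le_sup_right⟩,
    by rw [Nat.card_zpowers, h.x3], by rw [cz, h.inf_eq q le_rfl q.z_mem], fun e => ?_, ?_⟩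
  · have : t ∈ centralizer {z} ⊓ normalizer (zpowers x : Set G) := ⟨mc.2 (h.norm_z (Or.inr ht)),
      mem_normalizer_of_finite (by
        rintro _ ⟨k, rfl⟩
        show t * x ^ k * t⁻¹ ∈ _
        rw [← conj_zpow, ht]
        exact zpow_mem (inv_mem (mem_zpowers x)) k)⟩
    rw [e, cz] at this
    rw [mc.1 this.2, mul_inv_cancel_right] at ht
    exact h.x_ne_inv ht
  · rw [cz, inf_eq_right.2 KH]
    exact (zpowers_le.2 (mc.2 rfl)).trans h.perf

/-- the fusion hypothesis in terms of elements -/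
theorem Hy.fusion [Finite G] {x z : G} {φ : G → Equiv.Perm GolayPt} (h : Hy x z φ) (S : Sylow 3 G) (g : G)
    (hng : ((center (S : Subgroup G)).map (S : Subgroup G).subtype).map (MulAut.conj g).toMonoidHom ≤ (S : Subgroup G))
    (hne : ((center (S : Subgroup G)).map (S : Subgroup G).subtype).map (MulAut.conj g).toMonoidHom ≠
      (center (S : Subgroup G)).map (S : Subgroup G).subtype) :
    ∃ x z φ, Hy x z φ ∧ g * x * g⁻¹ * x = x * (g * x * g⁻¹) ∧ g * x * g⁻¹ ∉ zpowers x := by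
  obtain ⟨x, z, φ, h, hx, hK, c⟩ := h.exists_in S
  have e : (center (S : Subgroup G)).map (S : Subgroup G).subtype = zpowers x := by
    refine le_antisymm (fun a ha => ?_) (zpowers_le.2 (mem_center_map_iff.2 ⟨hx, fun y hy => mc.1 (hK hy)⟩))
    rw [mem_center_map_iff] at ha
    exact (h.P_facts hK c hx).1 a ha.1 ha.2
  rw [e, MonoidHom.map_zpowers] at hng hne
  refine ⟨x, z, φ, h, mc.1 (hK (hng (mem_zpowers _))), fun i => hne (eq_of_le_of_card_ge (zpowers_le.2 i) ?_)⟩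
  rw [Nat.card_zpowers, Nat.card_zpowers, h.x3]
  exact (h.conj g).x3.ge

end H66.Six
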